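import Cfsg.Agent.StdO.Defs
import Cfsg.Agent.Mult.OMain
import Cfsg.Agent.Mult.SporGen
import Cfsg.Agent.Class.Orth.Invol2

/-! Calculus of Siegel elements and of the action of semilinear isometries (all easy; from
`Class/Orth/Defs`, `KSG/AutOrth1`, `KSG/AutOrth4`; `-v = v` in characteristic two). -/

set_option autoImplicit false
set_option linter.unusedSectionVars false
set_option linter.unusedVariables false

namespace Cfsg.Agent.StdO

open Subgroup Module QuadraticMap Cfsg.Agent.Class.Orth Cfsg.Agent.KSG Cfsg.Agent.PLocal.Amb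
  Cfsg.Agent.Lyons
open Cfsg.Agent.StdL (cjh)
open scoped commutatorElement

variable {F V : Type*} [Field F] [Finite F] [CharP F 2] [AddCommGroup V] [Module F V]
  [FiniteDimensional F V] {Q : QuadraticForm F V} {G : Type*} [Group G] [Finite G]
  {ι : EG Q →* G} {t : G}

local notation "𝐟" => polar Q

variable {u v w x y e : V} {a b : F} {g h z : EG Q} {T T' : SS Q} {n n' : G}

theorem two_zero (F : Type*) [Field F] [CharP F 2] : (2 : F) = 0 := CharTwo.two_eq_zero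

variable (F) in
include F in
theorem add_self' (v : V) : v + v = 0 := by
  rw [← two_smul F v, two_zero, zero_smul]

variable (F) in
include F in
theorem neg_eq' (v : V) : -v = v := neg_eq_of_add_eq_zero_left (add_self' F v)

variable (F) in
include F in
theorem sub_eq' (v w : V) : v - w = v + w := by rw [sub_eq_add_neg, neg_eq' F]

theorem f_self (v : V) : 𝐟 v v = 0 := by rw [polar_self', two_zero, zero_mul]

theorem Q_add (v w : V) : Q (v + w) = Q v + Q w + 𝐟 v w := Class.Orth.Q_add Q v w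

theorem sg_apply (h : Ok Q u w) (x : V) :
    (sg Q u w).1.1 x = x + (𝐟 x w + Q w * 𝐟 x u) • u + 𝐟 x u • w := by
  rw [coe_sg, eichler_apply h.l h.p, sub_eq' F, CharTwo.sub_eq_add]

theorem sg_apply_perp (h : Ok Q u w) (hx : 𝐟 x u = 0) : (sg Q u w).1.1 x = x + 𝐟 x w • u :=
  eichler_apply_of_perp h.l h.p hx

theorem sg_fix (hx : 𝐟 x u = 0) (hx' : 𝐟 x w = 0) : (sg Q u w).1.1 x = x :=
  eichler_apply_of_perp_perp hx hx'

theorem sg_add (h : Ok Q u v) (h' : Ok Q u w) : sg Q u (v + w) = sg Q u v * sg Q u w :=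
  Subtype.ext (eichler_add h.l h.p h'.p)

theorem sg_zero (u : V) : sg Q u 0 = 1 := Subtype.ext (eichler_zero u)

theorem sg_zero_left (w : V) : sg Q 0 w = 1 := Subtype.ext (OG.ext fun x => by
  rw [sg_apply_perp ⟨Q.map_zero, polar_zero_left Q w⟩ (polar_zero_right Q x), smul_zero, add_zero]
  rfl)

theorem sg_sq (u w : V) : sg Q u w * sg Q u w = 1 := by
  by_cases h : Q u = 0 ∧ 𝐟 u w = 0
  · rw [← sg_add ⟨h.1, h.2⟩ ⟨h.1, h.2⟩, add_self' F, sg_zero]
  · rw [show sg Q u w = 1 from Subtype.ext (eichler_of_not h), one_mul]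

theorem sg_inv (u w : V) : (sg Q u w)⁻¹ = sg Q u w := inv_eq_of_mul_eq_one_right (sg_sq u w)

theorem sg_comm (u v w : V) : Commute (sg Q u v) (sg Q u w) := Subtype.ext (eichler_commute u v w)

theorem sg_smul (h : Ok Q u w) (a : F) : sg Q (a • u) w = sg Q u (a • w) :=
  Subtype.ext (eichler_smul_left h.l h.p a)

theorem sg_self (h : Q u = 0) (a : F) : sg Q u (a • u) = 1 := Subtype.ext (eichler_self_smul h a)

theorem sg_add_smul (h : Ok Q u w) (a : F) : sg Q u (w + a • u) = sg Q u w :=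
  Subtype.ext (eichler_add_smul h.l h.p a)

theorem sg_swap (h : TS2 Q u w) : sg Q u w = sg Q w u :=
  Subtype.ext (by rw [coe_sg, coe_sg, h.swap, neg_eq' F])

theorem sg_add_left (h : TS2 Q u w) (h' : TS2 Q v w) (e : 𝐟 u v = 0) :
    sg Q (u + v) w = sg Q u w * sg Q v w := by
  have h2 : TS2 Q (u + v) w := ⟨by rw [Q_add, h.l, h'.l, e, add_zero, add_zero], h.r,
    by rw [polar_add_left, h.p, h'.p, add_zero]⟩
  rw [sg_swap h2, sg_add (ok_of h.symm) (ok_of h'.symm), sg_swap h, sg_swap h']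

theorem conj_sg (g : EG Q) (u w : V) : g * sg Q u w * g⁻¹ = sg Q (g.1.1 u) (g.1.1 w) :=
  Subtype.ext (conj_eichler g.1 u w)

theorem comm_sg (h1 : g.1.1 u = u) (h2 : g.1.1 w = w) : Commute g (sg Q u w) :=
  mul_inv_eq_iff_eq_mul.1 (by rw [conj_sg, h1, h2])

theorem cm_sg (h : Ok Q u w) (h1 : g.1.1 u = u) : ⁅g, sg Q u w⁆ = sg Q u (g.1.1 w + w) := by
  rw [commutatorElement_def, conj_sg, h1, sg_inv, sg_add ⟨h.l, by
    rw [← h1, OG.map_polar, h.p]⟩ h]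

theorem sg_eq_one (hQ : ND Q) (h : Ok Q u w) (h0 : u ≠ 0) : sg Q u w = 1 ↔ ∃ a : F, w = a • u :=
  Subtype.ext_iff.trans (eichler_eq_one_iff hQ h0 h.l h.p)

theorem sg_inj (hQ : ND Q) (h : Ok Q u v) (h' : Ok Q u w) (h0 : u ≠ 0) :
    sg Q u v = sg Q u w ↔ ∃ a : F, v = w + a • u := by
  refine ⟨fun e => ?_, ?_⟩
  · obtain ⟨c, hc⟩ := eichler_inj hQ h0 h.l h.p h'.p (congrArg Subtype.val e)
    exact ⟨c, sub_eq_iff_eq_add'.1 hc⟩
  · rintro ⟨a, rfl⟩
    exact sg_add_smul h' a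

theorem mov_sg (hQ : ND Q) (h : Ok Q u w) (h1 : sg Q u w ≠ 1) :
    mov (sg Q u w).1 = Submodule.span F {u, w} := by
  have h0 : u ≠ 0 := by rintro rfl; exact h1 (sg_zero_left w)
  have h2 : u ∈ mov (sg Q u w).1 := by
    obtain ⟨x, -, e1, e2⟩ := hQ.ndon_top.exists_polar_eq_eq_zero (x := w) (y := u) trivial trivial
      (fun c e => h1 ((sg_eq_one hQ h h0).2 ⟨c, e⟩)) (-1)
    refine ⟨x, ?_⟩
    rw [movMap_apply, sg_apply_perp h (by rw [polar_comm, e2]), polar_comm, e1]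
    module
  refine le_antisymm (mov_eichler_le h.l h.p) (Submodule.span_le.2 ?_)
  rintro _ (rfl | rfl)
  · exact h2
  · obtain ⟨c, hc⟩ := exists_mem_mov_eichler hQ h0 h.l h.p
    simpa using Submodule.sub_mem _ hc (Submodule.smul_mem _ c h2)

/-- `mov` is `⟨u, w⟩`; for non-singular `w` its singular vectors are `⟨u⟩`. -/
theorem eq_of_sg_eq (hQ : ND Q) (h : Ok Q u w) (h' : Ok Q v y) (h0 : u ≠ 0) (hw : Q w ≠ 0)
    (e : sg Q u w = sg Q v y) : ∃ a : F, a ≠ 0 ∧ v = a • u := by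
  have h1 : sg Q u w ≠ 1 := fun c => by
    obtain ⟨a, rfl⟩ := (sg_eq_one hQ h h0).1 c
    exact hw (by rw [Q_smul, h.l, mul_zero])
  have h2 : v ∈ mov (sg Q u w).1 := by
    rw [e, mov_sg hQ h' (e ▸ h1)]; exact Submodule.subset_span (by simp)
  rw [mov_sg hQ h h1] at h2
  obtain ⟨a, b, rfl⟩ := Submodule.mem_span_pair.1 h2
  have h3 := h'.l
  rw [Q_add, Q_smul, Q_smul, polar_smul_left', polar_smul_right', h.l, h.p] at h3
  obtain rfl : b = 0 := by simpa [hw] using h3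
  refine ⟨a, ?_, by rw [zero_smul, add_zero]⟩
  rintro rfl
  exact h1 (by rw [e, zero_smul, zero_smul, add_zero, sg_zero_left])

/-- `TS2.mov_eq` -/
theorem span_of_sg_eq (hQ : ND Q) (h : Ok Q u w) (h' : Ok Q v y) (h1 : sg Q u w ≠ 1)
    (e : sg Q u w = sg Q v y) : Submodule.span F {u, w} = Submodule.span F {v, y} := by
  rw [← mov_sg hQ h h1, e, mov_sg hQ h' (e ▸ h1)]

theorem Ok.smul (h : Ok Q u w) (a : F) : Ok Q u (a • w) := ⟨h.l, by rw [polar_smul_right', h.p, mul_zero]⟩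

theorem Ok.add (h : Ok Q u v) (h' : Ok Q u w) : Ok Q u (v + w) :=
  ⟨h.l, by rw [polar_add_right, h.p, h'.p, add_zero]⟩

theorem Ok.map (h : Ok Q u w) (g : EG Q) : Ok Q (g.1.1 u) (g.1.1 w) :=
  ⟨by rw [OG.map_Q, h.l], by rw [OG.map_polar, h.p]⟩

theorem Ok.sg (h : Ok Q u w) : Sg (sg Q u w) := ⟨u, w, h, rfl⟩

theorem Sg.conj (h : Sg z) (g : EG Q) : Sg (g * z * g⁻¹) := by
  obtain ⟨u, w, o, rfl⟩ := h
  exact ⟨_, _, o.map g, conj_sg g u w⟩

theorem sg_of_root (h : IsRoot z.1) : Sg z := by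
  obtain ⟨-, u, v, o, e⟩ := h
  exact ⟨u, v, ok_of o, Subtype.ext e⟩

theorem root_conj (h : IsRoot z.1) (g : EG Q) : IsRoot (g * z * g⁻¹).1 := h.conj g.1

theorem ti2_iff : TI Q ![u, e] ↔ TS2 Q u e ∧ u ≠ 0 ∧ ∀ a : F, e ≠ a • u := by
  refine ⟨fun h => ⟨⟨h.q 0, h.q 1, h.p 0 1⟩, h.li.ne_zero 0, fun a c =>
    (LinearIndependent.pair_iff' (h.li.ne_zero 0)).1 h.li a c.symm⟩, fun ⟨h, h0, h1⟩ =>
    ⟨(LinearIndependent.pair_iff' h0).2 fun a c => h1 a c.symm, fun i => ?_, fun i j => ?_⟩⟩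
  · fin_cases i
    exacts [h.l, h.r]
  · fin_cases i <;> fin_cases j
    exacts [f_self _, h.p, h.p', f_self _]

theorem ti3_iff : TI Q ![u, v, w] ↔ TS2 Q u v ∧ TS2 Q u w ∧ 𝐟 v w = 0 ∧
    ∀ a b d : F, a • u + b • v + d • w = 0 → a = 0 ∧ b = 0 ∧ d = 0 := by
  refine ⟨fun h => ⟨⟨h.q 0, h.q 1, h.p 0 1⟩, ⟨h.q 0, h.q 2, h.p 0 2⟩, h.p 1 2, fun a b d c => ?_⟩,
    fun ⟨h1, h2, h3, h4⟩ => ⟨Fintype.linearIndependent_iff.2 fun g c i => ?_, fun i => ?_,
      fun i j => ?_⟩⟩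
  · have := Fintype.linearIndependent_iff.1 h.li ![a, b, d] (by rw [Fin.sum_univ_three]; exact c)
    exact ⟨this 0, this 1, this 2⟩
  · rw [Fin.sum_univ_three] at c
    obtain ⟨e1, e2, e3⟩ := h4 _ _ _ c
    fin_cases i
    exacts [e1, e2, e3]
  · fin_cases i
    exacts [h1.l, h1.r, h2.r]
  · fin_cases i <;> fin_cases j
    exacts [f_self _, h1.p, h2.p, h1.p', f_self _, h3, h2.p', (polar_comm Q _ _).trans h3,
      f_self _]

theorem ti4_iff : TI Q ![u, v, w, x] ↔ TS2 Q u v ∧ TS2 Q u w ∧ TS2 Q u x ∧ 𝐟 v w = 0 ∧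
    𝐟 v x = 0 ∧ 𝐟 w x = 0 ∧ ∀ a b d d' : F, a • u + b • v + d • w + d' • x = 0 →
      a = 0 ∧ b = 0 ∧ d = 0 ∧ d' = 0 := by
  refine ⟨fun h => ⟨⟨h.q 0, h.q 1, h.p 0 1⟩, ⟨h.q 0, h.q 2, h.p 0 2⟩, ⟨h.q 0, h.q 3, h.p 0 3⟩,
    h.p 1 2, h.p 1 3, h.p 2 3, fun a b d d' c => ?_⟩,
    fun ⟨h1, h2, h3, h4, h5, h6, h7⟩ => ⟨Fintype.linearIndependent_iff.2 fun g c i => ?_,
      fun i => ?_, fun i j => ?_⟩⟩
  · have := Fintype.linearIndependent_iff.1 h.li ![a, b, d, d']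
      (by rw [Fin.sum_univ_four]; exact c)
    exact ⟨this 0, this 1, this 2, this 3⟩
  · rw [Fin.sum_univ_four] at c
    obtain ⟨e1, e2, e3, e4⟩ := h7 _ _ _ _ c
    fin_cases i
    exacts [e1, e2, e3, e4]
  · fin_cases i
    exacts [h1.l, h1.r, h2.r, h3.r]
  · fin_cases i <;> fin_cases j
    exacts [f_self _, h1.p, h2.p, h3.p, h1.p', f_self _, h4, h5, h2.p',
      (polar_comm Q _ _).trans h4, f_self _, h6, h3.p', (polar_comm Q _ _).trans h5,
      (polar_comm Q _ _).trans h6, f_self _]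

theorem TI.map {k : ℕ} {v : Fin k → V} (h : TI Q v) (g : OG Q) : TI Q fun i => g.1 (v i) :=
  ⟨h.li.map' (g.1 : V →ₗ[F] V) g.1.ker, fun i => by rw [OG.map_Q, h.q],
    fun i j => by rw [OG.map_polar, h.p]⟩

theorem mem_perp_span {s : Set V} : x ∈ perp Q (Submodule.span F s) ↔ ∀ u ∈ s, 𝐟 u x = 0 := by
  refine ⟨fun h u hu => h u (Submodule.subset_span hu), fun h u hu => ?_⟩
  induction hu using Submodule.span_induction with
  | mem x hx => exact h x hx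
  | zero => exact polar_zero_left Q x
  | add a b _ _ i1 i2 => rw [polar_add_left, i1, i2, add_zero]
  | smul a y _ i1 => rw [polar_smul_left', i1, mul_zero]

theorem mem_Fx_span {s : Set V} : g ∈ Fx Q (Submodule.span F s) ↔ ∀ u ∈ s, g.1.1 u = u := by
  refine ⟨fun h u hu => h u (Submodule.subset_span hu), fun h u hu => ?_⟩
  induction hu using Submodule.span_induction with
  | mem x hx => exact h x hx
  | zero => exact map_zero _
  | add a b _ _ i1 i2 => exact (map_add _ _ _).trans (congrArg₂ _ i1 i2)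
  | smul a y _ i1 => exact (map_smul _ _ _).trans (congrArg _ i1)

theorem TI.ts {k : ℕ} {v : Fin k → V} (h : TI Q v) : TS Q (Submodule.span F (Set.range v)) := by
  have h1 : ∀ i, v i ∈ perp Q (Submodule.span F (Set.range v)) := fun i =>
    mem_perp_span.2 (by rintro _ ⟨j, rfl⟩; exact h.p j i)
  have h2 : Submodule.span F (Set.range v) ≤ perp Q (Submodule.span F (Set.range v)) :=
    Submodule.span_le.2 (by rintro _ ⟨i, rfl⟩; exact h1 i)
  intro x hx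
  induction hx using Submodule.span_induction with
  | mem x hx => obtain ⟨i, rfl⟩ := hx; exact h.q i
  | zero => exact Q.map_zero
  | add x y hx hy i1 i2 => rw [Q_add, i1, i2, h2 hy x hx, add_zero, add_zero]
  | smul a x _ i1 => rw [Q_smul, i1, mul_zero]

theorem TI.root (hQ : ND Q) (h : TI Q ![u, e]) (ha : a ≠ 0) : IsRoot (sg Q u (a • e)).1 := by
  obtain ⟨h1, h2, h3⟩ := ti2_iff.1 h
  refine ⟨fun c => ?_, u, _, h1.smul_right a, rfl⟩
  obtain ⟨b, hb⟩ := (eichler_eq_one_iff hQ h2 h1.l (h1.smul_right a).p).1 c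
  exact h3 (a⁻¹ * b) (by rw [mul_smul, ← hb, inv_smul_smul₀ ha])

theorem root_iff (hQ : ND Q) : IsRoot z.1 ↔ ∃ u e, TI Q ![u, e] ∧ z = sg Q u e := by
  refine ⟨fun ⟨h1, u, v, h, e⟩ => ⟨u, v, ti2_iff.2 ⟨h, h.left_ne_zero (e ▸ h1), h.ne_smul (e ▸ h1)⟩,
    Subtype.ext e⟩, ?_⟩
  rintro ⟨u, e, h, rfl⟩
  simpa using h.root hQ one_ne_zero

theorem root_or (hQ : ND Q) (h : TS2 Q u v) : sg Q u v = 1 ∨ TI Q ![u, v] := by
  by_cases h1 : eichler Q u v = 1
  · exact .inl (Subtype.ext h1)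
  · exact .inr (ti2_iff.2 ⟨h, h.left_ne_zero h1, h.ne_smul h1⟩)

theorem mem_perp1 : x ∈ perp Q (Submodule.span F {u}) ↔ 𝐟 u x = 0 := mem_perp_span_singleton

theorem mem_perp2'' : x ∈ perp Q (Submodule.span F {u, e}) ↔ 𝐟 u x = 0 ∧ 𝐟 e x = 0 := by
  simp [mem_perp_span]

theorem mem_perp3 : x ∈ perp Q (Submodule.span F {u, v, w}) ↔ 𝐟 u x = 0 ∧ 𝐟 v x = 0 ∧ 𝐟 w x = 0 := by
  simp [mem_perp_span]

theorem mem_Fx2 : g ∈ Fx Q (Submodule.span F {u, e}) ↔ g.1.1 u = u ∧ g.1.1 e = e := by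
  simp [mem_Fx_span]

theorem mem_Fx3 : g ∈ Fx Q (Submodule.span F {u, v, w}) ↔
    g.1.1 u = u ∧ g.1.1 v = v ∧ g.1.1 w = w := by
  simp [mem_Fx_span]

theorem sg_mem_Fx {U : Submodule F V} (h1 : u ∈ perp Q U) (h2 : w ∈ perp Q U) :
    sg Q u w ∈ Fx Q U := fun x hx => sg_fix (h1 x hx) (h2 x hx)

theorem mem_VU {Y : Submodule F V} (h : Q u = 0) (hY : ∀ w ∈ Y, 𝐟 u w = 0) :
    g ∈ VU Q u Y ↔ ∃ w ∈ Y, g = sg Q u w := by
  refine ⟨fun hg => ?_, fun hg => subset_closure hg⟩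
  induction hg using closure_induction with
  | mem x hx => exact hx
  | one => exact ⟨0, Y.zero_mem, (sg_zero u).symm⟩
  | mul x y _ _ i1 i2 =>
    obtain ⟨w, hw, rfl⟩ := i1
    obtain ⟨w', hw', rfl⟩ := i2
    exact ⟨w + w', Y.add_mem hw hw', (sg_add ⟨h, hY w hw⟩ ⟨h, hY w' hw'⟩).symm⟩
  | inv x _ i1 =>
    obtain ⟨w, hw, rfl⟩ := i1
    exact ⟨w, hw, sg_inv u w⟩

/-- `ζ` is additive -/
theorem ζ_add (h : TS2 Q u e) (a b : F) : ζ ι u e (a + b) = ζ ι u e a * ζ ι u e b := by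
  rw [ζ, ζ, ζ, add_smul, sg_add ((ok_of h).smul a) ((ok_of h).smul b), map_mul]

theorem ζ_one (u e : V) : ζ ι u e 1 = ι (sg Q u e) := by rw [ζ, one_smul]

theorem cE_apply (T : SS Q) (g : EG Q) (x : V) : (cE T g).1.1 (T.T x) = T.T (g.1.1 x) :=
  SS.cj_apply T g.1 x

theorem cE_sg (hc : T.c = 1) (h : Ok Q u w) : cE T (sg Q u w) = sg Q (T.T u) (T.T w) :=
  Subtype.ext (by rw [coe_cE, coe_sg, SS.cj_eichler T h.l h.p, hc, inv_one, one_smul, coe_sg])

theorem cE_mul (T T' : SS Q) (g : EG Q) : cE (T * T') g = cE T (cE T' g) :=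
  Subtype.ext (by rw [coe_cE, map_mul]; rfl)

theorem cE_one (g : EG Q) : cE (1 : SS Q) g = g := Subtype.ext (by rw [coe_cE, map_one]; rfl)

theorem cE_oO (k : OG Q) (g : EG Q) : (cE (SS.oO Q k) g).1 = k * g.1 * k⁻¹ := SS.cj_oO k g.1

theorem cE_oO' (k g : EG Q) : cE (SS.oO Q k.1) g = k * g * k⁻¹ := Subtype.ext (cE_oO k.1 g)

theorem ac_self (ι : EG Q →* G) (g : EG Q) : Ac ι (ι g) (SS.oO Q g.1) :=
  ⟨rfl, fun x => by rw [cE_oO', map_mul, map_mul, map_inv]⟩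

theorem ac_one (h : n ∈ 𝐂[ι.range]) : Ac ι n 1 :=
  ⟨rfl, fun x => by rw [cE_one, ← h _ ⟨x, rfl⟩, mul_inv_cancel_right]⟩

theorem Ac.mul (h : Ac ι n T) (h' : Ac ι n' T') : Ac ι (n * n') (T * T') :=
  ⟨by rw [SS.mul_c, h.c, h'.c, map_one, mul_one], fun x => by
    rw [cE_mul, ← h.act, ← h'.act]; group⟩

theorem Ac.inv (h : Ac ι n T) : Ac ι n⁻¹ T⁻¹ :=
  ⟨by rw [SS.inv_c, h.c, inv_one, map_one], fun x => by
    have := h.act (cE T⁻¹ x)
    rw [← cE_mul, mul_inv_cancel, cE_one] at this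
    rw [← this]; group⟩

theorem Ac.pow (h : Ac ι n T) (k : ℕ) : Ac ι (n ^ k) (T ^ k) := by
  induction k with
  | zero => rw [pow_zero, pow_zero]; exact ac_one (one_mem _)
  | succ k ih => rw [pow_succ, pow_succ]; exact ih.mul h

theorem Ac.sg (h : Ac ι n T) (o : Ok Q u w) :
    n * ι (sg Q u w) * n⁻¹ = ι (sg Q (T.T u) (T.T w)) := by rw [h.act, cE_sg h.c o]

theorem Ac.mem_norm (h : Ac ι n T) : n ∈ 𝐍[ι.range] :=
  mem_normalizer_of_cj_le (cj_le_iff_forall.2 (by rintro _ ⟨x, rfl⟩; exact ⟨_, (h.act x).symm⟩))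

theorem Ac.cent (h : Ac ι n 1) : n ∈ 𝐂[ι.range] := by
  rintro _ ⟨x, rfl⟩
  have := h.act x
  rw [cE_one] at this
  exact (mul_inv_eq_iff_eq_mul.1 this).symm

/-- `n ι(g)⁻¹` centralizes `L` -/
theorem Ac.inner (h : Ac ι n (SS.oO Q g.1)) : n * (ι g)⁻¹ ∈ 𝐂[ι.range] := by
  have := h.mul (ac_self ι g).inv
  rw [mul_inv_cancel] at this
  exact this.cent

theorem Ac.cjh (h : Ac ι n T) (k : G) : Ac (cjh k ι) (k * n * k⁻¹) T :=
  ⟨h.c, fun x => by rw [StdL.cjh_apply, StdL.cjh_apply, ← h.act]; group⟩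

theorem Ac.q (h : Ac ι n T) (x : V) : Q (T.T x) = T.σ (Q x) := by rw [T.q, h.c, one_mul]

theorem Ac.pol (h : Ac ι n T) (x y : V) : 𝐟 (T.T x) (T.T y) = T.σ (𝐟 x y) := by
  rw [T.pol, h.c, one_mul]

theorem finite_EG : Finite (EG Q) := by
  have : Finite V := Module.finite_of_finite F
  have : Finite (V ≃ₗ[F] V) := Finite.of_injective _ DFunLike.coe_injective
  infer_instance

theorem Dm.comm_eq (h : Dm Q) : commutator (OG Q) = EG Q :=
  h.nd.commutator_eq_EG_of_five_le (by have := h.d8; omega)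

theorem Dm.reflGen (h : Dm Q) : ReflGen Q := h.nd.reflGen (.inr (by have := h.d8; omega))

/-- `commutator_eq_ker_dickson` -/
theorem Dm.mem_EG (h : Dm Q) {k : OG Q} : k ∈ EG Q ↔ Even (finrank F (mov k)) := by
  rw [← h.comm_eq, commutator_eq_ker_dickson h.nd h.reflGen (two_zero F), MonoidHom.mem_ker,
    dickson_eq_one_iff]

theorem Dm.refl_notMem (h : Dm Q) (hv : Q v ≠ 0) : refl Q v ∉ EG Q := by
  rw [← h.comm_eq, commutator_eq_ker_dickson h.nd h.reflGen (two_zero F), MonoidHom.mem_ker,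
    dickson_refl _ _ hv]
  decide

theorem Dm.mul_mem (h : Dm Q) {k k' : OG Q} (h1 : k ∉ EG Q) (h2 : k' ∉ EG Q) : k * k' ∈ EG Q := by
  rw [← h.comm_eq, commutator_eq_ker_dickson h.nd h.reflGen (two_zero F),
    MonoidHom.mem_ker] at h1 h2 ⊢
  rw [map_mul, (Int.units_eq_one_or _).resolve_left h1, (Int.units_eq_one_or _).resolve_left h2]
  decide

/-- `ND.even_of_TS_mov` -/
theorem Dm.mem_of_ts (h : Dm Q) {k : OG Q} (h1 : TS Q (mov k)) : k ∈ EG Q :=
  h.mem_EG.2 (h.nd.even_of_TS_mov h1)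

theorem Dm.hypScale_mem (h : Dm Q) {f : V} (o : IsHyp Q e f) (ha : a ≠ 0) :
    hypScale Q e f a ∈ EG Q := by
  have : ∀ c : F, Q (e + c • f) = c := fun c => by
    rw [Q_add, Q_smul, polar_smul_right', o.left, o.right, o.pol]; ring
  exact h.mul_mem (h.refl_notMem (by rw [this]; exact one_ne_zero))
    (h.refl_notMem (by rw [this]; exact ha))

theorem Dm.even (h : Dm Q) : Even (finrank F V) :=
  Class.Symm2.even_finrank_of_alt (χ := polarBilin Q) f_self h.nd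

theorem Dm.simple (h : Dm Q) : IsSimpleGroup (EG Q) := by
  have h5 : 5 ≤ finrank F V := by have := h.d8; omega
  have n1 : negOne Q = 1 := OG.ext fun x => neg_eq' F x
  have : Nontrivial (commutator (OG Q)) := by
    have := (h.nd.isSimpleGroup_POmega h5).toNontrivial
    exact (QuotientGroup.mk_surjective (s := center (commutator (OG Q)))).nontrivial
  rw [← h.comm_eq]
  refine ⟨fun N hN => (h.nd.normal_Omega h5 N).symm.imp_left fun e => eq_bot_iff.2 fun x hx => ?_⟩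
  exact Subtype.ext ((e x hx).elim id fun c => c.trans n1)

theorem Dm.perfect (h : Dm Q) : commutator (EG Q) = ⊤ := by
  rw [← h.comm_eq]; exact h.nd.commutator_Omega_eq_top (by have := h.d8; omega)

theorem Dm.center (h : Dm Q) (e : ∀ k, Commute g k) : g = 1 := by
  have := (h.nd.mem_center_Omega (by have := h.d8; omega) ⟨g.1, h.comm_eq.ge g.2⟩).1
    (mem_center_iff.2 fun k => Subtype.ext (congrArg Subtype.val (e ⟨k.1, h.comm_eq.le k.2⟩)).symm)
  exact Subtype.ext (this.elim id fun c => c.trans (OG.ext fun x => neg_eq' F x))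

/-- `Mult.mcard_Omega_le` -/
theorem Dm.mcard (h : Dm Q) : Mult.mcard (EG Q) = 1 := by
  have : Finite V := Module.finite_of_finite F
  have := h.d8
  rw [← h.comm_eq]
  exact (Mult.mcard_Omega_le h.nd (by omega) (fun _ => this)
    fun c c' => absurd (h.q2 c) (by omega)).2 (two_zero F)

/-- `ND.EG_le_of_singular` -/
theorem Dm.gen (h : Dm Q) {H : Subgroup (EG Q)} (e : ∀ u v, TI Q ![u, v] → sg Q u v ∈ H) : H = ⊤ := by
  have := h.nd.EG_le_of_singular (by have := h.d8; omega) (H.map (EG Q).subtype)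
    fun u v h1 h2 h3 => ⟨sg Q u v, (root_or h.nd ⟨h1, h2, h3⟩).elim (fun c => c ▸ H.one_mem) (e u v),
      rfl⟩
  refine eq_top_iff.2 fun x _ => ?_
  obtain ⟨y, hy, c⟩ := this x.2
  exact Subtype.ext c ▸ hy

/-- the representation used in `KSG/AutOrth*` -/
theorem Dm.exists_rep (h : Dm Q) : ∃ D : OmegaRep Q (EG Q), ∀ g, D.ρ g = g.1 :=
  ⟨⟨(EG Q).subtype, subtype_injective _, by rw [range_subtype, h.comm_eq]⟩, fun _ => rfl⟩

/-- `SS.exists_eq_sO`, and `a² = 1` gives `a = 1`. -/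
theorem Dm.eq_one (h : Dm Q) (hc : T.c = 1) (e : ∀ g, cE T g = g) : T = 1 := by
  obtain ⟨a, rfl⟩ := SS.exists_eq_sO h.nd (by have := h.d8; omega) (x := T)
    fun u v _ _ => .inl (congrArg Subtype.val (e (sg Q u v)))
  have h1 : (a : F) ^ 2 = 1 := hc
  have h2 : (a : F) = 1 := (sq_eq_one_iff.1 h1).elim id fun c => c.trans (CharTwo.neg_eq 1)
  rw [show a = 1 from Units.ext h2, map_one]

/-- multiply by a scalar -/
theorem exists_c_one (T : SS Q) : ∃ T' : SS Q, T'.c = 1 ∧ T'.σ = T.σ ∧ ∀ g, cE T' g = cE T g := by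
  obtain ⟨a, ha⟩ := FiniteField.isSquare_of_char_two (ringChar.eq F 2) T.c
  have h0 : a ≠ 0 := by rintro rfl; exact T.ne (by simpa using ha)
  refine ⟨SS.sO Q (Units.mk0 a h0)⁻¹ * T, ?_, one_mul _, fun g => ?_⟩
  · show (a⁻¹) ^ 2 * T.c = 1
    rw [ha]; field_simp
  · rw [cE_mul]; exact Subtype.ext (SS.cj_sO _ _)

theorem Rp.uniq (h : Rp ι) (h1 : Ac ι n T) (h2 : Ac ι n T') : T = T' := by
  have h3 := h1.inv.mul h2
  rw [inv_mul_cancel] at h3
  exact inv_mul_eq_one.1 (h.eq_one h3.c fun g => h.inj (by rw [← h3.act]; group))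

theorem Rp.cjh (h : Rp ι) (k : G) : Rp (cjh k ι) := ⟨h.toDm, (MulAut.conj k).injective.comp h.inj⟩

theorem Rp.comp (h : Rp ι) (α : MulAut (EG Q)) : Rp (ι.comp α.toMonoidHom) :=
  ⟨h.toDm, h.inj.comp α.injective⟩

theorem range_comp_aut (ι : EG Q →* G) (α : MulAut (EG Q)) :
    (ι.comp α.toMonoidHom).range = ι.range := by
  rw [MonoidHom.range_comp, MonoidHom.range_eq_top.2 α.surjective, ← MonoidHom.range_eq_map]

theorem Rp.eq_one (h : Rp ι) {x : G} (h1 : x ∈ ι.range) (h2 : x ∈ 𝐂[ι.range]) : x = 1 := by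
  obtain ⟨g, rfl⟩ := h1
  rw [h.center (g := g) fun k => h.inj (by rw [map_mul, map_mul]; exact (h2 _ ⟨k, rfl⟩).symm),
    map_one]

theorem Rp.comm_iff (h : Rp ι) : Commute (ι g) (ι z) ↔ Commute g z :=
  ⟨fun c => h.inj (by rw [map_mul, map_mul]; exact c), fun c => c.map ι⟩

/-- if `n` acts as `T` and commutes with `ι g` then `T` fixes `g` -/
theorem Rp.fix (h : Rp ι) (h1 : Ac ι n T) (h2 : Commute n (ι g)) : cE T g = g :=
  h.inj (by rw [← h1.act, h2.eq, mul_inv_cancel_right])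

theorem Rp.perfect (h : Rp ι) : ⁅ι.range, ι.range⁆ = ι.range := by
  rw [MonoidHom.range_eq_map, ← map_commutator, ← commutator_def, h.toDm.perfect]

theorem Rp.le_or (h : Rp ι) {K : Subgroup G} (hK : ι.range ≤ 𝐍[K]) :
    ι.range ≤ K ∨ K ⊓ ι.range = ⊥ := by
  have := h.simple
  have n : (K.comap ι).Normal := ⟨fun x hx g => by
    rw [mem_comap, map_mul, map_mul, map_inv]
    exact conj_mem_of_mem_normalizer (hK ⟨g, rfl⟩) hx⟩
  refine n.eq_bot_or_eq_top.symm.imp (fun c => ?_) fun c => eq_bot_iff.2 ?_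
  · rintro _ ⟨g, rfl⟩
    exact (c.ge (mem_top g) : g ∈ K.comap ι)
  · rintro _ ⟨hx, g, rfl⟩
    rw [mem_bot.1 (c.le (mem_comap.2 hx)), map_one]
    exact one_mem _

theorem Su.cj (h : Su ι t) (k : G) : Su (cjh k ι) (k * t * k⁻¹) := by
  refine ⟨h.toRp.cjh k, by rw [conj_mul, h.tt, mul_one, mul_inv_cancel],
    fun c => h.t1 (conj_eq_one_iff.1 c), ?_, ?_, fun P hP h2 => ?_⟩
  · rw [StdL.range_cjh, centralizer_singleton_conj]; exact map_mono h.tL
  · rw [StdL.range_cjh, centralizer_singleton_conj, normalizer_cj]; exact map_mono h.nrm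
  · rw [StdL.range_cjh, centralizer_singleton_conj, centralizer_cj, ← cj_inf] at hP
    have := h.cyc cj(k⁻¹, P) (le_cj_iff.1 hP) (isPGroup_cj _ h2)
    exact (P.equivMapOfInjective (MulAut.conj k⁻¹).toMonoidHom
      (MulAut.conj k⁻¹).injective).isCyclic.2 this

theorem Su.comp (h : Su ι t) (α : MulAut (EG Q)) : Su (ι.comp α.toMonoidHom) t :=
  ⟨h.toRp.comp α, h.tt, h.t1, by rw [range_comp_aut]; exact h.tL,
    by rw [range_comp_aut]; exact h.nrm, by rw [range_comp_aut]; exact h.cyc⟩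

theorem Su.tc (h : Su ι t) (g : EG Q) : Commute t (ι g) :=
  (mem_centralizer_singleton_iff.1 (h.tL ⟨g, rfl⟩)).symm

/-- a cyclic `2`-group has one involution -/
theorem Su.inv (h : Su ι t) {k : G} (h1 : k ∈ 𝐳[t]) (h2 : k ∈ 𝐂[ι.range]) (hk : k * k = 1) :
    k = 1 ∨ k = t := by
  classical
  have p : ∀ x : G, x * x = 1 → IsPGroup 2 (zpowers x) := fun x hx =>
    isPGroup_zpowers ⟨1, by rw [pow_one, pow_two, hx]⟩
  have := h.cyc (zpowers k ⊔ zpowers t) (sup_le (zpowers_le.2 ⟨h1, h2⟩) (zpowers_le.2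
    ⟨mem_centralizer_singleton_iff.2 rfl, by rintro _ ⟨g, rfl⟩; exact (h.tc g).symm⟩))
    (isPGroup_sup (p k hk) (p t h.tt) (zpowers_le.2 (centralizer_le_normalizer' _
      (PLocal.Amb.centralizer_zpowers t ▸ h1))))
  have := Fintype.ofFinite ↥(zpowers k ⊔ zpowers t)
  by_contra c
  rw [not_or] at c
  have h3 := IsCyclic.card_pow_eq_one_le (α := ↥(zpowers k ⊔ zpowers t)) two_pos
  refine absurd h3 (not_le.2 (Finset.two_lt_card_iff.2 ⟨1, ⟨k, mem_sup_left (mem_zpowers k)⟩,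
    ⟨t, mem_sup_right (mem_zpowers t)⟩, by simp, ?_, ?_, fun e => c.1 (congrArg Subtype.val e).symm,
    fun e => h.t1 (congrArg Subtype.val e).symm, fun e => c.2 (congrArg Subtype.val e)⟩))
  · simpa [pow_two, Subtype.ext_iff] using hk
  · simpa [pow_two, Subtype.ext_iff] using h.tt

theorem Su.t_notin (h : Su ι t) : t ∉ ι.range := fun c =>
  h.t1 (h.toRp.eq_one c (by rintro _ ⟨g, rfl⟩; exact (h.tc g).symm))

end Cfsg.Agent.StdO
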