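import Cfsg.Agent.StdO.Dp1

/-! Extension of the doubling to all Siegel elements. -/

set_option autoImplicit false
set_option linter.unusedSectionVars false
set_option linter.unusedVariables false

namespace Cfsg.Agent.StdO

open Subgroup Module QuadraticMap Cfsg.Agent.Class.Orth Cfsg.Agent.KSG Cfsg.Agent.PLocal.Amb
  Cfsg.Agent.Lyons
open Cfsg.Agent.StdL (cjh)
open scoped commutatorElement

variable {F V : Type*} [Field F] [Finite F] [CharP F 2] [AddCommGroup V] [Module F V]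
  [FiniteDimensional F V] {Q : QuadraticForm F V} {G : Type*} [Group G] [Finite G]
  {ι : EG Q →* G} {t : G}

local notation "𝐟" => polar Q

variable {u v w s s' : V} {c : EG Q → G}

theorem d2_rk1 (u : V) : finrank F (Submodule.span F {u}) ≤ 1 := by
  classical
  simpa using finrank_span_le_card (R := F) ({u} : Set V)

theorem d2_rk2 (u v : V) : finrank F (Submodule.span F {u, v}) ≤ 2 := by
  classical
  have := (finrank_span_finset_le_card (R := F) ({u, v} : Finset V)).trans Finset.card_le_two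
  rwa [Set.finrank, Finset.coe_pair] at this

theorem d2_rk3 (u v w : V) : finrank F (Submodule.span F {u, v, w}) ≤ 3 := by
  classical
  have := (finrank_span_finset_le_card (R := F) ({u, v, w} : Finset V)).trans Finset.card_le_three
  rwa [Set.finrank, Finset.coe_insert, Finset.coe_pair] at this

/-- a singular vector of `U^⊥` with a prescribed product -/
theorem d2_sep (hQ : ND Q) {U : Submodule F V} {x : V}
    (h : finrank F ↥(U ⊓ perp Q U) + finrank F U + 3 ≤ finrank F V) (hx : x ∉ U) (a : F) :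
    ∃ n ∈ perp Q U, Q n = 0 ∧ 𝐟 x n = a := by
  have h1 := finrank_perp hQ U
  obtain ⟨s, hs, hsU, hq⟩ := exists_sing (Q := Q) (U := U) (W := perp Q U) (by omega)
  obtain ⟨y, hy, h3⟩ := exists_perp hQ hsU 1
  obtain ⟨n, h4, h5, h6⟩ : ∃ n ∈ perp Q U, Q n = 0 ∧ 𝐟 x n ≠ 0 := by
    by_contra hc
    push Not at hc
    obtain ⟨z, hz, h7⟩ := exists_perp hQ hx 1
    have := singular_induction hs (Submodule.sub_mem _ hy (Submodule.smul_mem _ _ hs))
      (isHyp_of_polar_eq_one hq h3) (fun y => 𝐟 x y = 0) hc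
      (fun y _ z _ e1 e2 => by rw [polar_add_right, e1, e2, add_zero]) z hz
    exact one_ne_zero (h7.symm.trans this)
  exact ⟨(a / 𝐟 x n) • n, Submodule.smul_mem _ _ h4, by rw [Q_smul, h5, mul_zero],
    by rw [polar_smul_right', div_mul_cancel₀ _ h6]⟩

theorem d2_ts0 (h : Q u = 0) : TS2 Q u 0 := ⟨h, Q.map_zero, polar_zero_right Q u⟩

theorem d2_pol (h1 : TS2 Q u s) (h2 : TS2 Q u (s + w)) : 𝐟 s w = Q w := by
  have := h2.r
  rw [Q_add, h1.r, zero_add] at this
  exact (CharTwo.add_eq_zero.1 this).symm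

theorem d2_ok (h1 : TS2 Q u s) (h2 : TS2 Q u (s + w)) : Ok Q u w := by
  have := h2.p
  rw [polar_add_right, h1.p, zero_add] at this
  exact ⟨h1.l, this⟩

theorem d2_add (h1 : TS2 Q u s) (h2 : TS2 Q u s') (e : 𝐟 s s' = 0) : TS2 Q u (s + s') :=
  ⟨h1.l, by rw [Q_add, h1.r, h2.r, e, add_zero, add_zero], ((ok_of h1).add (ok_of h2)).p⟩

include F in
theorem d2_cancel (s w : V) : s + (s + w) = w := by rw [← add_assoc, add_self' F, zero_add]

theorem Fa1.indep0 (h : Fa1 ι t c) (h1 : TS2 Q u s) (h2 : TS2 Q u (s + w)) (h3 : TS2 Q u s')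
    (h4 : TS2 Q u (s' + w)) (e : 𝐟 s s' = 0) :
    c (sg Q u s) * c (sg Q u (s + w)) = c (sg Q u s') * c (sg Q u (s' + w)) := by
  have a1 := h.add0 u _ _ h1 h3 e
  have a2 := h.add0 u _ _ h2 h4 (by
    rw [polar_add_left, polar_add_right, polar_add_right, e, d2_pol h1 h2, polar_comm Q w s', d2_pol h3 h4,
      f_self, zero_add, add_zero, CharTwo.add_self_eq_zero])
  rw [add_add_add_comm, add_self' F, add_zero, a1] at a2
  calc c (sg Q u s) * c (sg Q u (s + w))
      = c (sg Q u s) * (c (sg Q u (s + w)) * c (sg Q u (s' + w))) * c (sg Q u (s' + w)) := by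
        rw [mul_assoc, mul_assoc, (h.toFa0.bas h4).1, mul_one]
    _ = _ := by rw [← a2, ← mul_assoc, (h.toFa0.bas h1).1, one_mul]

/-- For `w ⊥ u` there is a singular `s ⊥ u` with `s + w` singular, and `s ⊥ n` for a given singular
`n ⊥ u, w`: if `Q w = 0` take `s = 0`; otherwise `w ∉ ⟨u,n⟩`, `perp_induction` gives a singular
`s ∈ ⟨u,n⟩^⊥` with `𝐟 s w ≠ 0`; scale so that `𝐟 s w = Q w`. -/
theorem Dm.exists_split (hd : Dm Q) (hw : Ok Q u w) {n : V} (hn : TS2 Q u n) (e : 𝐟 n w = 0) :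
    ∃ s, TS2 Q u s ∧ TS2 Q u (s + w) ∧ 𝐟 s n = 0 := by
  by_cases hq : Q w = 0
  · exact ⟨0, d2_ts0 hw.l, by rw [zero_add]; exact ⟨hw.l, hq, hw.p⟩, polar_zero_left Q n⟩
  have h2 := d2_rk2 (F := F) u n
  have h3 := hd.d8
  have h4 := Submodule.finrank_mono (inf_le_left : Submodule.span F {u, n} ⊓
    perp Q (Submodule.span F {u, n}) ≤ _)
  obtain ⟨s, h5, h6, h7⟩ := d2_sep hd.nd (U := Submodule.span F {u, n}) (by omega)
    (fun c => hq (hn.ts_span w c)) (Q w)
  obtain ⟨h8, h9⟩ := mem_perp2''.1 h5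
  exact ⟨s, ⟨hw.l, h6, h8⟩, ⟨hw.l, by rw [Q_add, h6, polar_comm, h7, zero_add, CharTwo.add_self_eq_zero],
    by rw [polar_add_right, h8, hw.p, add_zero]⟩, (polar_comm Q _ _).trans h9⟩

/-- Independence of the splitting.  If `Q w = 0` both sides are `c (sg u w)` (`add0`).  Let
`Q w ≠ 0`, `u ≠ 0`.  If `s ⊥ s'` then `c(s) c(s') = c(s+s') = c(s+w) c(s'+w)`.  If
`s' ∈ ⟨u, s, w⟩` then `s' ≡ s` or `s' ≡ s + w` mod `u`.  Otherwise there is a singular
`n ∈ ⟨u,s,w⟩^⊥` with `𝐟 n s' = 𝐟 s s'` (this space is spanned by singular vectors), and `s + n` is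
orthogonal to `s` and `s'`. -/
theorem Fa1.indep (h : Fa1 ι t c) (h1 : TS2 Q u s) (h2 : TS2 Q u (s + w)) (h3 : TS2 Q u s')
    (h4 : TS2 Q u (s' + w)) :
    c (sg Q u s) * c (sg Q u (s + w)) = c (sg Q u s') * c (sg Q u (s' + w)) := by
  have o := d2_ok h1 h2
  have p1 := d2_pol h1 h2
  have p2 := d2_pol h3 h4
  by_cases hq : Q w = 0
  · have z : TS2 Q u (0 + w) := by rw [zero_add]; exact ⟨o.l, hq, o.p⟩
    exact (h.indep0 h1 h2 (d2_ts0 o.l) z (polar_zero_right Q s)).trans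
      (h.indep0 (d2_ts0 o.l) z h3 h4 (polar_zero_left Q s'))
  by_cases hs : s' ∈ Submodule.span F {u, s, w}
  · obtain ⟨a, b, d, rfl⟩ := Submodule.mem_span_triple.1 hs
    have q1 := h3.r
    simp only [polar_add_left, polar_smul_left', o.p, p1, f_self, mul_zero, zero_add, add_zero] at p2
    obtain rfl : b = 1 := mul_right_cancel₀ hq (p2.trans (one_mul _).symm)
    simp only [Q_add, Q_smul, polar_add_left, polar_smul_left', polar_smul_right', o.p, p1, h1.l, h1.r, h1.p,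
      mul_zero, zero_add, add_zero, one_mul] at q1
    have q2 : d * (d + 1) * Q w = 0 := by linear_combination q1
    rcases mul_eq_zero.1 ((mul_eq_zero.1 q2).resolve_right hq) with rfl | q3
    · exact h.indep0 h1 h2 h3 h4 (by
        simp only [polar_add_right, polar_smul_right', h1.p', f_self, mul_zero, zero_mul, add_zero])
    · obtain rfl : d = 1 := CharTwo.add_eq_zero.1 q3
      have e : s + w + w = s := by rw [add_assoc, add_self' F, add_zero]
      have := h.indep0 h2 (by rwa [e]) h3 h4 (by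
        rw [one_smul, one_smul, add_assoc, polar_add_right, polar_smul_right', h2.p', f_self, mul_zero,
          add_zero])
      rwa [e, (h.com u _ _ h2 h1).eq] at this
  · have a2 := d2_rk3 (F := F) u s w
    have a3 := h.d8
    have a4 := Submodule.finrank_lt_finrank_of_lt (lt_of_le_of_ne (inf_le_left : Submodule.span F {u, s, w} ⊓
      perp Q (Submodule.span F {u, s, w}) ≤ _) fun e =>
        hq (p1.symm.trans (mem_perp3.1 (e.ge (Submodule.subset_span (show w ∈ _ by simp))).2).2.1))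
    obtain ⟨n, a5, a6, a7⟩ := d2_sep h.nd (U := Submodule.span F {u, s, w}) (by omega) hs (𝐟 s s')
    obtain ⟨a8, a9, a10⟩ := mem_perp3.1 a5
    have b1 : TS2 Q u (s + n) := d2_add h1 ⟨o.l, a6, a8⟩ a9
    have b2 : TS2 Q u (s + n + w) := by
      rw [add_right_comm]
      exact d2_add h2 ⟨o.l, a6, a8⟩ (by rw [polar_add_left, a9, a10, add_zero])
    exact (h.indep0 h1 h2 b1 b2 (by rw [polar_add_right, f_self, a9, add_zero])).trans
      (h.indep0 b1 b2 h3 h4 (by rw [polar_add_left, polar_comm Q n, a7, CharTwo.add_self_eq_zero]))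

theorem Fa1.ext_root (h : Fa1 ι t c) (h1 : TS2 Q u s) (h2 : TS2 Q u s')
    (e : (sg Q u (s + s')).1 = 1 ∨ IsRoot (sg Q u (s + s')).1) :
    c (sg Q u (s + s')) = c (sg Q u s) * c (sg Q u s') := by
  by_cases h0 : u = 0
  · rw [h0, sg_zero_left, sg_zero_left, sg_zero_left, h.c1, one_mul]
  · have := Q_eq_zero_of_root h.nd h0 h1.l ((ok_of h1).add (ok_of h2)).p e
    rw [Q_add, h1.r, h2.r, zero_add, zero_add] at this
    exact h.add0 u _ _ h1 h2 this

theorem Fa1.ext_wd (h : Fa1 ι t c) {r r' : V} (h1 : TS2 Q u s) (h2 : TS2 Q u s') (h3 : TS2 Q v r)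
    (h4 : TS2 Q v r') (e : sg Q u (s + s') = sg Q v (r + r')) :
    c (sg Q u s) * c (sg Q u s') = c (sg Q v r) * c (sg Q v r') := by
  by_cases hr : (sg Q u (s + s')).1 = 1 ∨ IsRoot (sg Q u (s + s')).1
  · rw [← h.ext_root h1 h2 hr, ← h.ext_root h3 h4 (e ▸ hr), e]
  have o := (ok_of h1).add (ok_of h2)
  have h0 : u ≠ 0 := by
    rintro rfl
    exact hr (.inl (congrArg Subtype.val (sg_zero_left _)))
  obtain ⟨a, ha, rfl⟩ := eq_of_sg_eq h.nd o ((ok_of h3).add (ok_of h4)) h0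
    (fun q => hr (TS2.root_or ⟨o.l, q, o.p⟩)) e
  have k : ∀ {x}, TS2 Q (a • u) x → TS2 Q u x := fun hx => by
    simpa [smul_smul, inv_mul_cancel₀ ha] using hx.smul_left a⁻¹
  have h5 := k h3
  have h6 := k h4
  rw [sg_smul ((ok_of h5).add (ok_of h6)), sg_inj h.nd o (((ok_of h5).add (ok_of h6)).smul a) h0] at e
  obtain ⟨b, e⟩ := e
  have e' : a • r + (s + s') = a • r' + b • u := by
    rw [e, smul_add, add_assoc, d2_cancel (F := F)]
  have := h.indep (w := s + s') h1 (by rwa [d2_cancel (F := F)]) (h5.smul_right a) (by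
    rw [e']
    exact d2_add (h6.smul_right a) ⟨h1.l, by rw [Q_smul, h1.l, mul_zero], by
      rw [polar_smul_right', f_self, mul_zero]⟩ (by
      rw [polar_smul_right', (h6.smul_right a).p', mul_zero]))
  rw [d2_cancel (F := F), e', sg_add_smul (ok_of (h6.smul_right a))] at this
  rw [this, sg_smul (ok_of h5), sg_smul (ok_of h6)]

/-- Define `c' z = c (sg u s) * c (sg u s')` if `z = sg u (s + s')` with `TS2 u s`, `TS2 u s'`
(choice).  For non-singular `w` the point `⟨u⟩` is determined (`eq_of_sg_eq`, `sg_smul`, `sg_inj`,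
`sg_add_smul`), `indep`; for singular `w` all choices give `c z` (`Q_eq_zero_of_root`, `add0`). -/
theorem Fa1.exists_ext (h : Fa1 ι t c) : ∃ c' : EG Q → G, ∀ u s s', TS2 Q u s → TS2 Q u s' →
    c' (sg Q u (s + s')) = c (sg Q u s) * c (sg Q u s') := by
  classical
  refine ⟨fun z => if e : ∃ p : V × V × V, TS2 Q p.1 p.2.1 ∧ TS2 Q p.1 p.2.2 ∧
    z = sg Q p.1 (p.2.1 + p.2.2) then c (sg Q e.choose.1 e.choose.2.1) * c (sg Q e.choose.1 e.choose.2.2)
    else 1, fun u s s' h1 h2 => ?_⟩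
  have e : ∃ p : V × V × V, TS2 Q p.1 p.2.1 ∧ TS2 Q p.1 p.2.2 ∧
    sg Q u (s + s') = sg Q p.1 (p.2.1 + p.2.2) := ⟨(u, s, s'), h1, h2, rfl⟩
  beta_reduce
  rw [dif_pos e]
  exact (h.ext_wd h1 h2 e.choose_spec.1 e.choose_spec.2.1 e.choose_spec.2.2).symm

/-- Two singular vectors `n, n' ⊥ u, v, w`, independent modulo `u` (`exists_sing` twice:
`dim ⟨u,v,w⟩^⊥ ≥ 5`). -/
theorem Dm.two_sing (hd : Dm Q) (u v w : V) : ∃ n n', Q n = 0 ∧ Q n' = 0 ∧
    n ∈ perp Q (Submodule.span F {u, v, w}) ∧ n' ∈ perp Q (Submodule.span F {u, v, w}) ∧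
    n ∉ Submodule.span F {u} ∧ n' ∉ Submodule.span F {u, n} := by
  have h1 := finrank_perp hd.nd (Submodule.span F {u, v, w})
  have h2 := d2_rk3 (F := F) u v w
  have h3 := hd.d8
  have h4 := (Submodule.finrank_mono (inf_le_left : Submodule.span F {u} ⊓
    perp Q (Submodule.span F {u, v, w}) ≤ _)).trans (d2_rk1 u)
  obtain ⟨n, a1, a2, a3⟩ := exists_sing (Q := Q) (U := Submodule.span F {u})
    (W := perp Q (Submodule.span F {u, v, w})) (by omega)
  have h5 := (Submodule.finrank_mono (inf_le_left : Submodule.span F {u, n} ⊓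
    perp Q (Submodule.span F {u, v, w}) ≤ _)).trans (d2_rk2 u n)
  obtain ⟨n', b1, b2, b3⟩ := exists_sing (Q := Q) (U := Submodule.span F {u, n})
    (W := perp Q (Submodule.span F {u, v, w})) (by omega)
  exact ⟨n, n', a3, b3, a1, b1, a2, b2⟩

theorem d2_fix (hd : Dm Q) {n y : V} (hn : TS2 Q u n) (hn' : n ∉ Submodule.span F {u}) (hy : 𝐟 u y = 0)
    (h : ∀ g, 𝐟 u g = 0 → 𝐟 n g = 0 → ∃ a : F, (sg Q n g).1.1 y = y + a • u) :
    y ∈ Submodule.span F {u, n} := by
  have key : ∀ g ∈ perp Q (Submodule.span F {u, n}), g ∉ Submodule.span F {u, n} →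
      𝐟 y n = 0 ∧ 𝐟 y g = 0 := fun g h1 h2 => by
    obtain ⟨h3, h4⟩ := mem_perp2''.1 h1
    obtain ⟨a, e⟩ := h g h3 h4
    refine perp_of_fix (U := Submodule.span F {u}) hd.nd hn.r h4 (by rwa [← Submodule.span_insert]) hn' ?_
    rw [e, add_comm, d2_cancel (F := F)]
    exact Submodule.smul_mem _ _ (Submodule.mem_span_singleton_self u)
  have h1 := finrank_perp hd.nd (Submodule.span F {u, n})
  have h2 := d2_rk2 (F := F) u n
  have h3 := hd.d8
  have h4 := Submodule.finrank_mono (inf_le_left : Submodule.span F {u, n} ⊓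
    perp Q (Submodule.span F {u, n}) ≤ _)
  obtain ⟨g, h5, h6, -⟩ := exists_sing (Q := Q) (U := Submodule.span F {u, n})
    (W := perp Q (Submodule.span F {u, n})) (by omega)
  rw [← perp_perp hd.nd (Submodule.span F {u, n})]
  intro x hx
  by_cases h7 : x ∈ Submodule.span F {u, n}
  · obtain ⟨a, b, rfl⟩ := Submodule.mem_span_pair.1 h7
    rw [polar_add_left, polar_smul_left', polar_smul_left', hy, polar_comm, (key g h5 h6).1]
    simp
  · rw [polar_comm, (key x hx h7).2]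

section Ext
variable {c' : EG Q → G} (h : Fa1 ι t c) (h' : ∀ u s s', TS2 Q u s → TS2 Q u s' →
  c' (sg Q u (s + s')) = c (sg Q u s) * c (sg Q u s'))
include h h'

theorem d2_eq (o : TS2 Q u s) : c' (sg Q u s) = c (sg Q u s) := by
  have := h' u s 0 o (d2_ts0 o.l)
  rwa [add_zero, sg_zero, h.c1, mul_one] at this

theorem d2_split (o : Ok Q u w) {n : V} (hn : TS2 Q u n) (e : 𝐟 n w = 0) :
    ∃ s, TS2 Q u s ∧ TS2 Q u (s + w) ∧ 𝐟 s n = 0 ∧
      c' (sg Q u w) = c (sg Q u s) * c (sg Q u (s + w)) := by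
  obtain ⟨s, h1, h2, h3⟩ := h.toDm.exists_split o hn e
  exact ⟨s, h1, h2, h3, by rw [← h' u _ _ h1 h2, d2_cancel (F := F)]⟩

theorem d2_bas (o : Ok Q u w) : c' (sg Q u w) * c' (sg Q u w) = 1 ∧ c' (sg Q u w) ∈ 𝐂[oc 𝐳[t]] ∧
    c' (sg Q u w) * t * (c' (sg Q u w))⁻¹ = t * ι (sg Q u w) ∧
    (∀ y, Commute (ι (sg Q u y)) (c' (sg Q u w))) ∧
    ∀ g : EG Q, ι g * c' (sg Q u w) * (ι g)⁻¹ = c' (sg Q (g.1.1 u) (g.1.1 w)) := by
  obtain ⟨s, h1, h2, -, e⟩ := d2_split h h' o (d2_ts0 o.l) (polar_zero_left Q w)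
  obtain ⟨a1, a2, a3, a4, a5⟩ := h.toFa0.bas h1
  obtain ⟨b1, b2, b3, b4, b5⟩ := h.toFa0.bas h2
  rw [e]
  refine ⟨?_, mul_mem a2 b2, ?_, fun y => (a4 y).mul_right (b4 y), fun g => ?_⟩
  · rw [(h.com u _ _ h2 h1).mul_mul_mul_comm, a1, b1, one_mul]
  · calc _ = c (sg Q u s) * (c (sg Q u (s + w)) * t * (c (sg Q u (s + w)))⁻¹) * (c (sg Q u s))⁻¹ := by
          group
      _ = c (sg Q u s) * t * (c (sg Q u s))⁻¹ * ι (sg Q u (s + w)) := by
          rw [b3, ← mul_assoc, mul_assoc _ (ι _), (a4 _).inv_right.eq, ← mul_assoc]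
      _ = _ := by rw [a3, mul_assoc, ← map_mul, ← sg_add (ok_of h1) (ok_of h2), d2_cancel (F := F)]
  · rw [← conj_mul, a5, b5, ← h' _ _ _ (h1.map g.1) (h2.map g.1), ← map_add, d2_cancel (F := F)]

theorem d2_com (o : Ok Q u v) (o' : Ok Q u w) : Commute (c' (sg Q u v)) (c' (sg Q u w)) := by
  obtain ⟨s, h1, h2, -, e⟩ := d2_split h h' o (d2_ts0 o.l) (polar_zero_left Q v)
  obtain ⟨s', h3, h4, -, e'⟩ := d2_split h h' o' (d2_ts0 o.l) (polar_zero_left Q w)
  rw [e, e']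
  exact ((h.com u _ _ h1 h3).mul_right (h.com u _ _ h1 h4)).mul_left
    ((h.com u _ _ h2 h3).mul_right (h.com u _ _ h2 h4))

theorem d2_addn (o : Ok Q u w) {n : V} (hn : TS2 Q u n) (e : 𝐟 n w = 0) :
    c' (sg Q u (w + n)) = c' (sg Q u w) * c' (sg Q u n) := by
  obtain ⟨s, h1, h2, h3, e'⟩ := d2_split h h' o hn e
  have h4 : 𝐟 (s + w) n = 0 := by rw [polar_add_left, h3, polar_comm, e, add_zero]
  rw [e', d2_eq h h' hn, mul_assoc, ← h.add0 u _ _ h2 hn h4, ← h' u _ _ h1 (d2_add h2 hn h4), ← add_assoc,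
    d2_cancel (F := F)]

theorem d2_D (h0 : u ≠ 0) (o : Ok Q u v) (o' : Ok Q u w) : ∃ y, Ok Q u y ∧
    c' (sg Q u v) * c' (sg Q u w) * c' (sg Q u (v + w)) = ι (sg Q u y) := by
  obtain ⟨a1, -, a3, a4, -⟩ := d2_bas h h' o
  obtain ⟨b1, -, b3, b4, -⟩ := d2_bas h h' o'
  obtain ⟨d1, -, d3, d4, -⟩ := d2_bas h h' (o.add o')
  have e1 : ∀ x, Ok Q u x → Commute (c' (sg Q u x)) (c' (sg Q u v) * c' (sg Q u w) * c' (sg Q u (v + w))) :=
    fun x hx => ((d2_com h h' hx o).mul_right (d2_com h h' hx o')).mul_right (d2_com h h' hx (o.add o'))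
  have e2 : ∀ y, Commute (c' (sg Q u v) * c' (sg Q u w) * c' (sg Q u (v + w))) (ι (sg Q u y)) :=
    fun y => (((a4 y).mul_right (b4 y)).mul_right (d4 y)).symm
  have e3 : c' (sg Q u v) * c' (sg Q u w) * c' (sg Q u (v + w)) *
      (c' (sg Q u v) * c' (sg Q u w) * c' (sg Q u (v + w))) = 1 := by
    rw [((d2_com h h' (o.add o') o).mul_right (d2_com h h' (o.add o') o')).mul_mul_mul_comm, d1, mul_one,
      (d2_com h h' o' o).mul_mul_mul_comm, a1, b1, one_mul]
  have e4 : c' (sg Q u v) * c' (sg Q u w) * c' (sg Q u (v + w)) ∈ 𝐳[t] := by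
    refine mem_cent.2 (comm_of_conj_eq ?_)
    have k : ∀ {x y : G} {a b : V}, x * t * x⁻¹ = t * ι (sg Q u a) → y * t * y⁻¹ = t * ι (sg Q u b) →
        Commute (ι (sg Q u b)) x → x * y * t * (x * y)⁻¹ = t * (ι (sg Q u a) * ι (sg Q u b)) := by
      intro x y a b k1 k2 k3
      calc _ = x * (y * t * y⁻¹) * x⁻¹ := by group
        _ = x * t * x⁻¹ * ι (sg Q u b) := by
          rw [k2, ← mul_assoc, mul_assoc _ (ι _), k3.inv_right.eq, ← mul_assoc]
        _ = _ := by rw [k1, mul_assoc]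
    have k1 := k a3 b3 (a4 w)
    rw [← map_mul, ← sg_add o o'] at k1
    rw [k k1 d3 ((a4 _).mul_right (b4 _)), ← map_mul, sg_sq, map_one, mul_one]
  generalize c' (sg Q u v) * c' (sg Q u w) * c' (sg Q u (v + w)) = D at *
  obtain ⟨y, oy, hy⟩ := h.toRp.rv o.l h0 (h.nrm e4) fun y _ => e2 y
  refine ⟨y, oy, mul_inv_eq_one.1 ((h.toSu.inv (mul_mem e4 (inv_mem (h.tL ⟨_, rfl⟩))) hy ?_).resolve_right
    fun e => ?_)⟩
  · rw [(e2 y).inv_right.symm.mul_mul_mul_comm, e3, one_mul, ← mul_inv_rev, ← map_mul, sg_sq, map_one,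
      inv_one]
  · obtain ⟨x, hx⟩ := h.toDm.ext2 o.l h0
    obtain ⟨x1, -, x2⟩ := ti2_iff.1 hx
    obtain ⟨-, -, x3, x4, -⟩ := d2_bas h h' (ok_of x1)
    have := (e1 x (ok_of x1)).mul_right (x4 y).symm.inv_right
    rw [e] at this
    rw [this.eq, mul_inv_cancel_right, left_eq_mul, map_eq_one_iff _ h.inj, sg_eq_one h.nd (ok_of x1) h0] at x3
    obtain ⟨a, x3⟩ := x3
    exact x2 a x3

theorem d2_main (o : Ok Q u v) (o' : Ok Q u w) :
    c' (sg Q u (v + w)) = c' (sg Q u v) * c' (sg Q u w) := by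
  by_cases h0 : u = 0
  · have := d2_eq h h' (d2_ts0 o.l)
    rw [sg_zero, h.c1] at this
    rw [h0, sg_zero_left, sg_zero_left, sg_zero_left, this, one_mul]
  obtain ⟨y, oy, e⟩ := d2_D h h' h0 o o'
  have key : ∀ n, Q n = 0 → n ∈ perp Q (Submodule.span F {u, v, w}) → n ∉ Submodule.span F {u} →
      y ∈ Submodule.span F {u, n} := fun n n1 n2 n3 => by
    obtain ⟨n4, n5, n6⟩ := mem_perp3.1 n2
    have hn : TS2 Q u n := ⟨o.l, n1, n4⟩
    refine d2_fix h.toDm hn n3 oy.p fun g g1 g2 => ?_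
    have og : Ok Q n g := ⟨n1, g2⟩
    have k0 : (sg Q n g).1.1 u = u := sg_fix n4 g1
    have k1 : ∀ x, Ok Q u x → 𝐟 x n = 0 → ι (sg Q n g) * c' (sg Q u x) * (ι (sg Q n g))⁻¹ =
        c' (sg Q u x) * c' (sg Q u (𝐟 x g • n)) := fun x ox hx => by
      rw [(d2_bas h h' ox).2.2.2.2, k0, sg_apply_perp og hx, d2_addn h h' ox (hn.smul_right _) (by
        rw [polar_smul_left', polar_comm Q n, hx, mul_zero])]
    have k2 : ι (sg Q n g) * ι (sg Q u y) * (ι (sg Q n g))⁻¹ = ι (sg Q u y) := by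
      have t1 := hn.smul_right (𝐟 v g)
      have t2 := hn.smul_right (𝐟 w g)
      have t3 := d2_addn h h' (ok_of t1) t2 (by rw [polar_smul_left', polar_smul_right', f_self]; simp)
      rw [← e, ← conj_mul, ← conj_mul, k1 v o n5, k1 w o' n6, k1 _ (o.add o') (by
          rw [polar_add_left, n5, n6, add_zero]), (d2_com h h' (ok_of t1) o').mul_mul_mul_comm, ← t3,
        polar_add_left, add_smul, (d2_com h h' ((ok_of t1).add (ok_of t2)) (o.add o')).mul_mul_mul_comm,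
        (d2_bas h h' ((ok_of t1).add (ok_of t2))).1, mul_one]
    rw [← map_inv, ← map_mul, ← map_mul, conj_sg, k0] at k2
    exact (sg_inj h.nd (k0 ▸ oy.map (sg Q n g) :) oy h0).1 (h.inj k2)
  obtain ⟨n, n', n1, n2, n3, n4, n5, n6⟩ := h.toDm.two_sing u v w
  obtain ⟨a, b, e1⟩ := Submodule.mem_span_pair.1 (key n' n2 n4 fun k => n6 (Submodule.span_mono (by simp) k))
  have e2 := key n n1 n3 n5
  have hb : b = 0 := by
    by_contra hb
    refine n6 ((Submodule.smul_mem_iff _ hb).1 ?_)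
    rw [← e1] at e2
    exact (Submodule.add_mem_iff_right _ (Submodule.smul_mem _ _ (Submodule.subset_span (by simp)))).1 e2
  rw [← e1, hb, zero_smul, add_zero, sg_self o.l, map_one] at e
  rw [eq_inv_of_mul_eq_one_left e, inv_eq_of_mul_eq_one_right (d2_bas h h' (o.add o')).1]

end Ext

/-- `c'` from `exists_ext` agrees with `c` on root elements, so `G0 ι c' = G0 ι c`; all `c'(sg u ·)`
are commuting involutions centralizing `ι V_u`.  `c'(w + n) = c'(w) c'(n)` for singular `n ⊥ u, w`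
(`exists_split`).  `D(v,w) = c'(v) c'(w) c'(v+w)` centralizes `t` and `ι V_u`, so `D = ι (sg u y)`
(`rv`, `Su.inv`; `k ≠ t` because some factor `c'(x)` with `sg u x ≠ 1` commutes with `D`, or all
factors are `1`).  For singular `n ⊥ u, v, w` and `g ⊥ u, n`, `sg n g` adds multiples of `n` to
`v, w` and fixes `D`; `perp_of_fix` gives `y ∈ ⟨u, n⟩`.  `two_sing`: `y ∈ ⟨u⟩`. -/
theorem Fa1.fam (h : Fa1 ι t c) : ∃ c', Fam ι t c' := by
  obtain ⟨c', h'⟩ := h.exists_ext
  refine ⟨c', h.toSu, h.ko, ?_, ?_, ?_, fun _ _ _ => d2_main h h', ?_⟩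
  · rintro g _ ⟨u, w, o, rfl⟩
    rw [(d2_bas h h' o).2.2.2.2, conj_sg]
  · rintro _ ⟨u, w, o, rfl⟩
    exact (d2_bas h h' o).2.2.1
  · rintro _ ⟨u, w, o, rfl⟩
    exact (d2_bas h h' o).2.1
  · have : ∀ z : EG Q, IsRoot z.1 → c' z = c z := fun z ⟨_, u, v, o, e⟩ => by
      rw [show z = sg Q u v from Subtype.ext e, d2_eq h h' o]
    have e : G0 ι c' = G0 ι c := by
      unfold G0
      congr 2
      ext x
      exact exists_congr fun z => and_congr_right fun hz => by rw [this z hz]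
    rw [e]
    exact h.cn

end Cfsg.Agent.StdO
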