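import Cfsg.Agent.StdO.FldB
import Cfsg.Agent.CT.Dn

/-! The field case: Steinberg relations of type `D` over `E` and the homomorphism `R`. -/

set_option autoImplicit false
set_option linter.unusedSectionVars false
set_option linter.unusedVariables false

namespace Cfsg.Agent.StdO

open Subgroup Module QuadraticMap Cfsg.Agent.Class.Orth Cfsg.Agent.KSG Cfsg.Agent.PLocal.Amb
  Cfsg.Agent.Lyons
open Cfsg.Agent.StdL (cjh)
open scoped commutatorElement

variable {F V : Type*} [Field F] [Finite F] [CharP F 2] [AddCommGroup V] [Module F V]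
  [FiniteDimensional F V] {Q : QuadraticForm F V} {G : Type*} [Group G] [Finite G]
  {ι : EG Q →* G} {t : G}

local notation "𝐟" => polar Q

variable {E : Type*} [Field E] [Finite E] [CharP E 2] {k : ℕ} {j : F →+* E}
  {e : V → Fin (k + 1) ⊕ Fin (k + 1) → E} {ε : E} {T : SS (plusQF (k + 1) E)} {d : F}
  {c : EG Q → G} {b : Fin (k + 1) ⊕ Fin (k + 1) → V}

open Classical in
/-- the root elements: `xO a a' s = eichler e_a (s e_{a'.swap}) = eichler e_{a'.swap} (s e_a)` -/
noncomputable def xR (ι : EG Q →* G) (c : EG Q → G) (e : V → Fin (k + 1) ⊕ Fin (k + 1) → E) (ε : E)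
    (b : Fin (k + 1) ⊕ Fin (k + 1) → V) (a a' : Fin (k + 1) ⊕ Fin (k + 1)) (s : E) : G :=
  if ix a ≠ Fin.last k then Xh ι c e ε (b a) (s • Pi.single a'.swap 1)
  else Xh ι c e ε (b a'.swap) (s • Pi.single a 1)

section
open CT.L

variable {a a' r : Fin (k + 1) ⊕ Fin (k + 1)}

theorem ix_swap (a : Fin (k + 1) ⊕ Fin (k + 1)) : ix a.swap = ix a := by rcases a with a | a <;> rfl

theorem ix_or (h1 : a ≠ a') (h2 : a ≠ a'.swap) : ix a ≠ Fin.last k ∨ ix a' ≠ Fin.last k := by
  by_contra! h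
  rcases a with a | a <;> rcases a' with a' | a' <;> simp_all [ix]

theorem pol_ss (h : a ≠ a'.swap) (s : E) :
    polar (plusQF (k + 1) E) (Pi.single a 1) (s • Pi.single a' 1) = 0 := by
  have := polar_xO (F := E) h s
  rwa [Sum.swap_swap] at this

variable (h : Act ι t c d) (X : Ex Q j e ε T d)
  (hb : ∀ a, ix a ≠ Fin.last k → e (b a) = Pi.single a 1)

include X hb in
theorem b_q (n : ix a ≠ Fin.last k) : Q (b a) = 0 :=
  (map_eq_zero j).1 (by rw [← X.q, hb a n, Q_single])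

include X hb in
theorem b_ts (n : ix a ≠ Fin.last k) (n' : ix a' ≠ Fin.last k) (p : a ≠ a'.swap) :
    TS2 Q (b a) (b a') :=
  ⟨b_q X hb n, b_q X hb n', (map_eq_zero j).1 (by
    rw [← X.pol, hb a n, hb a' n', ← one_smul E (Pi.single a' 1), pol_ss p])⟩

include X hb in
theorem b_hyp (n : ix a ≠ Fin.last k) : IsHyp Q (b a) (b a.swap) :=
  ⟨b_q X hb n, b_q X hb (by rwa [ix_swap]), j.injective (by
    rw [← X.pol, hb a n, hb _ (by rwa [ix_swap]), polar_single, map_one]; simp)⟩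

theorem xR_l (n : ix a ≠ Fin.last k) (s : E) :
    xR ι c e ε b a a' s = Xh ι c e ε (b a) (s • Pi.single a'.swap 1) := if_pos n

include h X hb

theorem xR_r (n : ix a' ≠ Fin.last k) (p : a ≠ a') (s : E) :
    xR ι c e ε b a a' s = Xh ι c e ε (b a'.swap) (s • Pi.single a 1) := by
  by_cases n' : ix a ≠ Fin.last k
  · have n2 : ix a'.swap ≠ Fin.last k := by rwa [ix_swap]
    rw [xR_l n', ← hb _ n2, h.Xh_swap X (b_ts X hb n' n2 (by rwa [Sum.swap_swap])), hb a n']
  · exact if_neg n'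

theorem xR_act (p : a ≠ a') (q : a ≠ a'.swap) (n : ix r ≠ Fin.last k) (p1 : r ≠ a.swap)
    (p2 : r ≠ a') (s : E) {y : Fin (k + 1) ⊕ Fin (k + 1) → E}
    (hy : polar (plusQF (k + 1) E) (Pi.single r 1) y = 0) :
    xR ι c e ε b a a' s * Xh ι c e ε (b r) y * (xR ι c e ε b a a' s)⁻¹ =
      Xh ι c e ε (b r) ((xO a a' s).1 y) := by
  rcases ix_or p q with m | m
  · rw [xR_l m, h.Xh_act X (b_ts X hb n m p1) (by rw [hb r n]; exact polar_xO p2 s)
      (by rw [hb a m]; exact polar_xO p s) (by rwa [hb r n]), hb a m, xO]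
  · have m' : ix a'.swap ≠ Fin.last k := by rwa [ix_swap]
    have e1 := stD_xO.sym a a' p q s
    rw [CharTwo.neg_eq] at e1
    rw [xR_r h X hb m p, h.Xh_act X (b_ts X hb n m' (by rwa [Sum.swap_swap]))
      (by rw [hb r n]; exact pol_ss p1 s) (by rw [hb _ m']; exact pol_ss (by grind) s)
      (by rwa [hb r n]), hb _ m', ← e1, xO, Sum.swap_swap]

end

open CT.L in
/-- If `ix a'` is not last then also `xR a a' s = Xh (b a'.swap) (s • e_a)` (`Xh_swap`), and for
`a ≠ a', a'.swap` one of `a, a'` is not last.  `comm`: every point of `⟨e_i, e_{j̄}⟩` is orthogonal to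
`⟨e_k, e_{l̄}⟩`, `Xh_act`.  `cmt`: if `i` is not last let `x j l` act on `W_{b i}`, otherwise `l` is
not last and `x i j` acts on `W_{b l̄}`.  `d2`: `Xh_add` if `a` is not last, else `Xh_d2` with a third
index (`k ≥ 3`). -/
theorem Act.stD (h : Act ι t c d) (X : Ex Q j e ε T d) (hk : finrank F V = 2 * (k + 1))
    (hb : ∀ a, ix a ≠ Fin.last k → e (b a) = Pi.single a 1) :
    CT.L.StD Sum.swap (xR ι c e ε b) := by
  have ns : ∀ a : Fin (k + 1) ⊕ Fin (k + 1), a.swap ≠ a := by rintro (a | a) <;> simp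
  have ad : ∀ {r y y'}, ix r ≠ Fin.last k → polar (plusQF (k + 1) E) (Pi.single r 1) y = 0 →
      polar (plusQF (k + 1) E) (Pi.single r 1) y' = 0 →
      Xh ι c e ε (b r) (y + y') = Xh ι c e ε (b r) y * Xh ι c e ε (b r) y' := fun n p q =>
    h.Xh_add X (b_q X hb n) (by rwa [hb _ n]) (by rwa [hb _ n])
  have sw : ∀ {a : Fin (k + 1) ⊕ Fin (k + 1)}, ix a ≠ Fin.last k → ix a.swap ≠ Fin.last k :=
    fun n => by rwa [ix_swap]
  refine ⟨fun a a' p q s => ?_, fun S hS => ⟨fun a ha a' ha' p s u => ?_,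
    fun a ha a' ha' r hr r' hr' p q p1 p2 s u => ?_, fun a ha a' ha' r hr p q p1 s u => ?_⟩,
    fun a a' p q s u => ?_⟩
  · rw [CharTwo.neg_eq]
    rcases ix_or p q with m | m
    · rw [xR_l m, xR_r h X hb (sw m) (by grind), Sum.swap_swap]
    · rw [xR_l (sw m), xR_r h X hb m p, Sum.swap_swap]
  · rcases ix_or p (show a ≠ a'.swap by grind) with m | m
    · rw [xR_l m, xR_l m, xR_l m, add_smul, ad m (polar_xO p s) (polar_xO p u)]
    · rw [xR_r h X hb m p, xR_r h X hb m p, xR_r h X hb m p, add_smul,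
        ad (sw m) (pol_ss (by grind) s) (pol_ss (by grind) u)]
  · rw [Commute, SemiconjBy, ← mul_inv_eq_iff_eq_mul]
    have h1 : a.swap ≠ r := by grind
    have h2 : a' ≠ r'.swap := by grind
    have h3 : a.swap ≠ r'.swap := by grind
    rcases ix_or q (show r ≠ r'.swap by grind) with m | m
    · rw [xR_l m, xR_act h X hb p (by grind) m h1.symm p2.symm s (polar_xO q u), xO_apply p]
      simp [h2, h3]
    · rw [xR_r h X hb m q, xR_act h X hb p (by grind) (sw m) h3.symm h2.symm s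
        (pol_ss (by grind) u), xO_apply p]
      simp [h1, p2]
  · have h1 : a.swap ≠ a' := by grind
    have h2 : a' ≠ r.swap := by grind
    have h3 : a.swap ≠ r.swap := by grind
    have h4 : r ≠ a'.swap := by grind
    rcases ix_or p1 (show a ≠ r.swap by grind) with m | m
    · have e1 := xR_act h X hb q h2 m (r := a) (by grind) p1 u (polar_xO p s)
      have e2 : (s • Pi.single a'.swap 1 : _ → E) = (s * u) • Pi.single r.swap 1 +
          (xO a' r u).1 (s • Pi.single a'.swap 1) := by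
        rw [xO_apply q]
        simp [h4, mul_comm]
      have e3 := ad m (polar_xO p1 (s * u)) (y' := (xO a' r u).1 (s • Pi.single a'.swap 1)) (by
        rw [eq_sub_of_add_eq' e2.symm, polar_sub_right, polar_xO p, polar_xO p1, sub_zero])
      rw [← e2, ← e1, ← xR_l m, ← xR_l m] at e3
      calc _ = xR ι c e ε b a a' s * (xR ι c e ε b a' r u * xR ι c e ε b a a' s *
            (xR ι c e ε b a' r u)⁻¹)⁻¹ := by group
        _ = _ := by rw [mul_inv_eq_iff_eq_mul]; exact e3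
    · have e1 := xR_act h X hb p (by grind) (sw m) h3.symm h2.symm s (pol_ss (a' := a') (by grind) u)
      have e2 : (xO a a' s).1 (u • Pi.single a' 1) = (s * u) • Pi.single a 1 + u • Pi.single a' 1 := by
        rw [xO_apply p]
        simp [h1, add_comm]
      rw [e2, ad (sw m) (pol_ss (by grind) _) (pol_ss (by grind) _), ← xR_r h X hb m p1,
        ← xR_r h X hb m q] at e1
      rw [e1, mul_inv_cancel_right]
  · by_cases m : ix a ≠ Fin.last k
    · rw [xR_l m, xR_l m, Commute, SemiconjBy, ← ad m (polar_xO p s) (polar_xO q u),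
        ← ad m (polar_xO q u) (polar_xO p s), add_comm (s • _)]
    · have m' := (ix_or p q).resolve_left m
      have := h.d8
      obtain ⟨i, i1, i2⟩ := exists_third (ι := Fin (k + 1)) (by simp; omega) (ix a') (Fin.last k)
      have n : ix (Sum.inl i : Fin (k + 1) ⊕ Fin (k + 1)) ≠ Fin.last k := i2
      have k1 : ∀ r : Fin (k + 1) ⊕ Fin (k + 1), ix r = i → ∀ r', ix r' ≠ i → r' ≠ r.swap := by
        rintro r rfl r' n rfl; exact n (ix_swap r)
      have k2 : ∀ r : Fin (k + 1) ⊕ Fin (k + 1), ix r = i →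
          b r ∈ perp2 Q (b a'.swap) (b a'.swap.swap) := fun r hr => mem_perp2.2
        ⟨(b_ts X hb (sw m') (hr ▸ i2) (k1 r hr _ (by rw [ix_swap]; exact i1.symm))).p,
          (b_ts X hb (sw (sw m')) (hr ▸ i2) (k1 r hr _ (by rw [Sum.swap_swap]; exact i1.symm))).p⟩
      have k3 : ∀ r : Fin (k + 1) ⊕ Fin (k + 1), ix r ≠ Fin.last k →
          (Pi.single a 1 : _ → E) ∈ perp2 (plusQF (k + 1) E) (e (b r)) (e (b r.swap)) := fun r hr => by
        have k4 : ∀ r : Fin (k + 1) ⊕ Fin (k + 1), ix r ≠ Fin.last k →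
            polar (plusQF (k + 1) E) (e (b r)) (Pi.single a 1) = 0 := fun r hr => by
          rw [hb r hr, ← one_smul E (Pi.single a 1)]
          exact pol_ss (by rintro rfl; exact m (ix_swap a ▸ hr)) 1
        exact mem_perp2.2 ⟨k4 r hr, k4 _ (sw hr)⟩
      rw [xR_r h X hb m' p, xR_r h X hb (sw m') q]
      exact h.Xh_d2 X (b_hyp X hb (sw m')) (b_hyp X hb n) (k2 _ rfl) (k2 _ rfl) (Q_single a)
        (k3 _ (sw m')) (k3 _ n) s u

theorem lift_cm {Γ : Type*} [Group Γ] (φ : Γ →* Γ) (h : ∀ g, ∃ w ∈ center Γ, φ g = g * w)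
    (g g' : Γ) : φ (g * g' * g⁻¹ * g'⁻¹) = g * g' * g⁻¹ * g'⁻¹ := by
  obtain ⟨w, hw, e3⟩ := h g
  obtain ⟨w', hw', e4⟩ := h g'
  simp only [map_mul, map_inv, e3, e4]
  rw [mem_center_iff] at hw hw'
  calc _ = g * (w * (g' * w') * w⁻¹) * (g⁻¹ * w'⁻¹) * g'⁻¹ := by group
    _ = _ := by rw [← hw, ← _root_.mul_inv_rev, ← hw', _root_.mul_inv_rev]; group

open CT.L Matrix in
/-- As in `StD.nonempty_equiv`: `Γ = closure {(xO a a' s, x a a' s)}` maps onto `EG` with central
kernel (`StD.mem_center`, `xO_gen`); `Mult.Cov.exists_lift` with `Dm.perfect`, `Dm.mcard` gives a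
section `ψ`.  `Γ` is perfect (`cmt`), so `Γ = ψ.range` and the projection is an isomorphism. -/
theorem exists_R {n : ℕ} (hn : Dm (plusQF n E)) {x : Fin n ⊕ Fin n → Fin n ⊕ Fin n → E → G}
    (h : CT.L.StD Sum.swap x) : ∃ R : EG (plusQF n E) →* G, ∀ a a', a ≠ a' → a ≠ a'.swap → ∀ s,
      R (sg _ (Pi.single a 1) (s • Pi.single a'.swap 1)) = x a a' s := by
  classical
  have h4 : 4 ≤ n := by have := hn.d8; simp at this; omega
  have h3 : ∀ a b : Fin n ⊕ Fin n, ∃ c, c ≠ a ∧ c ≠ b ∧ c ≠ a.swap ∧ c ≠ b.swap := fun a b => by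
    obtain ⟨c, h1, h2⟩ := exists_third (ι := Fin n) (by simp; omega) (a.elim id id) (b.elim id id)
    refine ⟨.inl c, ?_⟩
    rcases a with a | a <;> rcases b with b | b <;> simp_all
  let Γ : Subgroup (OG (plusQF n E) × G) :=
    Subgroup.closure {g | ∃ a b t, a ≠ b ∧ a ≠ b.swap ∧ g = (xO a b t, x a b t)}
  let z : Fin n ⊕ Fin n → Fin n ⊕ Fin n → E → Γ := fun a b t =>
    if h : a ≠ b ∧ a ≠ b.swap then ⟨_, Subgroup.subset_closure ⟨a, b, t, h.1, h.2, rfl⟩⟩ else 1
  have hz : ∀ a b, a ≠ b → a ≠ b.swap → ∀ t, (z a b t).1 = (xO a b t, x a b t) := fun a b p q t => by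
    simp [z, p, q]
  have Rz : StD Sum.swap z := (stD_xO.prod h).of_inj Sum.swap_swap Γ.subtype Γ.subtype_injective hz
  have gz : ∀ K : Subgroup Γ, (∀ a b, a ≠ b → a ≠ b.swap → ∀ t, z a b t ∈ K) → K = ⊤ := by
    intro K hK
    refine Subgroup.map_injective Γ.subtype_injective (le_antisymm (Subgroup.map_mono le_top) ?_)
    rw [← MonoidHom.range_eq_map, Subgroup.range_subtype, Subgroup.closure_le]
    rintro _ ⟨a, b, t, p, q, rfl⟩
    exact ⟨_, hK a b p q t, hz a b p q t⟩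
  let f : Γ →* OG (plusQF n E) := (MonoidHom.fst _ _).comp Γ.subtype
  have hf : ∀ a b, a ≠ b → a ≠ b.swap → ∀ t, f (z a b t) = xO a b t := fun a b p q t =>
    congrArg Prod.fst (hz a b p q t)
  have hf' : ∀ g, f g ∈ EG (plusQF n E) := fun g =>
    (gz ((EG _).comap f) fun a b p q t => by
      rw [Subgroup.mem_comap, hf a b p q]; exact eichler_mem_EG _ _).ge (Subgroup.mem_top g)
  let M : Γ →* Matrix _ _ E := (Units.coeHom _).comp ((Subgroup.subtype _).comp
    ((plusEquiv n E).symm.toMonoidHom.comp f))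
  have hM : ∀ g v, M g *ᵥ v = (f g).1 v := fun g v => isoEquiv_symm_mulVec _ _ (plusQF_apply n E) _ v
  let σ : Γ →* EG (plusQF n E) := f.codRestrict _ hf'
  have hc : σ.ker ≤ center Γ := fun g hg => by
    have hg' : f g = 1 := congrArg Subtype.val hg
    have hc : M g = (1 : E) • 1 := Matrix.toLin'.injective (LinearMap.ext fun v => by
      simpa [hM] using congrArg (fun g => g.1 v) hg')
    refine Rz.mem_center Sum.swap_swap (by rintro (a | a) <;> simp) h3
      (Sum.elim (fun i => (i : ℤ)) fun i => -(i : ℤ)) (by rintro (a | a) <;> simp)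
      (by rintro (a | a) (b | b) <;> simp [Fin.ext_iff] <;> omega) (fun a b k p q => ?_)
      (fun a b p q t => ?_) gz hc
    · have : k.natAbs < n := by
        rcases a with a | a <;> rcases b with b | b <;> simp at p q <;> omega
      by_cases h : 0 ≤ k
      · exact ⟨.inl ⟨_, this⟩, by simp; omega⟩
      · exact ⟨.inr ⟨_, this⟩, by simp only [Sum.elim_inr]; omega⟩
    · refine Matrix.toLin'.injective (LinearMap.ext fun v => ?_)
      simp only [toLin'_apply, hM, hf a b p q, xO_apply p, add_mulVec, one_mulVec, single_mulVec]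
      ext i
      simp [Function.update_apply, Pi.single_apply]
      split_ifs <;> ring
  have : Finite (EG (plusQF n E)) := finite_EG
  obtain ⟨ψ, hψ⟩ := Mult.Cov.exists_lift hn.perfect hn.mcard hc (MonoidHom.id _) fun y _ => by
    obtain ⟨g, hg⟩ := xO_gen (by omega) f.range (fun a b p q t => ⟨_, hf a b p q t⟩) y.2
    exact ⟨g, Subtype.ext hg⟩
  have hψ' : ∀ g, σ (ψ g) = g := fun g => DFunLike.congr_fun hψ g
  have k1 : ∀ g, ∃ w ∈ center Γ, ψ (σ g) = g * w := fun g =>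
    ⟨g⁻¹ * ψ (σ g), hc (by rw [MonoidHom.mem_ker, map_mul, map_inv, hψ', inv_mul_cancel]), by group⟩
  refine ⟨((MonoidHom.snd _ _).comp Γ.subtype).comp ψ, fun a a' p q s => ?_⟩
  obtain ⟨r, r1, r2, r3, r4⟩ := h3 a a'
  have e1 := (Rz.on {a, r, a'} (by
    have ns : ∀ a : Fin n ⊕ Fin n, a.swap ≠ a := by rintro (a | a) <;> simp
    simp only [Set.mem_insert_iff, Set.mem_singleton_iff]; grind)).cmt a (by simp) r (by simp) a'
    (by simp) r1.symm r2 p s 1
  rw [mul_one] at e1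
  have e2 : ψ (σ (z a a' s)) = z a a' s := by
    rw [← e1]
    exact lift_cm (ψ.comp σ) k1 _ _
  have e5 : sg _ (Pi.single a 1) (s • Pi.single a'.swap 1) = σ (z a a' s) :=
    Subtype.ext (hf a a' p q s).symm
  rw [e5, MonoidHom.comp_apply, e2]
  exact congrArg Prod.snd (hz a a' p q s)

theorem Dm.gen_hyp (h : Dm Q) {p p' : V} (o : IsHyp Q p p') (H : Subgroup (EG Q))
    (h1 : ∀ v, 𝐟 p v = 0 → sg Q p v ∈ H) (h2 : ∀ v, 𝐟 p' v = 0 → sg Q p' v ∈ H) (g : EG Q) :
    g ∈ H := by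
  obtain ⟨k, hk, e⟩ := h.nd.EG_le_of_isHyp o (by have := h.d8; omega) (H.map (EG Q).subtype)
    (fun v hv => ⟨sg Q p v, h1 v hv.1, rfl⟩) (fun v hv => ⟨sg Q p' v, h2 v hv.2, rfl⟩) g.2
  exact Subtype.ext e ▸ hk

/-- `R (sg (e u) y) = Xh u y`: first for `u = b a`, `a ∈ {inl 0, inr 0}` (expand `y` in the basis,
`Xh_add`, `Xh_self`); then `R ∘ extO = ι` (`EG_le_of_isHyp`), and all singular `u` by `trans1`,
`Xh_conj`.  `R` is injective as `EG` is simple.  `ac`: check on the generators `sg (e (b a)) y`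
(`Xh_t`, `cE_sg`, `EG_le_of_isHyp`).  `range`: `Xh_mem`, `G0_le`. -/
theorem Act.fld (h : Act ι t c d) (hk : finrank F V = 2 * (k + 1))
    (hE : Nat.card E = Nat.card F ^ 2) (hd : ∀ a : F, a * a + a ≠ d) :
    ∃ (j : F →+* E) (e : V → Fin (k + 1) ⊕ Fin (k + 1) → E) (ε : E)
      (R : EG (plusQF (k + 1) E) →* G) (T : SS (plusQF (k + 1) E)), Fld ι t c j e ε R T := by
  open CT.L in
  obtain ⟨j, e, ε, T, b, X, hb⟩ := h.toDm.exists_ex hk hE hd
  have d8 := h.d8
  have rk : finrank E (Fin (k + 1) ⊕ Fin (k + 1) → E) = 2 * (k + 1) := by simp; omega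
  have hD : Dm (plusQF (k + 1) E) := ⟨X.nd, by omega, fun e2 => by
    have h1 : 2 ≤ Nat.card F := Finite.one_lt_card
    nlinarith⟩
  obtain ⟨R, hR⟩ := exists_R hD (h.stD X hk hb)
  have x0 : ∀ u, Q u = 0 → Xh ι c e ε u 0 = 1 := fun u hu => by
    simpa using h.Xh_self X hu 0
  have A : ∀ a, ix a ≠ Fin.last k → ∀ y, polar (plusQF (k + 1) E) (e (b a)) y = 0 →
      R (sg _ (e (b a)) y) = Xh ι c e ε (b a) y := by
    intro a n v hv
    have q := b_q X hb n
    have q' : plusQF (k + 1) E (e (b a)) = 0 := by rw [hb a n, Q_single]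
    rw [hb a n, polar_comm, polar_single] at hv
    rw [← Finset.univ_sum_single v]
    refine (Finset.sum_induction _ (fun w => polar (plusQF (k + 1) E) (e (b a)) w = 0 ∧
      R (sg _ (e (b a)) w) = Xh ι c e ε (b a) w) (fun w w' p p' =>
        ⟨by rw [polar_add_right, p.1, p'.1, add_zero],
        by rw [sg_add ⟨q', p.1⟩ ⟨q', p'.1⟩, map_mul, h.Xh_add X q p.1 p'.1, p.2, p'.2]⟩)
      ⟨polar_zero_right _ _, by rw [sg_zero, map_one, x0 _ q]⟩ fun a' _ => ?_).2
    obtain ⟨a', rfl⟩ := Sum.swap_rightInverse.surjective a'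
    by_cases h1 : a = a'
    · rw [← h1, hv, Pi.single_zero]
      exact ⟨polar_zero_right _ _, by rw [sg_zero, map_one, x0 _ q]⟩
    rw [← mul_one (v _), ← smul_eq_mul, Pi.single_smul]
    refine ⟨by rw [hb a n]; exact polar_xO h1 _, ?_⟩
    by_cases h2 : a = a'.swap
    · rw [← h2, ← hb a n, sg_self q', map_one, h.Xh_self X q]
    · rw [← xR_l n, ← hR a a' h1 h2, hb a n]
  have n0 : ix (Sum.inl 0 : Fin (k + 1) ⊕ Fin (k + 1)) ≠ Fin.last k := fun e => by
    have := congrArg Fin.val e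
    simp [ix] at this; omega
  have n1 : ix (Sum.inl 0 : Fin (k + 1) ⊕ Fin (k + 1)).swap ≠ Fin.last k := n0
  have o := b_hyp X hb n0
  have o' : IsHyp (plusQF (k + 1) E) (e (b (.inl 0))) (e (b (Sum.inl 0).swap)) :=
    ⟨by rw [X.q, o.left, map_zero], by rw [X.q, o.right, map_zero], by rw [X.pol, o.pol, map_one]⟩
  let φ : EG Q →* EG (plusQF (k + 1) E) :=
    (X.desc.toFormExt.extO.comp (EG Q).subtype).codRestrict _ fun g =>
      EG_le (H := (EG _).comap X.desc.toFormExt.extO) (fun u v hu hv => by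
        change X.desc.toFormExt.extO _ ∈ EG _
        rw [X.desc.toFormExt.extO_eichler hu hv]; exact eichler_mem_EG _ _) g.2
  have hφ : ∀ g, (φ g).1 = X.desc.toFormExt.extO g.1 := fun _ => rfl
  have x1 : ∀ u v, Xh ι c e ε u (e v) = ι (sg Q u v) := fun u v => by
    rw [← h.toFam.XX_zero, ← X.Xh_eq, X.desc.zero, smul_zero, add_zero]
  have x2 : ∀ u v, Xh ι c e ε u (ε • e v) = c (sg Q u v) := fun u v => by
    rw [← Fam.XX_zero' (ι := ι) (c := c), ← X.Xh_eq, X.desc.zero, zero_add]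
  have B : ∀ g, R (φ g) = ι g := by
    have k : ∀ a, ix a ≠ Fin.last k → ∀ v, 𝐟 (b a) v = 0 →
        sg Q (b a) v ∈ (R.comp φ).eqLocus ι := fun a n v hv => by
      have : φ (sg Q (b a) v) = sg _ (e (b a)) (e v) := Subtype.ext (by
        rw [hφ, coe_sg, X.desc.toFormExt.extO_eichler (b_q X hb n) hv, inv_one, one_smul, coe_sg])
      change R (φ _) = _
      rw [this, A a n _ (by rw [X.pol, hv, map_zero]), x1]
    exact h.toDm.gen_hyp o _ (k _ n0) (k _ n1)
  have C : ∀ u y, Q u = 0 → polar (plusQF (k + 1) E) (e u) y = 0 →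
      R (sg _ (e u) y) = Xh ι c e ε u y := fun u y hu hy => by
    by_cases u0 : u = 0
    · obtain ⟨v, w, rfl⟩ := X.dec y
      rw [u0, X.desc.zero, sg_zero_left, map_one, X.Xh_eq, XX, sg_zero_left, sg_zero_left, map_one,
        h.toFam.c_one, mul_one]
    obtain ⟨g, rfl⟩ := h.toDm.trans1 o.left o.left_ne_zero hu u0
    obtain ⟨y, rfl⟩ := (φ g).1.1.surjective y
    have e1 : e (g.1.1 (b (.inl 0))) = (φ g).1.1 (e (b (.inl 0))) := by
      rw [hφ, X.desc.toFormExt.extO_apply]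
    rw [e1, OG.map_polar] at hy
    rw [e1, ← conj_sg, map_mul, map_mul, map_inv, B, A _ n0 y hy, h.Xh_conj X o.left hy, hφ]
  have tp : ∀ u y, polar (plusQF (k + 1) E) (e u) y = 0 →
      polar (plusQF (k + 1) E) (e u) (T.T y) = 0 := fun u y hy => by
    obtain ⟨v, w, rfl⟩ := X.dec y
    rw [X.T_apply, X.perp]
    rw [X.perp] at hy
    exact ⟨by rw [polar_add_right, hy.1, hy.2, add_zero], hy.2⟩
  refine ⟨j, e, ε, R, T, h.toFam, hE, ⟨hD, ?_⟩, KSG.isPlus_plusQF _, X.desc, X.σε, X.TT, ⟨X.c, ?_⟩,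
    fun u w hu => by rw [C u _ hu.l (by rw [X.pol, hu.p, map_zero]), x1],
    fun u w hu => by rw [C u _ hu.l (by rw [polar_smul_right', X.pol, hu.p, map_zero, mul_zero]), x2],
    le_antisymm ?_ ?_⟩
  · have := hD.simple
    have := h.toDm.simple
    rw [← MonoidHom.ker_eq_bot_iff]
    refine (IsSimpleGroup.eq_bot_or_eq_top_of_normal R.ker inferInstance).resolve_right fun e1 => ?_
    obtain ⟨g, hg⟩ := exists_ne (1 : EG Q)
    exact hg (h.inj (by rw [← B, map_one]; exact e1.ge (mem_top (φ g))))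
  · have k : ∀ u, Q u = 0 → ∀ y, polar (plusQF (k + 1) E) (e u) y = 0 → sg _ (e u) y ∈
        ((MulAut.conj t).toMonoidHom.comp R).eqLocus (R.comp (cE T)) := fun u hu y hy => by
      change t * R _ * t⁻¹ = R (cE T _)
      rw [cE_sg X.c ⟨by rw [X.q, hu, map_zero], hy⟩, X.desc.fix, C u y hu hy, C u _ hu (tp u y hy),
        h.Xh_t X hu hy]
    exact hD.gen_hyp o' _ (k _ o.left) (k _ o.right)
  · rintro _ ⟨g, rfl⟩
    have k : ∀ u, Q u = 0 → ∀ y, polar (plusQF (k + 1) E) (e u) y = 0 → sg _ (e u) y ∈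
        (G0 ι c).comap R := fun u hu y hy => by
      rw [mem_comap, C u y hu hy]; exact h.Xh_mem X hu hy
    exact hD.gen_hyp o' _ (k _ o.left) (k _ o.right) g
  · have k : ∀ u v w, Ok Q u v → Ok Q u w → XX ι c u v w ∈ R.range := fun u v w h1 h2 =>
      ⟨_, (C u _ h1.l (X.perp.2 ⟨h1.p, h2.p⟩)).trans (X.Xh_eq u v w)⟩
    exact h.toFam.G0_le o (k _) (k _)

end Cfsg.Agent.StdO
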