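import Cfsg.Agent.StdO.BasA
import Cfsg.Agent.StdL.Set0
import Cfsg.Agent.StdU.Set0

/-! From the hypotheses of S3130 to the standard set-up (template: `StdU/Set0`). -/

set_option autoImplicit false
set_option linter.unusedSectionVars false
set_option linter.unusedVariables false

namespace Cfsg.Agent.StdO

open Subgroup Module QuadraticMap Cfsg.Agent.Class.Orth Cfsg.Agent.KSG Cfsg.Agent.PLocal.Amb
  Cfsg.Agent.Lyons
open Cfsg.Agent.StdL (cjh)
open scoped commutatorElement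

variable {F V : Type*} [Field F] [Finite F] [CharP F 2] [AddCommGroup V] [Module F V]
  [FiniteDimensional F V] {Q : QuadraticForm F V} {G : Type*} [Group G] [Finite G]
  {ι : EG Q →* G} {t : G}

local notation "𝐟" => polar Q

theorem exists_lift_EG (hd : Dm Q) {L : Type*} [Group L] [Finite L] (hL : Cfsg.IsQuasisimple L)
    (h2 : 2 ∣ Nat.card L) (e : (L ⧸ Cfsg.oddCore L) ≃* EG Q) :
    ∃ ψ : EG Q →* L, Function.Surjective ψ ∧ Function.Injective ψ := by
  have : Finite (EG Q) := finite_EG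
  have : Fact (Nat.Prime 2) := ⟨Nat.prime_two⟩
  let σ : L →* EG Q := e.toMonoidHom.comp (QuotientGroup.mk' _)
  have hs : Function.Surjective σ := e.surjective.comp (QuotientGroup.mk'_surjective _)
  have hk : σ.ker = Cfsg.oddCore L := by
    ext x
    exact e.map_eq_one_iff.trans (QuotientGroup.eq_one_iff x)
  have hc : σ.ker ≤ center L := by
    rw [hk]
    refine (PLocal.qs_normal hL (Cfsg.oddCore L) inferInstance).resolve_left fun h =>
      Grp.not_dvd_card_pPrimeCore 2 L ?_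
    rw [show Cfsg.pPrimeCore 2 L = ⊤ from h, card_top]
    exact h2
  obtain ⟨ψ, hψ⟩ := Mult.Cov.exists_lift (G := EG Q) hd.perfect hd.mcard hc (MonoidHom.id _)
    (by rw [MonoidHom.range_eq_top.2 hs]; exact le_top)
  have hψ' : ∀ g, σ (ψ g) = g := fun g => DFunLike.congr_fun hψ g
  refine ⟨ψ, ?_, fun g g' hg => by rw [← hψ' g, hg, hψ']⟩
  have h1 : ∀ x : L, ∃ g, ∃ z ∈ center L, x = ψ g * z := fun x => by
    refine ⟨σ x, (ψ (σ x))⁻¹ * x, hc ?_, by group⟩
    rw [MonoidHom.mem_ker, map_mul, map_inv, hψ']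
    exact inv_mul_cancel _
  rw [← MonoidHom.range_eq_top, eq_top_iff, ← hL.1.commutator_eq_top, commutator_def,
    commutator_le]
  intro x _ y _
  obtain ⟨g, z, hz, rfl⟩ := h1 x
  obtain ⟨h, w, hw, rfl⟩ := h1 y
  refine ⟨⁅g, h⁆, ?_⟩
  rw [Subgroup.mem_center_iff] at hz hw
  rw [map_commutatorElement, commutatorElement_def, commutatorElement_def, _root_.mul_inv_rev,
    _root_.mul_inv_rev]
  have e1 : ψ g * z * (ψ h * w) * (z⁻¹ * (ψ g)⁻¹) * (w⁻¹ * (ψ h)⁻¹) =
      ψ g * (z * (ψ h * w) * z⁻¹) * ((ψ g)⁻¹ * w⁻¹ * (ψ h)⁻¹) := by group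
  have e2 : (ψ g)⁻¹ * w⁻¹ = w⁻¹ * (ψ g)⁻¹ := by
    rw [← _root_.mul_inv_rev, ← _root_.mul_inv_rev, hw]
  rw [e1, ← hz, e2]
  group

omit [Finite G] in
/-- `Mult.Cov.exists_lift` with `Dm.perfect`, `Dm.mcard`; `ψ` is onto since `L` is perfect, and
injective since `e ∘ mk ∘ ψ = id`. -/
theorem exists_su [Finite G] (hd : Dm Q)
    (hF : IsSimpleGroup ↥(Cfsg.generalizedFittingSubgroup G))
    (hF' : ¬ IsMulCommutative ↥(Cfsg.generalizedFittingSubgroup G)) (L : Subgroup G)
    (hL : Cfsg.IsStandardSubgroup L)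
    (hR : ∀ R : Sylow 2 ↥(Subgroup.centralizer (L : Set G)),
      IsCyclic ↥(R : Subgroup ↥(Subgroup.centralizer (L : Set G))))
    (hLX : Nonempty ((↥L ⧸ Cfsg.oddCore ↥L) ≃* EG Q)) :
    ∃ (ι : EG Q →* G) (t : G), Su ι t ∧ ι.range ≤ Cfsg.generalizedFittingSubgroup G ∧
      StdZ.NI t ⊤ := by
  open Cfsg Cfsg.Agent.PLocal in
  have : Fact (Nat.Prime 2) := ⟨Nat.prime_two⟩
  obtain ⟨e⟩ := hLX
  have q := qs_of_simple hF hF'
  have bot : ∀ N : Subgroup G, N.Normal → ¬ generalizedFittingSubgroup G ≤ N →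
      N ⊓ generalizedFittingSubgroup G = ⊥ := fun N _ h =>
    subgroupOf_eq_bot.1 ((hF.eq_bot_or_eq_top_of_normal (N.subgroupOf _) inferInstance).resolve_right
      fun e => h (subgroupOf_eq_top.1 e)) |>.eq_bot
  have hC : 𝐂[generalizedFittingSubgroup G] = ⊥ := (inf_eq_left.2 (centralizer_fstar_le G)).symm.trans
    (bot _ inferInstance (qsS_not_le_centralizer q))
  have hO : oddCore G = ⊥ := by
    rw [eq_bot_iff, ← hC, ← commutator_eq_bot_iff_le_centralizer, eq_bot_iff,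
      ← bot (oddCore G) inferInstance fun h => Grp.not_dvd_card_pPrimeCore 2 G
        ((two_dvd_card_of_perfect (qsS_commutator q) (qsS_ne_bot q)).trans (card_dvd_of_le h))]
    exact commutator_le_inf _ _
  obtain ⟨t, h1, ht⟩ := Inv.exists_involution_of_even hL.2.1.1
  obtain ⟨ψ, hs, hk⟩ := exists_lift_EG hd hL.1
    (two_dvd_card_of_perfect (qsS_commutator hL.1) (qsS_ne_bot hL.1)) e
  have hr : (L.subtype.comp ψ).range = L := by
    rw [MonoidHom.range_comp, MonoidHom.range_eq_top.2 hs, ← MonoidHom.range_eq_map, range_subtype]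
  have t1 : t ≠ 1 := by rintro rfl; simp at ht
  refine ⟨L.subtype.comp ψ, t, ⟨⟨hd, L.subtype_injective.comp hk⟩,
    by rw [← pow_two, ← ht, pow_orderOf_eq_one], t1, ?_, fun c hc => ?_, fun P hP h2 => ?_⟩, ?_, ?_⟩
  · rw [hr]
    exact fun x hx => mem_centralizer_singleton_iff.2 (h1 x hx)
  · rw [hr]
    exact Std.centralizer_le hL ht h1 hc
  · have hP' : P ≤ 𝐂[L] := by
      refine hP.trans ?_
      rw [hr]; exact inf_le_right
    obtain ⟨R, hR'⟩ := (h2.of_equiv (subgroupOfEquivOfLe hP').symm).exists_le_sylow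
    have := hR R
    have := isCyclic_of_le hR'
    exact isCyclic_of_surjective _ (subgroupOfEquivOfLe hP').surjective
  · rw [hr]
    exact (pLayer_eq_layer_of_pPrimeCore_eq_bot hO ▸ Std.le_pLayer hL).trans layer_le_fstar
  · by_contra h
    have hz := Block.zstar (u := t) ⟨ht, fun g hg => by_contra fun e =>
      h ⟨g, trivial, e, mem_centralizer_singleton_iff.2 hg.eq.symm⟩⟩
    refine t1 (mem_bot.1 (hC ▸ fun x _ => ?_))
    have h3 := hz x
    rw [show pPrimeCore 2 G = ⊥ from hO, mem_bot, mul_inv_eq_one, mul_inv_eq_iff_eq_mul] at h3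
    exact h3.symm

theorem Dm.equiv (h : Dm Q) :
    Nonempty ((commutator (OG Q) ⧸ Subgroup.center (commutator (OG Q))) ≃* EG Q) := by
  have h1 : Subgroup.center (EG Q) = ⊥ :=
    eq_bot_iff.2 fun g hg => h.center fun k => (mem_center_iff.1 hg k).symm
  exact ⟨(quotCenterCongr (MulEquiv.subgroupCongr h.comm_eq)).trans
    ((QuotientGroup.quotientMulEquivOfEq h1).trans QuotientGroup.quotientBot)⟩

/-- `pOmegaCongr (plusEquiv ..)`, `Dm.comm_eq`, trivial centre -/
theorem equiv_plus {k : ℕ} (h : Dm (plusQF k F)) :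
    Nonempty (Cfsg.POmega F (Cfsg.quadFormPlus k F) ≃* EG (plusQF k F)) :=
  h.equiv.map fun e => (pOmegaCongr (plusEquiv k F)).trans e

theorem equiv_minus {k : ℕ} {a b : F} (h : Dm (minusQF k F a b)) :
    Nonempty (Cfsg.POmega F (Cfsg.quadFormMinus k F a b) ≃* EG (minusQF k F a b)) :=
  h.equiv.map fun e => (pOmegaCongr (minusEquiv k F a b)).trans e

end Cfsg.Agent.StdO
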