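import Cfsg.Agent.StdO.Act

/-! The split case `d = θ² + θ` (template: `StdU/Sp`, `Ac.spl`). -/

set_option autoImplicit false
set_option linter.unusedSectionVars false
set_option linter.unusedVariables false

namespace Cfsg.Agent.StdO

open Subgroup Module QuadraticMap Cfsg.Agent.Class.Orth Cfsg.Agent.KSG Cfsg.Agent.PLocal.Amb
  Cfsg.Agent.Lyons
open Cfsg.Agent.StdL (cjh)
open scoped commutatorElement

variable {F V : Type*} [Field F] [Finite F] [CharP F 2] [AddCommGroup V] [Module F V]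
  [FiniteDimensional F V] {Q : QuadraticForm F V} {G : Type*} [Group G] [Finite G]
  {ι : EG Q →* G} {t : G}

local notation "𝐟" => polar Q

variable {u y s w : V} {c : EG Q → G} {d θ : F}

theorem spl_ex2 {p q r e : F} (h : p * e + q * r = 0) :
    ∃ a b d d' : F, a * d' + b * d = 1 ∧ a * p + b * r = 0 ∧ a * q + b * e = 0 := by
  have t2 := two_zero F
  by_cases h1 : r = 0
  · by_cases h2 : p = 0
    · by_cases h3 : e = 0
      · exact ⟨0, 1, 1, 0, by ring, by rw [h1]; ring, by rw [h3]; ring⟩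
      · exact ⟨e, q, 0, e⁻¹, by rw [mul_inv_cancel₀ h3]; ring, by rw [h1, h2]; ring,
          by linear_combination (e * q) * t2⟩
    · exact ⟨r, p, p⁻¹, 0, by rw [mul_inv_cancel₀ h2]; ring, by linear_combination (r * p) * t2,
        by linear_combination h⟩
  · exact ⟨r, p, 0, r⁻¹, by rw [mul_inv_cancel₀ h1]; ring, by linear_combination (r * p) * t2,
      by linear_combination h⟩

theorem Act.sp_com0 (h : Act ι t c d) (hθ : θ * θ + θ = d) (h1 : TS2 Q u y) (h2 : TS2 Q s w)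
    (e : 𝐟 u s * 𝐟 y w + 𝐟 u w * 𝐟 y s = 0) :
    Commute (XX ι c u (θ • y) y) (XX ι c s ((θ + 1) • w) w) := by
  have t2 := two_zero F
  obtain ⟨a, b, e, e', h3, h4, h5⟩ := spl_ex2 e
  have m : ∀ a b : F, a • u + b • y ∈ Submodule.span F {u, y} := fun a b =>
    Submodule.mem_span_pair.2 ⟨a, b, rfl⟩
  have o := TS2.of_ts h1.ts_span (m a b) (m e e')
  have k := h.conj (u := a • u + b • y) ⟨o.l, h2.l, by simpa using h4⟩ ⟨o.l, h2.r, by simpa using h5⟩ h2
    (ok_of o) (θ + 1) θ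
  rw [show (θ + 1) * θ + d = 0 by linear_combination (d) * t2 + hθ,
    show θ + 1 + θ + 1 = 0 by linear_combination (θ + 1) * t2, zero_smul, add_zero, add_zero] at k
  have e1 : XX ι c (a • u + b • y) (θ • (e • u + e' • y)) (e • u + e' • y) = XX ι c u (θ • y) y := by
    rw [XX, XX, smul_add, smul_smul, smul_smul, sg_comb h1, sg_comb h1, h3, one_smul,
      show a * (θ * e') + b * (θ * e) = θ by linear_combination θ * h3]
  rw [e1] at k
  exact (mul_inv_eq_iff_eq_mul.1 k).symm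

theorem Act.sp_cm {x x' : V} (h : Act ι t c d) (hθ : θ * θ + θ = d) (h2 : TS2 Q s w) (o : IsHyp Q x x')
    (e1 : 𝐟 s x = 0) (e2 : 𝐟 w x = 0) (e3 : 𝐟 s x' = 0) (e4 : 𝐟 w x' = 0) :
    XX ι c s (θ • w) w = (XX ι c s (θ • x) x)⁻¹ *
      (XX ι c w (θ • x') x' * XX ι c s (θ • x) x * (XX ι c w (θ • x') x')⁻¹) := by
  have t2 := two_zero F
  have o1 : Ok Q s x := ⟨h2.l, e1⟩
  rw [h.conj h2 ⟨h2.l, o.right, e3⟩ ⟨h2.r, o.right, e4⟩ o1, polar_comm _ x w, e2, o.pol, zero_smul,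
    zero_add, one_smul, show θ * θ + d = θ by linear_combination (θ * θ) * t2 - hθ,
    show θ + θ + 1 = 1 by linear_combination θ * t2, one_smul,
    ← h.toFam.XX_mul (o1.smul θ) o1 ((ok_of h2).smul θ) (ok_of h2), inv_mul_cancel_left]

/-- If some `0 ≠ u' ∈ ⟨u, y⟩` is orthogonal to `s, w`, rewrite `(u, y)` as `(u', y')` with
`sg u (a y) = sg u' (a y')` (`sg_comb`) and use `Act.conj` (both coefficients vanish).  Otherwise
`X = ⟨u,y,s,w⟩` is non-degenerate and `X^⊥` contains a hyperbolic pair `x, x'` (`exists_sing`,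
`exists_perp`); by `Act.conj` with `φ = ψ`, `X(s,(φ+ε) w)` is the commutator of `X(w,(φ+ε) x')` and
`X(s,(φ+ε) x)`, and each of the lines `⟨w,x'⟩`, `⟨s,x⟩` is orthogonal to a point of `⟨u,y⟩`. -/
theorem Act.sp_com (h : Act ι t c d) (hθ : θ * θ + θ = d) (h1 : TS2 Q u y) (h2 : TS2 Q s w) :
    Commute (XX ι c u (θ • y) y) (XX ι c s ((θ + 1) • w) w) := by
  classical
  by_cases e : 𝐟 u s * 𝐟 y w + 𝐟 u w * 𝐟 y s = 0
  · exact h.sp_com0 hθ h1 h2 e
  have t2 := two_zero F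
  let X := Submodule.span F ({u, y, s, w} : Set V)
  have d4 : finrank F X ≤ 4 := by
    have := finrank_span_finset_le_card (R := F) ({u, y, s, w} : Finset V)
    rw [Set.finrank, Finset.coe_insert, Finset.coe_insert, Finset.coe_pair] at this
    exact this.trans Finset.card_le_four
  have pX : ∀ x ∈ perp Q X, 𝐟 u x = 0 ∧ 𝐟 y x = 0 ∧ 𝐟 s x = 0 ∧ 𝐟 w x = 0 := fun x hx => by
    simpa using mem_perp_span.1 hx
  obtain ⟨x, x1, x2, x3⟩ := exists_sing (Q := Q) (U := ⊥) (W := perp Q X) (by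
    have := finrank_perp h.nd X
    have := h.d8
    rw [bot_inf_eq, finrank_bot]
    omega)
  obtain ⟨a1, a2, a3, a4⟩ := pX x x1
  obtain ⟨z, z1, z2⟩ := exists_perp h.nd (U := X) (x := x) (fun hx => by
    obtain ⟨α, _, ⟨β, _, ⟨γ, δ, rfl⟩, rfl⟩, rfl⟩ : ∃ (α : F) (z : V), (∃ (β : F) (z' : V),
        (∃ γ δ : F, γ • s + δ • w = z') ∧ z = β • y + z') ∧ x = α • u + z := by
      obtain ⟨α, z, hz, e⟩ := Submodule.mem_span_insert.1 hx
      obtain ⟨β, z', hz', e'⟩ := Submodule.mem_span_insert.1 hz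
      exact ⟨α, z, ⟨β, z', Submodule.mem_span_pair.1 hz', e'⟩, e⟩
    simp only [polar_add_right, polar_smul_right, f_self, h1.p, h1.p', h2.p, h2.p', smul_eq_mul,
      polar_comm _ s u, polar_comm _ s y, polar_comm _ w u, polar_comm _ w y] at a1 a2 a3 a4
    have b1 : α = 0 := mul_left_cancel₀ e (by
      linear_combination 𝐟 y w * a3 + 𝐟 y s * a4 - (β * 𝐟 y s * 𝐟 y w) * t2)
    have b2 : β = 0 := mul_left_cancel₀ e (by
      linear_combination 𝐟 u w * a3 + 𝐟 u s * a4 - (α * 𝐟 u s * 𝐟 u w) * t2)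
    have b3 : γ = 0 := mul_left_cancel₀ e (by
      linear_combination 𝐟 y w * a1 + 𝐟 u w * a2 - (δ * 𝐟 u w * 𝐟 y w) * t2)
    have b4 : δ = 0 := mul_left_cancel₀ e (by
      linear_combination 𝐟 y s * a1 + 𝐟 u s * a2 - (γ * 𝐟 u s * 𝐟 y s) * t2)
    exact x2 (by simp [b1, b2, b3, b4])) 1
  obtain ⟨b1, b2, b3, b4⟩ := pX _ (add_mem z1 (Submodule.smul_mem _ (Q z) x1))
  have o : IsHyp Q x (z + Q z • x) := ⟨x3, by
    rw [Q_add, QuadraticMap.map_smul, x3, polar_smul_right, polar_comm _ z, z2, smul_eq_mul, smul_eq_mul]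
    linear_combination Q z * t2, by rw [polar_add_right, polar_smul_right, z2, f_self]; simp⟩
  have c1 := h.sp_com0 hθ h1 (s := s) ⟨h2.l, x3, a3⟩ (by rw [a1, a2]; ring)
  have c2 := h.sp_com0 hθ h1 (s := w) ⟨h2.r, o.right, b4⟩ (by rw [b1, b2]; ring)
  rw [h.sp_cm (by linear_combination hθ + (θ + 1) * t2) h2 o a3 a4 b3 b4]
  exact c1.inv_right.mul_right ((c2.mul_right c1).mul_right c2.inv_right)

/-- `L₁ = closure {XX u (θ y) y}`, `t L₁ t⁻¹` commutes with `L₁` (`XX_t`, `sp_com`).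
`Δ = {(g, x) | x ∈ L₁, ι g = x * t x t⁻¹}` projects onto `EG Q` (`Dm.gen`) with central kernel;
`Mult.Cov.exists_lift` with `Dm.perfect`, `Dm.mcard`.  `L₁ ≤ r.range`: a generator `x` attached to
`z` differs from `r z` by an element of `Z(L₁)`, and every generator is a commutator of two generators
(hyperbolic pair in `⟨s,w⟩^⊥`, as in `sp_com`). -/
theorem Act.spl (h : Act ι t c d) (hθ : θ * θ + θ = d) : ∃ r, Spl ι t c r := by
  have : Finite (EG Q) := finite_EG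
  have f := h.toFam
  let L : Subgroup G := closure {g | ∃ u y, TS2 Q u y ∧ g = XX ι c u (θ • y) y}
  have mL : ∀ u y, TS2 Q u y → XX ι c u (θ • y) y ∈ L := fun u y o => subset_closure ⟨u, y, o, rfl⟩
  have ht : ∀ u y, TS2 Q u y → t * XX ι c u (θ • y) y * t⁻¹ = XX ι c u ((θ + 1) • y) y :=
    fun u y o => by rw [f.XX_t ((ok_of o).smul θ) (ok_of o), add_smul, one_smul]
  have cL : ∀ a ∈ L, ∀ b ∈ L, Commute a (t * b * t⁻¹) := fun a ha b hb => by
    have h1 : L ≤ centralizer {t * b * t⁻¹} := (closure_le _).2 (by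
      rintro _ ⟨u, y, o, rfl⟩
      have h2 : L ≤ (centralizer {XX ι c u (θ • y) y}).comap (MulAut.conj t).toMonoidHom :=
        (closure_le _).2 (by
          rintro _ ⟨s, w, o', rfl⟩
          exact mem_centralizer_singleton_iff.2 (by
            change t * _ * t⁻¹ * _ = _ * (t * _ * t⁻¹)
            rw [ht s w o']
            exact (h.sp_com hθ o o').symm))
      exact mem_centralizer_singleton_iff.2 (mem_centralizer_singleton_iff.1 (h2 hb)).symm)
    exact mem_centralizer_singleton_iff.1 (h1 ha)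
  let Δ : Subgroup (EG Q × G) :=
    { carrier := {p | p.2 ∈ L ∧ ι p.1 = p.2 * (t * p.2 * t⁻¹)}
      one_mem' := ⟨one_mem L, by simp⟩
      mul_mem' := fun {a b} ha hb => ⟨mul_mem ha.1 hb.1, by
        rw [Prod.fst_mul, Prod.snd_mul, map_mul, ha.2, hb.2, ← conj_mul,
          (cL _ hb.1 _ ha.1).symm.mul_mul_mul_comm]⟩
      inv_mem' := fun {a} ha => ⟨inv_mem ha.1, by
        rw [Prod.fst_inv, Prod.snd_inv, map_inv, ha.2, (cL _ ha.1 _ ha.1).eq, mul_inv_rev, conj_inv]⟩ }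
  have mΔ : ∀ u y, TS2 Q u y → (sg Q u y, XX ι c u (θ • y) y) ∈ Δ := fun u y o =>
    ⟨mL u y o, by
      change ι (sg Q u y) = _
      rw [ht u y o, f.XX_mul ((ok_of o).smul _) (ok_of o) ((ok_of o).smul _) (ok_of o), add_self' F,
        f.XX_zero, add_smul, ← add_assoc, add_self' F, zero_add, one_smul]⟩
  have kc : ∀ p ∈ Δ, p.1 = 1 → ∀ a ∈ L, Commute a p.2 := fun p hp e a ha => by
    have e1 := hp.2
    rw [e, map_one] at e1
    rw [eq_inv_of_mul_eq_one_left e1.symm]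
    exact (cL a ha _ hp.1).inv_right
  let π : Δ →* EG Q := (MonoidHom.fst _ _).comp Δ.subtype
  obtain ⟨ψ, hψ⟩ := Mult.Cov.exists_lift (G := EG Q) h.toDm.perfect h.toDm.mcard (σ := π)
    (fun p hp => Subgroup.mem_center_iff.2 fun a => Subtype.ext (Prod.ext
      (by
        have e : p.1.1 = 1 := hp
        change a.1.1 * p.1.1 = p.1.1 * a.1.1
        rw [e, mul_one, one_mul])
      (kc p.1 p.2 hp _ a.2.1)))
    (MonoidHom.id _) (fun g _ => (h.toDm.gen (H := π.range)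
      fun u v o => ⟨⟨_, mΔ u v (ti2_iff.1 o).1⟩, rfl⟩).ge (mem_top g))
  have e1 : ∀ g, (ψ g).1.1 = g := fun g => DFunLike.congr_fun hψ g
  let r : EG Q →* G := ((MonoidHom.snd _ _).comp Δ.subtype).comp ψ
  have rL : ∀ g, r g ∈ L := fun g => (ψ g).2.1
  have dec : ∀ g, ι g = r g * (t * r g * t⁻¹) := fun g => by
    have := (ψ g).2.2
    rwa [e1] at this
  have mι : ∀ g, ι g ∈ r.range ⊔ cj(t, r.range) := fun g =>
    dec g ▸ mul_mem (mem_sup_left ⟨g, rfl⟩) (mem_sup_right (conj_mem_cj t ⟨g, rfl⟩))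
  have k : ∀ u y, TS2 Q u y → ∃ g k, XX ι c u (θ • y) y = r g * k ∧ ∀ a ∈ L, Commute a k :=
    fun u y o => ⟨sg Q u y, _, (mul_inv_cancel_left _ _).symm,
      kc _ (mul_mem (inv_mem (ψ (sg Q u y)).2) (mΔ u y o)) (by simp [e1])⟩
  refine ⟨r, f, fun g g' => cL _ (rL g) _ (rL g'), dec, sup_le (by rintro _ ⟨g, rfl⟩; exact mι g)
    ((closure_le _).2 ?_)⟩
  rintro _ ⟨z, hz, rfl⟩
  obtain ⟨s, w, o, rfl⟩ := (root_iff h.nd).1 hz
  have o := (ti2_iff.1 o).1
  obtain ⟨x, x1, x', x2, y⟩ := exists_hyp h.nd o.ts_span (by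
    have := h.d8
    have : finrank F (Submodule.span F ({s, w} : Set V)) ≤ 2 := by
      classical
      have := finrank_span_finset_le_card (R := F) ({s, w} : Finset V)
      rw [Set.finrank, Finset.coe_pair] at this
      exact this.trans Finset.card_le_two
    omega)
  obtain ⟨a1, a2⟩ := mem_perp2''.1 x1
  obtain ⟨a3, a4⟩ := mem_perp2''.1 x2
  have e := h.sp_cm hθ o y a1 a2 a3 a4
  obtain ⟨g1, k1, p1, q1⟩ := k s x ⟨o.l, y.left, a1⟩
  obtain ⟨g2, k2, p2, q2⟩ := k w x' ⟨o.r, y.right, a4⟩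
  have m1 := mL s x ⟨o.l, y.left, a1⟩
  rw [p2, mul_assoc (r g2), ← (q2 _ m1).eq, mul_inv_rev, mul_assoc (r g2), mul_assoc _ k2,
    mul_inv_cancel_left, p1, mul_inv_rev, mul_assoc (r g1), ← (q1 _ (inv_mem (rL g2))).eq,
    ← mul_assoc, ← mul_assoc, ← mul_assoc, mul_assoc k1⁻¹, mul_assoc k1⁻¹, mul_assoc k1⁻¹, mul_assoc,
    (q1 _ (mul_mem (mul_mem (mul_mem (inv_mem (rL g1)) (rL g2)) (rL g1)) (inv_mem (rL g2)))).eq,
    inv_mul_cancel_left, XX, ← eq_inv_mul_iff_mul_eq] at e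
  rw [SetLike.mem_coe, e]
  exact mul_mem (inv_mem (mι _)) (mem_sup_left ⟨g1⁻¹ * g2 * g1 * g2⁻¹, by simp⟩)

end Cfsg.Agent.StdO
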