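import Cfsg.Agent.StdO.BasB
import Cfsg.Agent.PLocal.AmbSyl

/-! The group `Q = Qq u e`, `ℓ = ⟨u, e⟩`. -/

set_option autoImplicit false
set_option linter.unusedSectionVars false
set_option linter.unusedVariables false

namespace Cfsg.Agent.StdO

open Subgroup Module QuadraticMap Cfsg.Agent.Class.Orth Cfsg.Agent.KSG Cfsg.Agent.PLocal.Amb
  Cfsg.Agent.Lyons
open Cfsg.Agent.StdL (cjh)
open scoped commutatorElement

variable {F V : Type*} [Field F] [Finite F] [CharP F 2] [AddCommGroup V] [Module F V]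
  [FiniteDimensional F V] {Q : QuadraticForm F V} {G : Type*} [Group G] [Finite G]
  {ι : EG Q →* G} {t : G}

local notation "𝐟" => polar Q

variable {u e v w v' w' : V} {a : F} {g : EG Q}

local notation "ℓ" => Submodule.span F (insert u (Singleton.singleton e) : Set V)

namespace RtA

variable (u e) in
theorem u_mem : u ∈ ℓ := Submodule.subset_span (by simp)

variable (u e) in
theorem comb_mem (a b : F) : a • u + b • e ∈ ℓ := Submodule.mem_span_pair.2 ⟨a, b, rfl⟩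

theorem u_perp (h : TS2 Q u e) : u ∈ perp Q ℓ := mem_perp2''.2 ⟨f_self u, h.symm.p⟩

theorem e_perp (h : TS2 Q u e) : e ∈ perp Q ℓ := mem_perp2''.2 ⟨h.p, f_self e⟩

theorem ae_perp (h : TS2 Q u e) (a : F) : a • e ∈ perp Q ℓ := Submodule.smul_mem _ a (e_perp h)

theorem oku (h : TS2 Q u e) (hw : w ∈ perp Q ℓ) : Ok Q u w := ⟨h.l, (mem_perp2''.1 hw).1⟩

theorem oke (h : TS2 Q u e) (hw : w ∈ perp Q ℓ) : Ok Q e w := ⟨h.r, (mem_perp2''.1 hw).2⟩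

theorem pu (hw : w ∈ perp Q ℓ) : 𝐟 w u = 0 := (polar_comm Q _ _).trans (mem_perp2''.1 hw).1

theorem pe (hw : w ∈ perp Q ℓ) : 𝐟 w e = 0 := (polar_comm Q _ _).trans (mem_perp2''.1 hw).2

theorem indep (h : TI Q ![u, e]) {a b : F} (c : a • u + b • e = 0) : a = 0 ∧ b = 0 :=
  LinearIndependent.pair_iff.1 h.li a b c

theorem ti3 (h : TI Q ![u, e]) (hw : w ∈ perp Q ℓ) (h0 : Q w = 0) (h1 : w ∉ ℓ) : TI Q ![u, e, w] := by
  have t := (ti2_iff.1 h).1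
  refine ti3_iff.2 ⟨t, ⟨t.l, h0, (mem_perp2''.1 hw).1⟩, (mem_perp2''.1 hw).2, fun a b d c => ?_⟩
  obtain rfl : d = 0 := by
    by_contra hd
    refine h1 ?_
    rw [add_eq_zero_iff_eq_neg, neg_eq' F] at c
    rw [← inv_smul_smul₀ hd w, ← c]
    exact Submodule.smul_mem _ _ (comb_mem u e a b)
  rw [zero_smul, add_zero] at c
  exact ⟨(indep h c).1, (indep h c).2, rfl⟩

theorem sg_ne (hQ : ND Q) (h : TI Q ![u, e]) : sg Q u e ≠ 1 := fun c => by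
  obtain ⟨t, h0, h1⟩ := ti2_iff.1 h
  obtain ⟨a, ha⟩ := (sg_eq_one hQ (ok_of t) h0).1 c
  exact h1 a ha

theorem S_stab (hQ : ND Q) (h : TI Q ![u, e]) (hg : g ∈ 𝐳[sg Q u e]) (hv : v ∈ ℓ) : g.1.1 v ∈ ℓ := by
  obtain ⟨a, b, d, d', -, h1, h2⟩ := comm_root hQ h (mem_centralizer_singleton_iff.1 hg)
  obtain ⟨x, y, rfl⟩ := Submodule.mem_span_pair.1 hv
  rw [map_add, map_smul, map_smul, h1, h2]
  exact add_mem (Submodule.smul_mem _ _ (comb_mem u e _ _)) (Submodule.smul_mem _ _ (comb_mem u e _ _))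

theorem S_perp (hQ : ND Q) (h : TI Q ![u, e]) (hg : g ∈ 𝐳[sg Q u e]) (hv : v ∈ perp Q ℓ) :
    g.1.1 v ∈ perp Q ℓ := perp_map_mem (fun _ ha => S_stab hQ h (inv_mem hg) ha) hv

theorem cj_apply (g k : EG Q) (v : V) : (g * k * g⁻¹).1.1 v = g.1.1 (k.1.1 ((g⁻¹).1.1 v)) := rfl

theorem app_inv (g : EG Q) (v : V) : g.1.1 ((g⁻¹).1.1 v) = v := OG.apply_inv_apply g.1 v

theorem inv_app (g : EG Q) (v : V) : (g⁻¹).1.1 (g.1.1 v) = v := OG.inv_apply_apply g.1 v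

end RtA

open RtA

/-- a hyperbolic frame for `ℓ` (`TI.exists_dual` twice, then correct `f₁` by a multiple of `e`) -/
theorem exists_frame (hQ : ND Q) (h : TI Q ![u, e]) : ∃ f₁ f₂, IsHyp Q u f₁ ∧ IsHyp Q e f₂ ∧
    𝐟 u f₂ = 0 ∧ 𝐟 e f₁ = 0 ∧ 𝐟 f₁ f₂ = 0 := by
  have t := (ti2_iff.1 h).1
  obtain ⟨y, y0, hy⟩ := h.exists_dual hQ ![1, 0] (j := 0) one_ne_zero
  obtain ⟨f, f0, hf⟩ := h.exists_dual hQ ![0, 1] (j := 1) one_ne_zero
  have y1 : 𝐟 u y = 1 := hy 0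
  have y2 : 𝐟 e y = 0 := hy 1
  have f1 : 𝐟 u f = 0 := hf 0
  have f2 : 𝐟 e f = 1 := hf 1
  refine ⟨y + 𝐟 y f • e, f, ⟨t.l, ?_, ?_⟩, ⟨t.r, f0, f2⟩, f1, ?_, ?_⟩
  · rw [Q_add, Q_smul, polar_smul_right', y0, t.r, polar_comm Q y e, y2]; ring
  · rw [polar_add_right, polar_smul_right', y1, t.p]; ring
  · rw [polar_add_right, polar_smul_right', y2, f_self]; ring
  · rw [polar_add_left, polar_smul_left', f2, mul_one, CharTwo.add_self_eq_zero]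

theorem z_comm (h : TS2 Q u e) (hg : g ∈ Fx Q ℓ) (a : F) : Commute g (sg Q u (a • e)) :=
  comm_sg (mem_Fx2.1 hg).1 (by rw [map_smul, (mem_Fx2.1 hg).2])

/-- `sg e w'` fixes `u` and sends `w` to `w + 𝐟 w w' • e` -/
theorem sg_swap_Q (h : TS2 Q u e) (hw : w ∈ perp Q ℓ) (hw' : w' ∈ perp Q ℓ) :
    sg Q e w' * sg Q u w = sg Q u w * sg Q e w' * sg Q u (𝐟 w w' • e) := by
  have h1 := conj_sg (sg Q e w') u w
  rw [sg_fix h.p (oku h hw').p, sg_apply_perp (oke h hw') (pe hw), sg_add (oku h hw) (oku h (ae_perp h _)),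
    mul_inv_eq_iff_eq_mul] at h1
  rw [h1, mul_assoc, mul_assoc, (z_comm h (sg_mem_Fx (e_perp h) hw') _).eq]

theorem RtA.mulQ (h : TS2 Q u e) (hv : v ∈ perp Q ℓ) (hv' : v' ∈ perp Q ℓ) (hw : w ∈ perp Q ℓ)
    (hw' : w' ∈ perp Q ℓ) : sg Q u v * sg Q e v' * (sg Q u w * sg Q e w') =
      sg Q u (v + w) * sg Q e (v' + w') * sg Q u (𝐟 w v' • e) := by
  rw [sg_add (oku h hv) (oku h hw), sg_add (oke h hv') (oke h hw')]
  calc _ = sg Q u v * (sg Q e v' * sg Q u w) * sg Q e w' := by simp only [mul_assoc]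
    _ = _ := by
      rw [sg_swap_Q h hw hv']
      simp only [mul_assoc, (z_comm h (sg_mem_Fx (e_perp h) hw') _).eq]

theorem RtA.mulZ (h : TS2 Q u e) (hw : w ∈ perp Q ℓ) (hw' : w' ∈ perp Q ℓ) (a : F) :
    sg Q u w * sg Q e w' * sg Q u (a • e) = sg Q u (w + a • e) * sg Q e w' := by
  rw [sg_add (oku h hw) (oku h (ae_perp h _)), mul_assoc, mul_assoc, (z_comm h (sg_mem_Fx (e_perp h) hw') _).eq]

theorem mem_Qq (h : TS2 Q u e) : g ∈ Qq Q u e ↔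
    ∃ w ∈ perp Q ℓ, ∃ w' ∈ perp Q ℓ, g = sg Q u w * sg Q e w' := by
  constructor
  · let H : Subgroup (EG Q) :=
      { carrier := {g | ∃ w ∈ perp Q ℓ, ∃ w' ∈ perp Q ℓ, g = sg Q u w * sg Q e w'}
        one_mem' := ⟨0, zero_mem _, 0, zero_mem _, by rw [sg_zero, sg_zero, one_mul]⟩
        mul_mem' := by
          rintro _ _ ⟨v, hv, v', hv', rfl⟩ ⟨w, hw, w', hw', rfl⟩
          exact ⟨_, add_mem (add_mem hv hw) (ae_perp h _), _, add_mem hv' hw', by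
            rw [mulQ h hv hv' hw hw', mulZ h (add_mem hv hw) (add_mem hv' hw')]⟩
        inv_mem' := by
          rintro _ ⟨w, hw, w', hw', rfl⟩
          exact ⟨_, add_mem hw (ae_perp h _), _, hw', by
            rw [mul_inv_rev, sg_inv, sg_inv, sg_swap_Q h hw hw', mulZ h hw hw']⟩ }
    refine fun hg => (sup_le ((closure_le H).2 ?_) ((closure_le H).2 ?_) : Qq Q u e ≤ H) hg
    · rintro _ ⟨w, hw, rfl⟩
      exact ⟨w, hw, 0, zero_mem _, by rw [sg_zero, mul_one]⟩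
    · rintro _ ⟨w, hw, rfl⟩
      exact ⟨0, zero_mem _, w, hw, by rw [sg_zero, one_mul]⟩
  · rintro ⟨w, hw, w', hw', rfl⟩
    exact mul_mem (mem_sup_left (subset_closure ⟨w, hw, rfl⟩)) (mem_sup_right (subset_closure ⟨w', hw', rfl⟩))

theorem cm_Qq (h : TS2 Q u e) (hv : v ∈ perp Q ℓ) (hv' : v' ∈ perp Q ℓ) (hw : w ∈ perp Q ℓ)
    (hw' : w' ∈ perp Q ℓ) : ⁅sg Q u v * sg Q e v', sg Q u w * sg Q e w'⁆ =
      sg Q u ((𝐟 v w' + 𝐟 v' w) • e) := by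
  have c := z_comm h (mul_mem (sg_mem_Fx (u_perp h) (add_mem hv hw)) (sg_mem_Fx (e_perp h) (add_mem hv' hw')))
    (𝐟 v w' + 𝐟 v' w)
  rw [commutatorElement_def, mul_assoc, ← mul_inv_rev, mulQ h hv hv' hw hw', mulQ h hw hw' hv hv', add_comm w v,
    add_comm w' v', mul_inv_eq_iff_eq_mul, ← mul_assoc, ← c.eq, mul_assoc _ (sg Q u (_ • e)),
    ← sg_add (oku h (ae_perp h _)) (oku h (ae_perp h _)), ← add_smul, add_right_comm, CharTwo.add_self_eq_zero,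
    zero_add, polar_comm Q v' w]

theorem sq_Qq (h : TS2 Q u e) (hw : w ∈ perp Q ℓ) (hw' : w' ∈ perp Q ℓ) :
    sg Q u w * sg Q e w' * (sg Q u w * sg Q e w') = sg Q u (𝐟 w w' • e) := by
  rw [mulQ h hw hw' hw hw', add_self' F, add_self' F, sg_zero, sg_zero, one_mul, one_mul]

/-- on `y ∈ ℓ^⊥` the element acts as `y ↦ y + 𝐟 y w • u + 𝐟 y w' • e` -/
theorem Qq_apply (h : TS2 Q u e) (hw : w ∈ perp Q ℓ) (hw' : w' ∈ perp Q ℓ) (hv : v ∈ perp Q ℓ) :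
    (sg Q u w * sg Q e w').1.1 v = v + 𝐟 v w • u + 𝐟 v w' • e := by
  change (sg Q u w).1.1 ((sg Q e w').1.1 v) = _
  rw [sg_apply_perp (oke h hw') (pe hv), map_add, map_smul, sg_apply_perp (oku h hw) (pu hv),
    sg_fix h.symm.p (oke h hw).p]

theorem Qq_inj (hQ : ND Q) (h : TI Q ![u, e]) (hv : v ∈ perp Q ℓ) (hv' : v' ∈ perp Q ℓ)
    (hw : w ∈ perp Q ℓ) (hw' : w' ∈ perp Q ℓ) :
    (∃ a : F, sg Q u v * sg Q e v' = sg Q u w * sg Q e w' * sg Q u (a • e)) ↔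
      v + w ∈ ℓ ∧ v' + w' ∈ ℓ := by
  have t := (ti2_iff.1 h).1
  constructor
  · rintro ⟨a, c⟩
    have key : ∀ y ∈ perp Q ℓ, 𝐟 y (v + w) = 0 ∧ 𝐟 y (v' + w') = 0 := fun y hy => by
      have c1 := Qq_apply t hv hv' hy
      rw [c, mulZ t hw hw', Qq_apply t (add_mem hw (ae_perp t a)) hw' hy, polar_add_right, polar_smul_right',
        pe hy, mul_zero, add_zero, add_assoc, add_assoc, add_right_inj] at c1
      refine indep h ?_
      rw [polar_add_right, polar_add_right, add_smul, add_smul, add_add_add_comm, c1, add_self' F]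
    exact ⟨perp_perp hQ ℓ ▸ fun y hy => (key y hy).1, perp_perp hQ ℓ ▸ fun y hy => (key y hy).2⟩
  · rintro ⟨c1, c2⟩
    obtain ⟨a, b, e1⟩ := Submodule.mem_span_pair.1 c1
    obtain ⟨d, d', e2⟩ := Submodule.mem_span_pair.1 c2
    obtain rfl : v = w + b • e + a • u := by
      rw [add_assoc, add_comm (b • e), e1, add_left_comm, add_self' F, add_zero]
    obtain rfl : v' = w' + d • u + d' • e := by
      rw [add_assoc, e2, add_left_comm, add_self' F, add_zero]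
    have o : Ok Q e (d • u) := (ok_of t.symm).smul d
    refine ⟨b + d, ?_⟩
    rw [sg_add_smul (oku t (add_mem hw (ae_perp t b))), sg_add_smul ((oke t hw').add o), sg_add (oke t hw') o,
      ← sg_smul (ok_of t.symm), ← sg_swap ⟨t.l, by rw [Q_smul, t.r, mul_zero], (oku t (ae_perp t d)).p⟩,
      ← mul_assoc, ← mulZ t hw hw', add_smul, sg_add (oku t (ae_perp t _)) (oku t (ae_perp t _))]
    simp only [mul_assoc]

theorem Qq_le_Fx (h : TS2 Q u e) : Qq Q u e ≤ Fx Q ℓ := fun _ hg => by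
  obtain ⟨w, hw, w', hw', rfl⟩ := (mem_Qq h).1 hg
  exact mul_mem (sg_mem_Fx (u_perp h) hw) (sg_mem_Fx (e_perp h) hw')

/-- (←) `y ↦ g y + y` is given by two linear forms on `ℓ^⊥` vanishing on `ℓ`, i.e. by
`w, w' ∈ ℓ^⊥` (use a frame: `w = g⁻¹ f₁ + f₁`, `w' = g⁻¹ f₂ + f₂` lie in `ℓ^⊥`); then `lam2`. -/
theorem mem_Qq' (hQ : ND Q) (h : TI Q ![u, e]) : g ∈ Qq Q u e ↔
    g ∈ Fx Q ℓ ∧ ∀ y ∈ perp Q ℓ, g.1.1 y + y ∈ ℓ := by
  have t := (ti2_iff.1 h).1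
  refine ⟨fun hg => ⟨Qq_le_Fx t hg, fun y hy => ?_⟩, fun ⟨h1, h2⟩ => ?_⟩
  · obtain ⟨w, hw, w', hw', rfl⟩ := (mem_Qq t).1 hg
    rw [Qq_apply t hw hw' hy, add_assoc y, add_right_comm, add_self' F, zero_add]
    exact comb_mem u e _ _
  · obtain ⟨f₁, f₂, o1, o2, p1, p2, -⟩ := exists_frame hQ h
    have k1 : ∀ y f, 𝐟 y ((g⁻¹).1.1 f + f) = 𝐟 (g.1.1 y + y) f := fun y f => by
      rw [polar_add_right, polar_add_left, OG.polar_apply_left]; rfl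
    have k2 : ∀ f, (g⁻¹).1.1 f + f ∈ perp Q ℓ := fun f y hy => by
      rw [k1, mem_Fx.1 h1 y hy, add_self' F, polar_zero_left]
    obtain ⟨a, ha⟩ := lam2 hQ h (k := ((sg Q u ((g⁻¹).1.1 f₁ + f₁) * sg Q e ((g⁻¹).1.1 f₂ + f₂))⁻¹ * g).1)
      fun y y1 y2 => by
        have hy := mem_perp2''.2 ⟨y1, y2⟩
        obtain ⟨a, b, c⟩ := Submodule.mem_span_pair.1 (h2 y hy)
        refine (OG.inv_apply_eq_iff _).2 ?_
        change g.1.1 y = (sg Q u ((g⁻¹).1.1 f₁ + f₁) * sg Q e ((g⁻¹).1.1 f₂ + f₂)).1.1 y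
        rw [Qq_apply t (k2 _) (k2 _) hy, k1, k1, ← c, polar_add_left, polar_add_left, polar_smul_left',
          polar_smul_left', polar_smul_left', polar_smul_left', o1.pol, o2.pol, p1, p2, mul_one, mul_one, mul_zero,
          mul_zero, add_zero, zero_add, add_assoc, c, add_left_comm, add_self' F, add_zero]
    refine (mem_Qq t).2 ⟨_, add_mem (k2 f₁) (ae_perp t a), _, k2 f₂, ?_⟩
    rw [← mulZ t (k2 _) (k2 _), ← inv_mul_eq_iff_eq_mul]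
    exact Subtype.ext ha

theorem isPGroup_Qq (hQ : ND Q) (h : TI Q ![u, e]) : IsPGroup 2 (Qq Q u e) :=
  isPGroup_iff.2 fun x hx => by
    have t := (ti2_iff.1 h).1
    obtain ⟨w, hw, w', hw', rfl⟩ := (mem_Qq t).1 hx
    exact ⟨2, by rw [show 2 ^ 2 = 2 * 2 from rfl, pow_mul, pow_two, pow_two, sq_Qq t hw hw', sg_sq]⟩

theorem Fx_le_S (h : TS2 Q u e) : Fx Q ℓ ≤ 𝐳[sg Q u e] := fun _ hg =>
  mem_centralizer_singleton_iff.2 (comm_sg (mem_Fx2.1 hg).1 (mem_Fx2.1 hg).2)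

theorem Fx_le_PP (h : TS2 Q u e) : Fx Q ℓ ≤ PP Q u e := by
  unfold PP
  split_ifs
  exacts [le_rfl, Fx_le_S h]

theorem PP_le_S (h : TS2 Q u e) : PP Q u e ≤ 𝐳[sg Q u e] := by
  unfold PP
  split_ifs
  exacts [Fx_le_S h, le_rfl]

theorem S_norm_Fx (hQ : ND Q) (h : TI Q ![u, e]) : 𝐳[sg Q u e] ≤ 𝐍[Fx Q ℓ] :=
  le_normalizer_iff_cj.2 fun g hg => cj_le_iff_forall.2 fun k hk => mem_Fx.2 fun y hy => by
    rw [cj_apply, mem_Fx.1 hk _ (S_stab hQ h (inv_mem hg) hy), app_inv]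

/-- `comm_root`, `mem_Qq'` -/
theorem S_norm_Qq (hQ : ND Q) (h : TI Q ![u, e]) : 𝐳[sg Q u e] ≤ 𝐍[Qq Q u e] :=
  le_normalizer_iff_cj.2 fun g hg => cj_le_iff_forall.2 fun k hk => by
    obtain ⟨h1, h2⟩ := (mem_Qq' hQ h).1 hk
    refine (mem_Qq' hQ h).2 ⟨conj_mem_of_mem_normalizer (S_norm_Fx hQ h hg) h1, fun y hy => ?_⟩
    have := S_stab hQ h hg (h2 _ (S_perp hQ h (inv_mem hg) hy))
    rwa [map_add, app_inv] at this

/-- `𝐳[sg u e]` induces `SL(ℓ)`: `trans2` and `sg_comb` -/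
theorem Dm.exists_S (hd : Dm Q) (h : TI Q ![u, e]) {a b d d' : F} (h1 : a * d' + b * d = 1) :
    ∃ g ∈ 𝐳[sg Q u e], g.1.1 u = a • u + b • e ∧ g.1.1 e = d • u + d' • e := by
  have t := (ti2_iff.1 h).1
  have s := t.ts_span
  have c := sg_comb t a b d d'
  rw [h1, one_smul] at c
  obtain ⟨g, g1, g2⟩ := hd.trans2 h ((root_or hd.nd ⟨s _ (comb_mem u e a b), s _ (comb_mem u e d d'),
    s.polar_eq (comb_mem u e a b) (comb_mem u e d d')⟩).resolve_left (c ▸ sg_ne hd.nd h))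
  exact ⟨g, mem_centralizer_singleton_iff.2 (mul_inv_eq_iff_eq_mul.1 (by rw [conj_sg, g1, g2, c])), g1, g2⟩

theorem RtA.core1 (hd : Dm Q) (h : TI Q ![u, e]) {N : Subgroup (EG Q)} (hN : IsPGroup 2 N)
    (h1 : N ≤ 𝐳[sg Q u e]) (h2 : 𝐳[sg Q u e] ≤ 𝐍[N]) : N ≤ Fx Q ℓ := by
  have : Finite V := Module.finite_of_finite F
  have : Fact (Nat.Prime 2) := ⟨Nat.prime_two⟩
  let _ : MulAction N ℓ :=
    { smul := fun g x => ⟨g.1.1.1 x, S_stab hd.nd h (h1 g.2) x.2⟩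
      one_smul := fun x => rfl
      mul_smul := fun g h x => rfl }
  have h3 : 2 ∣ Nat.card ℓ := by
    rw [← addOrderOf_eq_prime (x := (⟨u, u_mem u e⟩ : ℓ)) (p := 2) (Subtype.ext (by
      rw [two_nsmul]; exact add_self' F u)) fun c => (ti2_iff.1 h).2.1 (congrArg Subtype.val c)]
    exact addOrderOf_dvd_natCard _
  have h0 : (0 : ℓ) ∈ MulAction.fixedPoints N ℓ := fun g => Subtype.ext (map_zero _)
  obtain ⟨⟨x, hx⟩, x1, x0⟩ := hN.exists_fixed_point_of_prime_dvd_card_of_fixed_point _ h3 h0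
  have key : ∀ y, ∀ g ∈ 𝐳[sg Q u e], g.1.1 y = x → ∀ n ∈ N, n.1.1 y = y := fun y g hg c n hn => by
    have c1 : (g * n * g⁻¹).1.1 x = x :=
      congrArg Subtype.val (x1 ⟨_, conj_mem_of_mem_normalizer (h2 hg) hn⟩)
    rw [cj_apply, ← c, inv_app] at c1
    exact g.1.1.injective c1
  obtain ⟨a, b, rfl⟩ := Submodule.mem_span_pair.1 hx
  obtain ⟨d, d', c⟩ : ∃ d d', a * d' + b * d = 1 := by
    by_cases ha : a = 0
    · have hb : b ≠ 0 := fun hb => x0 (Subtype.ext (by simp [ha, hb]))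
      exact ⟨b⁻¹, 0, by simp [hb]⟩
    · exact ⟨0, a⁻¹, by simp [ha]⟩
  obtain ⟨g, hg, g1, -⟩ := hd.exists_S h c
  obtain ⟨g', hg', -, g2⟩ := hd.exists_S h (a := d) (b := d') (d := a) (d' := b) (by rw [← c]; ring)
  exact fun n hn => mem_Fx2.2 ⟨key u g hg g1 n hn, key e g' hg' g2 n hn⟩

theorem RtA.core2 (hd : Dm Q) (h : TI Q ![u, e]) {N : Subgroup (EG Q)} (hN : IsPGroup 2 N) (h1 : N ≤ Fx Q ℓ) :
    ∃ s ∈ perp Q ℓ, Q s = 0 ∧ s ∉ ℓ ∧ ∀ n ∈ N, n.1.1 s + s ∈ ℓ := by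
  have : Fact (Nat.Prime 2) := ⟨Nat.prime_two⟩
  have t := (ti2_iff.1 h).1
  obtain ⟨f₁, f₂, o1, o2, p1, p2, p3⟩ := exists_frame hd.nd h
  have m1 : e ∈ perp2 Q u f₁ := mem_perp2.2 ⟨t.p, (polar_comm Q _ _).trans p2⟩
  have m2 : f₂ ∈ perp2 Q u f₁ := mem_perp2.2 ⟨p1, p3⟩
  have hW := (hd.nd.ndon_perp2 o1).inf_perp2 m1 m2 o2
  have d1 := o1.finrank_perp2
  have d2 := o2.finrank_inf_perp2 m1 m2
  have d3 := hd.d8
  have mW : ∀ y, y ∈ perp2 Q u f₁ ⊓ perp2 Q e f₂ ↔ y ∈ perp Q ℓ ∧ 𝐟 y f₁ = 0 ∧ 𝐟 y f₂ = 0 := fun y => by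
    rw [Submodule.mem_inf, mem_perp2, mem_perp2, mem_perp2'', polar_comm Q f₁, polar_comm Q f₂]; tauto
  generalize perp2 Q u f₁ ⊓ perp2 Q e f₂ = W at hW d2 mW
  have k1 : ∀ a b : F, 𝐟 (a • u + b • e) f₁ = a ∧ 𝐟 (a • u + b • e) f₂ = b := fun a b => by
    simp only [polar_add_left, polar_smul_left', o1.pol, o2.pol, p1, p2, mul_one, mul_zero, add_zero, zero_add,
      and_self]
  have uq : ∀ y z : W, y.1 + z.1 ∈ ℓ → y = z := fun y z c => by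
    obtain ⟨a, b, c⟩ := Submodule.mem_span_pair.1 c
    have c1 := (mW _).1 (W.add_mem y.2 z.2)
    rw [← c, (k1 a b).1, (k1 a b).2] at c1
    rw [c1.2.1, c1.2.2, zero_smul, zero_smul, add_zero, eq_comm, add_eq_zero_iff_eq_neg, neg_eq' F] at c
    exact Subtype.ext c
  have ex : ∀ y ∈ perp Q ℓ, ∃ z : W, z.1 + y ∈ ℓ := fun y hy =>
    ⟨⟨y + (𝐟 y f₁ • u + 𝐟 y f₂ • e), (mW _).2 ⟨add_mem hy (t.ts_span.le_perp le_rfl (comb_mem u e _ _)), by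
      rw [polar_add_left, (k1 _ _).1, CharTwo.add_self_eq_zero], by
      rw [polar_add_left, (k1 _ _).2, CharTwo.add_self_eq_zero]⟩⟩, by
      rw [add_right_comm, add_self' F, zero_add]; exact comb_mem u e _ _⟩
  have pm : ∀ (n : N) (y : W), n.1.1.1 y ∈ perp Q ℓ := fun n y => fixer_map_perp (h1 n.2) ((mW _).1 y.2).1
  choose π hπ using fun (n : N) (y : W) => ex _ (pm n y)
  obtain ⟨s, s0, s1, s2⟩ := exists_fixed_singular hW.nd_comp (by omega) hN π (fun y => uq _ _ (hπ 1 y))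
    (fun m n y => uq _ _ (by
      have c := add_mem (add_mem (hπ (m * n) y) (hπ m (π n y))) (hπ n y)
      rw [← mem_Fx.1 (h1 m.2) _ (hπ n y), map_add] at c
      have c' : (m * n).1.1.1 y.1 = m.1.1.1 (n.1.1.1 y.1) := rfl
      rwa [c', add_add_add_comm (π (m * n) y).1, add_assoc, add_comm (m.1.1.1 (π n y).1), add_self' F,
        add_zero] at c))
    (fun n y => by
      change Q (π n y).1 = Q y.1
      have c := Q_add (Q := Q) ((π n y).1 + n.1.1.1 y) (n.1.1.1 y)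
      rwa [add_assoc, add_self' F, add_zero, t.ts_span _ (hπ n y), pm n y _ (hπ n y), OG.map_Q, zero_add,
        add_zero] at c)
    (fun n => uq _ _ (by simpa using hπ n 0))
  refine ⟨s, ((mW _).1 s.2).1, s1, fun c => s0 (uq _ _ (by simpa using c)), fun n hn => ?_⟩
  have := hπ ⟨n, hn⟩ s
  rwa [s2, add_comm] at this

/-- Let `N = O₂(P)`.  (1) `N ≤ Fx ℓ`: clear if `q = 2`; otherwise `P = 𝐳[sg u e]`, `N` fixes a
non-zero vector of `ℓ` (`|ℓ \ 0|` is odd) and `P` is transitive on `ℓ \ 0` (`exists_S`).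
(2) With a frame, `W = ⟨u,e,f₁,f₂⟩^⊥`, `N` acts on `W ≅ ℓ^⊥/ℓ` (project), `exists_fixed_singular`
gives a singular `s ∈ W \ 0` fixed modulo `ℓ`; `Fx ℓ` is transitive on the singular vectors of
`ℓ^⊥ \ ℓ` (`trans3`), `perp_induction`, `mem_Qq'`. -/
theorem Dm.core (hd : Dm Q) (h : TI Q ![u, e]) : pCoreOf 2 (PP Q u e) = Qq Q u e := by
  have t := (ti2_iff.1 h).1
  refine le_antisymm (fun n hn => ?_) (le_pCoreOf (isPGroup_Qq hd.nd h) ((Qq_le_Fx t).trans (Fx_le_PP t))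
    ((PP_le_S t).trans (S_norm_Qq hd.nd h)))
  have hN := isPGroup_pCoreOf 2 (PP Q u e)
  have h1 : pCoreOf 2 (PP Q u e) ≤ Fx Q ℓ := by
    by_cases hq : Nat.card F = 2
    · rw [PP, if_pos hq]; exact pCoreOf_le _ _
    · rw [PP, if_neg hq] at hN ⊢
      exact core1 hd h hN (pCoreOf_le _ _) (le_normalizer_pCoreOf _ _)
  obtain ⟨s, s1, s2, s3, s4⟩ := core2 hd h hN h1
  have d : finrank F ℓ ≤ 2 := by
    have := finrank_range_le_card (R := F) ![u, e]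
    rwa [Set.finrank, Matrix.range_cons_cons_empty, Fintype.card_fin] at this
  refine (mem_Qq' hd.nd h).2 ⟨h1 hn, perp_induction hd.nd t.ts_span (by have := hd.d8; omega) _
    (fun y hy y0 => ?_) fun y _ z _ c1 c2 => ?_⟩
  · by_cases hy' : y ∈ ℓ
    · rw [mem_Fx.1 (h1 hn) y hy']; exact add_mem hy' hy'
    · obtain ⟨g, g1, g2, g3⟩ := hd.trans3 (ti3 h hy y0 hy') (ti3 h s1 s2 s3)
      have hg := mem_Fx2.2 ⟨g1, g2⟩
      have c := s4 _ (conj_mem_of_mem_normalizer (le_normalizer_pCoreOf _ _ (Fx_le_PP t hg)) hn)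
      rw [cj_apply, ← g3, inv_app, ← map_add] at c
      rwa [← mem_Fx.1 (inv_mem hg) _ c, inv_app] at c
  · rw [map_add, add_add_add_comm]; exact add_mem c1 c2

/-- a central involution of a Sylow subgroup is a root element (`isRoot_of_central`,
`max_of_sylow`), `conj_root` -/
theorem Dm.syl (hd : Dm Q) (h : TI Q ![u, e]) : ∃ U, IsSyl 2 U ⊤ ∧ U ≤ 𝐳[sg Q u e] := by
  have := finite_EG (Q := Q)
  have : Fact (Nat.Prime 2) := ⟨Nat.prime_two⟩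
  obtain ⟨T, hT, h1⟩ := exists_isSyl_ge (isPGroup_zpowers (p := 2) (x := sg Q u e) ⟨1, by rw [pow_one, pow_two, sg_sq]⟩)
    (le_top (a := zpowers (sg Q u e)))
  obtain ⟨⟨x, x1, x2⟩, x0⟩ := ne_bot_iff_exists_ne_one.1 (inf_centralizer_ne_bot hT.pgrp hT.pgrp le_normalizer
    fun c => sg_ne hd.nd h (mem_bot.1 (c ▸ h1 (mem_zpowers _))))
  obtain ⟨S, rfl⟩ := hT.exists_sylow_top
  have r : IsRoot x.1 := isRoot_of_central hd.nd (by have := hd.d8; omega) (hT.pgrp.map (EG Q).subtype)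
    (max_of_sylow (EG Q).subtype (fun x => x.2) (fun a ha => ⟨⟨a, ha⟩, rfl⟩) S) ⟨x, x1, rfl⟩
    (fun c => x0 (Subtype.ext (Subtype.ext c))) (by
      rintro _ ⟨g, hg, rfl⟩
      exact congrArg Subtype.val (x2 g hg))
  obtain ⟨g, hg⟩ := hd.conj_root r ((root_iff hd.nd).2 ⟨u, e, h, rfl⟩)
  refine ⟨cj(g, (S : Subgroup (EG Q))), cj_top g ▸ hT.cj g, ?_⟩
  rw [← hg, centralizer_singleton_conj]
  exact cj_mono g fun k hk => mem_centralizer_singleton_iff.2 (x2 k hk)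

end Cfsg.Agent.StdO
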