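import Cfsg.Agent.StdO.Rig
import Cfsg.Agent.StdO.RtA

/-! Basic properties of the doubling. -/

set_option autoImplicit false
set_option linter.unusedSectionVars false
set_option linter.unusedVariables false

namespace Cfsg.Agent.StdO

open Subgroup Module QuadraticMap Cfsg.Agent.Class.Orth Cfsg.Agent.KSG Cfsg.Agent.PLocal.Amb
  Cfsg.Agent.Lyons
open Cfsg.Agent.StdL (cjh)
open scoped commutatorElement

variable {F V : Type*} [Field F] [Finite F] [CharP F 2] [AddCommGroup V] [Module F V]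
  [FiniteDimensional F V] {Q : QuadraticForm F V} {G : Type*} [Group G] [Finite G]
  {ι : EG Q →* G} {t : G}

local notation "𝐟" => polar Q

variable {u v w v' w' s y : V} {c : EG Q → G} {z g : EG Q} {x : G}

theorem famA_ok0 (h : Q u = 0) : Ok Q u 0 := ⟨h, polar_zero_right _ _⟩

namespace Fam

variable (h : Fam ι t c)
include h

theorem c_one : c 1 = 1 := by
  have := h.add 0 0 0 (famA_ok0 (map_zero Q)) (famA_ok0 (map_zero Q))
  rw [add_zero, sg_zero] at this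
  exact left_eq_mul.1 this

theorem sq (o : Ok Q u w) : c (sg Q u w) * c (sg Q u w) = 1 := by
  rw [← h.add _ _ _ o o, add_self' F, sg_zero, h.c_one]

theorem com (o : Ok Q u v) (o' : Ok Q u w) : Commute (c (sg Q u v)) (c (sg Q u w)) := by
  change _ * _ = _ * _
  rw [← h.add _ _ _ o o', ← h.add _ _ _ o' o, add_comm]

theorem cen (hz : Sg z) (e : Commute g z) : Commute (ι g) (c z) := by
  have := h.eqv g z hz
  rwa [e.eq, mul_inv_cancel_right, mul_inv_eq_iff_eq_mul] at this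

theorem conj (o : Ok Q u w) (g : EG Q) :
    ι g * c (sg Q u w) * (ι g)⁻¹ = c (sg Q (g.1.1 u) (g.1.1 w)) := by
  rw [h.eqv _ _ o.sg, conj_sg]

theorem tc (o : Ok Q u w) : t * c (sg Q u w) * t⁻¹ = c (sg Q u w) * ι (sg Q u w) := by
  have e := h.tr _ o.sg
  rw [(h.toSu.tc _).eq, inv_eq_of_mul_eq_one_right (h.sq o)] at e
  rw [mul_inv_eq_iff_eq_mul, mul_assoc, ← e, ← mul_assoc, ← mul_assoc, h.sq o, one_mul]

theorem XX_mul (o : Ok Q u v) (o' : Ok Q u w) (p : Ok Q u v') (p' : Ok Q u w') :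
    XX ι c u v w * XX ι c u v' w' = XX ι c u (v + v') (w + w') := by
  rw [XX, XX, XX, mul_assoc, ← mul_assoc (c _), ← (h.cen o'.sg (sg_comm u v' w)).eq, sg_add o p,
    h.add _ _ _ o' p', map_mul]
  group

theorem XX_sq (o : Ok Q u v) (o' : Ok Q u w) : XX ι c u v w * XX ι c u v w = 1 := by
  rw [h.XX_mul o o' o o', add_self' F, add_self' F, XX, sg_zero, h.c_one, map_one, one_mul]

theorem XX_conj (o : Ok Q u v) (o' : Ok Q u w) (g : EG Q) :
    ι g * XX ι c u v w * (ι g)⁻¹ = XX ι c (g.1.1 u) (g.1.1 v) (g.1.1 w) := by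
  rw [XX, XX, ← conj_mul, h.conj o', ← map_inv, ← map_mul, ← map_mul, conj_sg]

theorem XX_t (o : Ok Q u v) (o' : Ok Q u w) : t * XX ι c u v w * t⁻¹ = XX ι c u (v + w) w := by
  rw [XX, XX, ← conj_mul, h.tc o', (h.toSu.tc _).eq, mul_inv_cancel_right,
    ← (h.cen o'.sg (Commute.refl _)).eq, sg_add o o', map_mul, mul_assoc]

theorem XX_zero (u v : V) : XX ι c u v 0 = ι (sg Q u v) := by
  rw [XX, sg_zero, h.c_one, mul_one]

omit h in
theorem XX_zero' (u w : V) : XX ι c u 0 w = c (sg Q u w) := by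
  rw [XX, sg_zero, map_one, one_mul]

/-- conjugate by `t` -/
theorem XX_eq_one (h0 : u ≠ 0) (o : Ok Q u v) (o' : Ok Q u w) :
    XX ι c u v w = 1 ↔ (∃ a : F, v = a • u) ∧ ∃ a : F, w = a • u := by
  constructor
  · intro e
    have e1 := h.XX_t o o'
    have e2 := h.XX_mul o o' (o.add o') o'
    rw [← e1, e, ← add_assoc, add_self' F, add_self' F, zero_add, h.XX_zero] at e2
    have e3 : sg Q u w = 1 := h.inj (by rw [← e2, map_one]; group)
    rw [XX, e3, h.c_one, mul_one] at e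
    exact ⟨(sg_eq_one h.nd o h0).1 (h.inj (e.trans (map_one ι).symm)), (sg_eq_one h.nd o' h0).1 e3⟩
  · rintro ⟨⟨a, rfl⟩, b, rfl⟩
    rw [XX, sg_self o.l, sg_self o.l, h.c_one, map_one, one_mul]

/-- `sg u y` sends `(s, w)` to `(s + α u, w + β u)`, `α = 𝐟 y s`, `β = 𝐟 y w`, and
`c (sg (s + α u) (w + β u)) = c (sg s w) c (sg u (α w + β s))` by `add`, `sg_swap`, `sg_smul`. -/
theorem act0 (h1 : TS2 Q u s) (h2 : TS2 Q u w) (h3 : TS2 Q s w) (o : Ok Q u y) :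
    c (sg Q s w) * ι (sg Q u y) * (c (sg Q s w))⁻¹ = XX ι c u y (𝐟 y s • w + 𝐟 y w • s) := by
  have su : 𝐟 s u = 0 := h1.symm.p
  have wu : 𝐟 w u = 0 := h2.symm.p
  have ws : 𝐟 w s = 0 := h3.symm.p
  have k1 : ∀ a : F, TS2 Q (s + a • u) w := fun a =>
    ⟨by simp [Q_add, Q_smul, h1.l, h1.r, su], h2.r, by simp [h3.p, h2.p]⟩
  have k2 : ∀ a b : F, TS2 Q (s + a • u) (b • u) := fun a b =>
    ⟨(k1 a).l, by simp [Q_smul, h1.l], by simp [su, h1.l]⟩
  have k3 : ∀ a : F, TS2 Q w (a • u) := fun a => ⟨h2.r, by simp [Q_smul, h1.l], by simp [wu]⟩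
  have k4 : ∀ a : F, Ok Q u (s + a • u) := fun a => ⟨h1.l, by simp [h1.p, h1.l]⟩
  have o2 : Ok Q u (𝐟 y s • w + 𝐟 y w • s) := ((ok_of h2).smul _).add ((ok_of h1).smul _)
  have e := h.conj (ok_of h3) (sg Q u y)
  rw [sg_apply_perp o su, sg_apply_perp o wu, h.add _ _ _ (ok_of (k1 _)) (ok_of (k2 _ _)),
    sg_swap (k1 _), h.add _ _ _ (ok_of h3.symm) (ok_of (k3 _)), ← sg_swap h3, sg_swap (k3 _),
    sg_smul (ok_of h2), sg_swap (k2 _ _), sg_smul (k4 _), smul_add, smul_smul,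
    sg_add_smul ((ok_of h1).smul _), mul_assoc (c _),
    ← h.add _ _ _ ((ok_of h2).smul _) ((ok_of h1).smul _), polar_comm Q s y, polar_comm Q w y,
    ← map_inv, sg_inv] at e
  have ii : ι (sg Q u y) * ι (sg Q u y) = 1 := by rw [← map_mul, sg_sq, map_one]
  rw [XX, (h.cen o2.sg (sg_comm u y _)).eq, inv_eq_of_mul_eq_one_right (h.sq (ok_of h3))]
  calc _ = c (sg Q s w) * (ι (sg Q u y) * c (sg Q s w) * ι (sg Q u y)) * ι (sg Q u y) := by
        rw [mul_assoc _ (_ * _ * _), mul_assoc (_ * _), ii, mul_one, mul_assoc]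
    _ = _ := by rw [e, ← mul_assoc, h.sq (ok_of h3), one_mul]

/-- `Sg`: write `w` as a sum of singular vectors (`perp_induction`) -/
theorem mem_G0 (hz : Sg z) : c z ∈ G0 ι c := by
  obtain ⟨u, w, o, rfl⟩ := hz
  by_cases h0 : u = 0
  · rw [h0, sg_zero_left, h.c_one]
    exact one_mem _
  refine perp_induction h.nd (ts_span_singleton o.l)
    (by rw [finrank_span_singleton h0]; have := h.d8; omega) (fun y => c (sg Q u y) ∈ G0 ι c)
    (fun y hy q => ?_) (fun y hy z hz h1 h2 => ?_) w (mem_perp1.2 o.p)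
  · rcases root_or h.nd ⟨o.l, q, mem_perp1.1 hy⟩ with e | e
    · rw [e, h.c_one]
      exact one_mem _
    · exact mem_sup_right (subset_closure ⟨_, (root_iff h.nd).2 ⟨u, y, e, rfl⟩, rfl⟩)
  · rw [h.add _ _ _ ⟨o.l, mem_perp1.1 hy⟩ ⟨o.l, mem_perp1.1 hz⟩]
    exact mul_mem h1 h2

theorem XX_mem (o' : Ok Q u w) : XX ι c u v w ∈ G0 ι c := by
  exact mul_mem (mem_sup_left ⟨_, rfl⟩) (h.mem_G0 o'.sg)

theorem L_le : ι.range ≤ 𝐍[G0 ι c] := by
  exact (le_sup_left : _ ≤ G0 ι c).trans le_normalizer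

omit h in
theorem G0_cj (ι : EG Q →* G) (c : EG Q → G) (k : G) :
    G0 (cjh k ι) (fun z => k * c z * k⁻¹) = cj(k, G0 ι c) := by
  rw [G0, G0, cj_sup, StdL.range_cjh, MonoidHom.map_closure]
  congr 2
  ext x
  exact ⟨fun ⟨z, hz, e⟩ => ⟨_, ⟨z, hz, rfl⟩, e.symm⟩, fun ⟨_, ⟨z, hz, rfl⟩, e⟩ => ⟨z, hz, e.symm⟩⟩

/-- `oc 𝐳[k t k⁻¹] = cj(k, oc 𝐳[t])` -/
theorem cj (k : G) : Fam (cjh k ι) (k * t * k⁻¹) fun z => k * c z * k⁻¹ := by
  refine ⟨h.toSu.cj k, ?_, fun g z hz => ?_, fun z hz => ?_, fun z hz => ?_,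
    fun u v w o o' => by rw [h.add u v w o o', conj_mul], ?_⟩
  · rw [StdZ.Ko, StdL.range_cjh, centralizer_singleton_conj, oc_cj, centralizer_cj, ← cj_inf]
    refine ⟨cj_mono k h.ko.1, fun x hx => ?_⟩
    rw [mem_cj] at hx
    rw [mem_cj, mem_cj, show k⁻¹ * (x * (k * t * k⁻¹)) * k = k⁻¹ * x * k * t by group]
    exact h.ko.2 _ hx
  · rw [StdL.cjh_apply, ← h.eqv g z hz]; group
  · rw [StdL.cjh_apply, conj_mul, conj_mul, ← h.tr z hz]; group
  · rw [centralizer_singleton_conj, oc_cj, centralizer_cj]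
    exact conj_mem_cj k (h.cO z hz)
  · rw [G0_cj, centralizer_singleton_conj, normalizer_cj]
    exact cj_mono k h.cn

/-- `z = sg u e`; `x c z` centralizes `t` and `ι 𝐳[z]`; `ru2`: `x = c z * ζ a * k` with `k ∈ K`.
If `k ∈ O` then `x² = k² = 1` gives `k = 1`; if `k = o t` then `x² = o² ι z ≠ 1`. -/
theorem mem_gen (hz : IsRoot z.1) (h1 : x * x = 1) (h2 : x * t * x⁻¹ = t * ι z)
    (h3 : ∀ g, Commute g z → Commute (ι g) x) : x ∈ G0 ι c := by
  have hs := sg_of_root hz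
  obtain ⟨u, e, hu, rfl⟩ := (root_iff h.nd).1 hz
  have o := (ti2_iff.1 hu).1
  have cc : ∀ g, Commute g (sg Q u e) → Commute (x * c (sg Q u e)) (ι g) := fun g k =>
    (h3 g k).symm.mul_left (h.cen hs k).symm
  have ii : ∀ w, ι (sg Q u w) * ι (sg Q u w) = 1 := fun w => by rw [← map_mul, sg_sq, map_one]
  have ht : x * c (sg Q u e) ∈ 𝐳[t] := mem_centralizer_singleton_iff.2 (by
    rw [← mul_inv_eq_iff_eq_mul]
    calc _ = x * (c (sg Q u e) * t * (c (sg Q u e))⁻¹) * x⁻¹ := by group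
      _ = x * t * x⁻¹ * ι (sg Q u e) := by
        rw [h.tr _ hs, ← mul_assoc, mul_assoc _ (ι _), (h3 _ (Commute.refl _)).inv_right.eq, ← mul_assoc]
      _ = t := by rw [h2, mul_assoc, ii, mul_one])
  obtain ⟨a, ha⟩ := h.toRp.ru2 hu (h.nrm ht) fun y h1 h2 =>
    ⟨cc _ (sg_comm u y e), cc _ (comm_sg (sg_fix o.p h1) (sg_fix (f_self e) h2))⟩
  have c1 := (h.cen hs (sg_comm u (a • e) e)).eq
  have c2 := (h3 _ (sg_comm u (a • e) e)).eq
  have := h.toSu.inv_K h.ko (mul_mem ht (h.tL ⟨_, rfl⟩)) ha (h.cO _ hs) (fun k => hz.1 (by rw [k]; rfl))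
    (h.tr _ hs) (by
      rw [mul_assoc x, ← c1, mul_inv_rev, mul_inv_rev, inv_eq_of_mul_eq_one_right h1,
        inv_eq_of_mul_eq_one_right (ii _), inv_eq_of_mul_eq_one_right (h.sq (ok_of o)),
        mul_assoc (c _) (ι _), c2]
      simp only [mul_assoc, h.sq (ok_of o), mul_one])
  rw [mul_assoc, mul_eq_one_iff_eq_inv] at this
  rw [this]
  exact inv_mem (mul_mem (h.mem_G0 hs) (mem_sup_left ⟨_, rfl⟩))

/-- `t` normalizes `C(G0)` (`cn`); an involution of `C(G0)` commuting with `t` lies in `K`, so it is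
`t` (`Su.inv`), but `t` does not centralize `c z`. -/
theorem oddC (hx : x ∈ 𝐂[G0 ι c]) : Odd (orderOf x) := by
  have := Fact.mk Nat.prime_two
  by_contra ho
  have tn : zpowers t ≤ 𝐍[𝐂[G0 ι c]] := zpowers_le.2 (normalizer_le_normalizer_centralizer _
    (h.cn (mem_centralizer_singleton_iff.2 rfl)))
  have t2 : IsPGroup 2 (zpowers t) := isPGroup_zpowers ⟨1, by rw [pow_one, pow_two, h.tt]⟩
  obtain ⟨T, hT, le⟩ := exists_isSyl_ge t2 (le_sup_right : _ ≤ 𝐂[G0 ι c] ⊔ zpowers t)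
  have hV := hT.inf_of_le le_sup_left (sup_le le_normalizer tn)
  obtain ⟨⟨k, hk⟩, k1⟩ := ne_bot_iff_exists_ne_one.1 (inf_centralizer_ne_bot t2 hV.pgrp
    (le_normalizer_inf (le.trans le_normalizer) tn) fun e => hV.eq_bot_iff.1 e
      ((Nat.not_odd_iff_even.1 ho).two_dvd.trans (orderOf_dvd_natCard _ hx)))
  rcases h.toSu.tw_K h.ko (mem_centralizer_singleton_iff.2 (hk.2 t (mem_zpowers t)).symm)
    (centralizer_anti le_sup_left hk.1.2) (isPGroup_iff.1 hV.pgrp k hk.1) with e | e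
  · exact k1 (Subtype.ext e)
  obtain ⟨u, u0, hu⟩ := h.toDm.ext1
  obtain ⟨v, hv⟩ := h.toDm.ext2 hu u0
  have hs := (ok_of (ti2_iff.1 hv).1).sg
  have e2 := h.tr _ hs
  have e3 : c (sg Q u v) * k = k * c (sg Q u v) := hk.1.2 _ (h.mem_G0 hs)
  rw [← e, e3, mul_inv_cancel_right, left_eq_mul] at e2
  exact RtA.sg_ne h.nd hv (h.inj (e2.trans (map_one ι).symm))

/-- `G0` is generated by `X(p, ·)` and `X(p', ·)`: `ND.EG_le_of_isHyp`, `conj_root` -/
theorem G0_le {p p' : V} (o : IsHyp Q p p') {H : Subgroup G}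
    (h1 : ∀ v w, Ok Q p v → Ok Q p w → XX ι c p v w ∈ H)
    (h2 : ∀ v w, Ok Q p' v → Ok Q p' w → XX ι c p' v w ∈ H) : G0 ι c ≤ H := by
  have hL : ∀ g, ι g ∈ H := fun g => by
    obtain ⟨k, hk, e⟩ := h.nd.EG_le_of_isHyp o (by have := h.d8; omega)
      ((H.comap ι).map (EG Q).subtype)
      (fun v hv => ⟨sg Q p v, mem_comap.2
        (h.XX_zero p v ▸ h1 v 0 ⟨o.left, hv.1⟩ (famA_ok0 o.left)), rfl⟩)
      (fun v hv => ⟨sg Q p' v, mem_comap.2
        (h.XX_zero p' v ▸ h2 v 0 ⟨o.right, hv.2⟩ (famA_ok0 o.right)), rfl⟩) g.2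
    exact Subtype.ext e ▸ hk
  refine sup_le (by rintro _ ⟨g, rfl⟩; exact hL g) ((closure_le _).2 ?_)
  rintro _ ⟨z, hz, rfl⟩
  obtain ⟨u, e, hu, rfl⟩ := (root_iff h.nd).1 hz
  obtain ⟨o', u0, -⟩ := ti2_iff.1 hu
  obtain ⟨g, hg⟩ := h.toDm.trans1 o'.l u0 o.left o.left_ne_zero
  have k := h1 0 _ (famA_ok0 o.left) (hg ▸ (ok_of o').map g)
  rw [XX_zero', ← hg, ← h.conj (ok_of o')] at k
  exact (mul_mem_cancel_left (hL g)).1 ((mul_mem_cancel_right (inv_mem (hL g))).1 k)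

end Fam

end Cfsg.Agent.StdO
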