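import Cfsg.Agent.StdO.FamA

/-! The action of `c (sg s w)` on `c (sg u y)`: the constant `d` with `ε² = ε + d`.
Notation: `c₁ = c (sg s w)`, `c₂ = c (sg u y)`, `m = 𝐟 y s • w + 𝐟 y w • s`, `c₃ = c (sg u m)`,
`b = c₁ c₂ c₁ c₂`. -/

set_option autoImplicit false
set_option linter.unusedSectionVars false
set_option linter.unusedVariables false

namespace Cfsg.Agent.StdO

open Subgroup Module QuadraticMap Cfsg.Agent.Class.Orth Cfsg.Agent.KSG Cfsg.Agent.PLocal.Amb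
  Cfsg.Agent.Lyons
open Cfsg.Agent.StdL (cjh)
open scoped commutatorElement

variable {F V : Type*} [Field F] [Finite F] [CharP F 2] [AddCommGroup V] [Module F V]
  [FiniteDimensional F V] {Q : QuadraticForm F V} {G : Type*} [Group G] [Finite G]
  {ι : EG Q →* G} {t : G}

local notation "𝐟" => polar Q

variable {u s w y : V} {c : EG Q → G}

namespace ActA

theorem okm (h1 : TS2 Q u s) (h2 : TS2 Q u w) (α β : F) : Ok Q u (α • w + β • s) :=
  ((ok_of h2).smul α).add ((ok_of h1).smul β)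

theorem pms (h3 : TS2 Q s w) (α β : F) : 𝐟 (α • w + β • s) s = 0 := by
  rw [polar_add_left, polar_smul_left, polar_smul_left, h3.symm.p, f_self]; simp

theorem pmw (h3 : TS2 Q s w) (α β : F) : 𝐟 (α • w + β • s) w = 0 := by
  rw [add_comm]; exact pms h3.symm β α

theorem sgy (h3 : TS2 Q s w) (φ : F) (y : V) :
    (sg Q s (φ • w)).1.1 y = y + φ • (𝐟 y s • w + 𝐟 y w • s) := by
  rw [sg_apply ((ok_of h3).smul φ), QuadraticMap.map_smul, h3.r, polar_smul_right]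
  simp only [smul_eq_mul, mul_zero, zero_mul, add_zero]
  module

theorem sgy1 (h3 : TS2 Q s w) (y : V) : (sg Q s w).1.1 y = y + (𝐟 y s • w + 𝐟 y w • s) := by
  simpa using sgy h3 1 y

theorem c13 (h : Fam ι t c) (h1 : TS2 Q u s) (h2 : TS2 Q u w) (h3 : TS2 Q s w) (α β : F) :
    Commute (c (sg Q s w)) (c (sg Q u (α • w + β • s))) := by
  have k : ∀ {s w : V}, TS2 Q u s → TS2 Q s w → ∀ β : F,
      Commute (c (sg Q s w)) (c (sg Q u (β • s))) := fun {s w} h1 h3 β => by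
    have o : Ok Q s (β • u) := (ok_of h1.symm).smul β
    rw [← sg_smul (ok_of h1), ← sg_swap (u := s) ⟨h1.r, by rw [QuadraticMap.map_smul, h1.l, smul_zero], o.p⟩]
    exact h.com (ok_of h3) o
  rw [h.add _ _ _ ((ok_of h2).smul α) ((ok_of h1).smul β)]
  exact (sg_swap h3 ▸ k h2 h3.symm α).mul_right (k h1 h3 β)

theorem ti_swap (hu : TI Q ![u, s, w]) : TI Q ![u, w, s] := by
  obtain ⟨h1, h2, h3, h4⟩ := ti3_iff.1 hu
  refine ti3_iff.2 ⟨h2, h1, by rw [polar_comm, h3], fun a b d e => ?_⟩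
  obtain ⟨e1, e2, e3⟩ := h4 a d b (by rw [← e]; abel)
  exact ⟨e1, e3, e2⟩

end ActA

/-- `c₃ = c (sg s ·) c (sg w ·)` commutes with `c₁` and `c₂`; `z₃ = ι (sg u m)` too.
`t b t = b z₃` (`tc`, `act0`, `conj`), so `b c₃` centralizes `t`.  `ι (sg u g)` sends `c₁` to
`c₁ c (sg u m')` (`act0`), which does not change `b`.  `rv`: `b c₃ = k ι (sg u y₀)`; `c₂` inverts
`b c₃`, `inv_K` (if `sg u y = 1` then `y ∈ ⟨u⟩` and all is trivial). -/
theorem Fam.act1 (h : Fam ι t c) (h0 : u ≠ 0) (h1 : TS2 Q u s) (h2 : TS2 Q u w) (h3 : TS2 Q s w)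
    (o : Ok Q u y) : ∃ y₀, Ok Q u y₀ ∧ c (sg Q s w) * c (sg Q u y) * (c (sg Q s w))⁻¹ =
      XX ι c u y₀ (y + (𝐟 y s • w + 𝐟 y w • s)) := by
  obtain ⟨m, hm⟩ : ∃ m, m = 𝐟 y s • w + 𝐟 y w • s := ⟨_, rfl⟩
  have om : Ok Q u m := hm ▸ ActA.okm h1 h2 _ _
  have o' := o.add om
  have o3 := ok_of h3
  have g1 : (sg Q s w).1.1 u = u := sg_fix h1.p h2.p
  have g2 : (sg Q s w).1.1 y = y + m := hm ▸ ActA.sgy1 h3 y
  have g3 : sg Q s w * sg Q u y * (sg Q s w)⁻¹ = sg Q u (y + m) := by rw [conj_sg, g1, g2]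
  rw [← hm]
  by_cases hz : sg Q u (y + m) = 1
  · refine ⟨0, ⟨o.l, polar_zero_right _ _⟩, ?_⟩
    rw [Fam.XX_zero', hz, conj_eq_one_iff.1 (g3.trans hz), h.c_one, mul_one, mul_inv_cancel]
  have c13 : Commute (c (sg Q s w)) (c (sg Q u m)) := hm ▸ ActA.c13 h h1 h2 h3 _ _
  have a1 := h.act0 h1 h2 h3 o'
  rw [polar_add_left, polar_add_left, show 𝐟 m s = 0 from hm ▸ ActA.pms h3 _ _,
    show 𝐟 m w = 0 from hm ▸ ActA.pmw h3 _ _, add_zero, add_zero, ← hm, XX] at a1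
  have a2 := h.conj o (sg Q s w)
  rw [g1, g2] at a2
  have a3 := congrArg ι g3
  rw [map_mul, map_mul, map_inv] at a3
  have a4 := h.add _ _ _ o om
  have a5 := (h.cen om.sg (sg_comm u (y + m) m)).eq
  have s1 := h.sq o3
  have s2 := h.sq o
  have s3 := h.sq om
  have s4 := h.sq o'
  have t1 := h.tc o3
  have t2 := h.tc o
  have t4 := h.tc o'
  have cq : ∀ g, 𝐟 u g = 0 → Commute (ι (sg Q u g)) (c (sg Q u (y + m))) := fun g _ =>
    h.cen o'.sg (sg_comm u g _)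
  have cp : ∀ g, 𝐟 u g = 0 →
      Commute (ι (sg Q u g)) (c (sg Q s w) * c (sg Q u y) * (c (sg Q s w))⁻¹) := fun g hg => by
    have b1 := h.act0 h1 h2 h3 ⟨o.l, hg⟩
    have b2 : Commute (XX ι c u g (𝐟 g s • w + 𝐟 g w • s)) (c (sg Q u y)) :=
      (h.cen o.sg (sg_comm u g y)).mul_left (h.com (ActA.okm h1 h2 _ _) o)
    have b3 := b2.conj (c (sg Q s w))
    rwa [← b1, ← mul_assoc, ← mul_assoc, s1, one_mul, mul_assoc, ← mul_inv_rev, s1, inv_one,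
      mul_one] at b3
  have tr := h.tr _ o'.sg
  have cO := h.cO _ o'.sg
  generalize c (sg Q s w) = c₁, c (sg Q u y) = c₂, c (sg Q u m) = c₃ at *
  have tp : t * (c₁ * c₂ * c₁⁻¹) * t⁻¹ = c₁ * c₂ * c₁⁻¹ * ι (sg Q u (y + m)) := by
    calc _ = t * c₁ * t⁻¹ * (t * c₂ * t⁻¹) * (t * c₁ * t⁻¹)⁻¹ := by group
      _ = c₁ * (ι (sg Q s w) * c₂ * (ι (sg Q s w))⁻¹) * c₁⁻¹ *
          (c₁ * (ι (sg Q s w) * ι (sg Q u y) * (ι (sg Q s w))⁻¹) * c₁⁻¹) := by rw [t1, t2]; group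
      _ = c₁ * c₂ * c₁⁻¹ * (c₁ * c₃ * c₁⁻¹) * (ι (sg Q u (y + m)) * c₃) := by
          rw [a2, a3, a1, a4]; group
      _ = _ := by rw [c13.eq, a5, mul_inv_cancel_right, mul_assoc _ c₃, ← mul_assoc c₃, s3, one_mul]
  have s5 : c₁ * c₂ * c₁⁻¹ * (c₁ * c₂ * c₁⁻¹) = 1 := by rw [conj_mul, s2]; group
  generalize c₁ * c₂ * c₁⁻¹ = p at *
  have nt : p * (c (sg Q u (y + m)))⁻¹ ∈ 𝐳[t] := mem_centralizer_singleton_iff.2 (by
    refine (mul_inv_eq_iff_eq_mul.1 ?_).symm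
    rw [← conj_mul, tp, ← conj_inv, t4]; group)
  have nc : ∀ g, 𝐟 u g = 0 → Commute (p * (c (sg Q u (y + m)))⁻¹) (ι (sg Q u g)) := fun g hg =>
    ((cp g hg).mul_right (cq g hg).inv_right).symm
  obtain ⟨y₀, o₀, hk⟩ := h.toRp.rv o.l h0 (h.nrm nt) nc
  refine ⟨y₀, o₀, ?_⟩
  have := h.toSu.inv_K h.ko (mul_mem nt (inv_mem (h.tL ⟨_, rfl⟩))) hk cO hz tr (by
    have b1 := (nc y₀ o₀.p).inv_left.eq
    have b2 := (cq y₀ o₀.p).inv_left.eq
    have b3 : ι (sg Q u y₀) = (ι (sg Q u y₀))⁻¹ := by rw [← map_inv, sg_inv]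
    rw [mul_inv_rev, inv_inv, ← b1, ← conj_mul, ← b2, mul_inv_cancel_right, ← b3, mul_inv_rev,
      inv_inv, inv_eq_of_mul_eq_one_right s5, mul_assoc _ _ (c _)⁻¹, mul_assoc p, ← mul_inv_rev, s4,
      inv_one, mul_one])
  rw [mul_inv_eq_one, mul_inv_eq_iff_eq_mul] at this
  exact this

/-- Case `y ⊥ s`.  For `g ⊥ u, s`, `sg s g` fixes `u`, `sg s w`, `m = 𝐟 y w • s` and sends `y` to
`y + γ s`; `c (sg u (γ s)) = c (sg s (γ u))` commutes with `c₁`, so `b` is fixed, and `y₀` is fixed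
modulo `u`.  `perp_of_fix` (`g ∉ ⟨u,s⟩`): `y₀ ∈ ⟨u, s⟩`. -/
theorem Fam.act2 (h : Fam ι t c) (hu : TI Q ![u, s, w]) (o : Ok Q u y) (e : 𝐟 y s = 0) :
    ∃ l : F, c (sg Q s w) * c (sg Q u y) * (c (sg Q s w))⁻¹ =
      XX ι c u (l • s) (y + 𝐟 y w • s) := by
  obtain ⟨h1, h2, h3', h4⟩ := ti3_iff.1 hu
  have h3 : TS2 Q s w := ⟨h1.r, h2.r, h3'⟩
  have h0 : u ≠ 0 := fun e => one_ne_zero (h4 1 0 0 (by simp [e])).1
  obtain ⟨y₀, o₀, hy⟩ := h.act1 h0 h1 h2 h3 o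
  rw [e, zero_smul, zero_add] at hy
  have os : ∀ γ : F, Ok Q u (γ • s) := (ok_of h1).smul
  have key : ∀ g, 𝐟 u g = 0 → 𝐟 s g = 0 → g ∉ Submodule.span F {u} ⊔ Submodule.span F {s} →
      𝐟 y₀ s = 0 ∧ 𝐟 y₀ g = 0 := fun g g1 g2 g3 => by
    have og : Ok Q s g := ⟨h1.r, g2⟩
    have f1 : (sg Q s g).1.1 u = u := sg_fix h1.p g1
    have f2 : (sg Q s g).1.1 s = s := sg_fix (f_self s) g2
    have f3 := sg_apply_perp og e
    have a1 := (h.cen (ok_of h3).sg (sg_comm s g w)).eq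
    have a2 := h.conj o (sg Q s g)
    have a3 := h.XX_conj o₀ (o.add (os (𝐟 y w))) (sg Q s g)
    have a4 : Commute (c (sg Q s w)) (c (sg Q u (𝐟 y g • s))) := by
      simpa using ActA.c13 h h1 h2 h3 0 (𝐟 y g)
    rw [f1, f3, h.add _ _ _ o (os _)] at a2
    rw [f1, map_add, map_smul, f2, f3, add_right_comm, ← hy, ← conj_mul, ← conj_mul, a2, ← conj_inv,
      a1, mul_inv_cancel_right, ← mul_assoc, mul_assoc _ _ (c _)⁻¹, ← a4.inv_left.eq, ← mul_assoc,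
      hy, XX, XX, h.add _ _ _ (o.add (os _)) (os _), ← mul_assoc, mul_left_inj, mul_left_inj] at a3
    have o₁ := o₀.map (sg Q s g)
    rw [f1] at o₁
    obtain ⟨a, ha⟩ := (sg_inj h.nd o₁ o₀ h0).1 (h.inj a3).symm
    refine perp_of_fix h.nd h1.r g2 g3 (fun e => ?_) ?_
    · obtain ⟨a, e⟩ := Submodule.mem_span_singleton.1 e
      exact one_ne_zero (h4 a 1 0 (by rw [e, one_smul, add_self' (F := F), zero_smul, add_zero])).2.1
    · rw [ha, add_right_comm, add_self' (F := F), zero_add]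
      exact Submodule.smul_mem _ _ (Submodule.mem_span_singleton_self u)
  have k1 : 𝐟 y₀ s = 0 := (key w h2.p h3' fun e => by
    rw [← Submodule.span_union, Set.singleton_union, Submodule.mem_span_pair] at e
    obtain ⟨a, b, e⟩ := e
    exact one_ne_zero (h4 a b 1 (by rw [e, one_smul, add_self' (F := F)])).2.2).1
  have k2 : y₀ ∈ Submodule.span F {u, s} := by
    rw [← perp_perp h.nd (Submodule.span F {u, s})]
    refine mem_perp.2 fun g hg => ?_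
    by_cases hg' : g ∈ Submodule.span F {u} ⊔ Submodule.span F {s}
    · rw [← Submodule.span_union, Set.singleton_union, Submodule.mem_span_pair] at hg'
      obtain ⟨a, b, rfl⟩ := hg'
      rw [polar_add_left, polar_smul_left, polar_smul_left, o₀.p, polar_comm _ s, k1]; simp
    · rw [polar_comm]
      exact (key g (mem_perp2''.1 hg).1 (mem_perp2''.1 hg).2 hg').2
  obtain ⟨a, l, rfl⟩ := Submodule.mem_span_pair.1 k2
  exact ⟨l, by rw [hy, XX, XX, add_comm (a • u), sg_add_smul (os l)]⟩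

/-- `act2` for `(s,w)` and `(w,s)` (`sg_swap`), `XX_eq_one` -/
theorem Fam.act3 (h : Fam ι t c) (hu : TI Q ![u, s, w]) (o : Ok Q u y) (e : 𝐟 y s = 0)
    (e' : 𝐟 y w = 0) : Commute (c (sg Q s w)) (c (sg Q u y)) := by
  obtain ⟨h1, h2, h3, h4⟩ := ti3_iff.1 hu
  have h0 : u ≠ 0 := fun e => one_ne_zero (h4 1 0 0 (by simp [e])).1
  obtain ⟨l, a1⟩ := h.act2 hu o e
  obtain ⟨l', a2⟩ := h.act2 (ActA.ti_swap hu) o e'
  rw [e', zero_smul, add_zero] at a1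
  rw [e, zero_smul, add_zero, ← sg_swap ⟨h1.r, h2.r, h3⟩, a1, XX, XX, mul_left_inj] at a2
  obtain ⟨a, ha⟩ := (sg_inj h.nd ((ok_of h1).smul l) ((ok_of h2).smul l') h0).1 (h.inj a2)
  rw [(h4 a l l' (by rw [ha, add_comm (l' • w), ← add_assoc, add_self' (F := F), zero_add,
    add_self' (F := F)])).2.1, zero_smul, Fam.XX_zero'] at a1
  exact mul_inv_eq_iff_eq_mul.1 a1

/-- Fix one `(u,s,w,y)` with `𝐟 y s = 0`, `𝐟 y w = 1` and let `d = l`.  By `act3` (additivity in `y`)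
and `trans3` the same `d` works for all such quadruples; for `𝐟 y w = β ≠ 0` use
`sg s w = sg (β s) (β⁻¹ w)`.  General `y = y₁ + y₂` with `y₁ ⊥ u, s`, `𝐟 y₁ w = 𝐟 y w`
(`exists_dual`), `XX_mul`.  Dependent triples: if `sg s w = 1` then `m = 0`; if `u = 0` all is
trivial; if `0 ≠ u ∈ ⟨s, w⟩` then `sg s w = sg u v` for some `v` (`IsRoot.exists_eq` / `sg_comb`) and
`m ∈ ⟨u⟩`. -/
theorem Fam.exists_act (h : Fam ι t c) : ∃ d, Act ι t c d := by
  obtain ⟨u₀, a0, a1⟩ := h.toDm.ext1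
  obtain ⟨s₀, a2⟩ := h.toDm.ext2 a1 a0
  obtain ⟨w₀, a3⟩ := h.toDm.ext3 a2
  have dual : ∀ {u s w : V}, TI Q ![u, s, w] → ∀ β : F, ∃ y, Ok Q u y ∧ 𝐟 y s = 0 ∧ 𝐟 y w = β :=
    fun {u s w} hu β => by
      obtain ⟨y, hy⟩ := exists_dual h.nd hu.li ![0, 0, β]
      exact ⟨y, ⟨hu.q 0, hy 0⟩, (polar_comm _ _ _).trans (hy 1), (polar_comm _ _ _).trans (hy 2)⟩
  obtain ⟨y₀, o₀, b1, b2⟩ := dual a3 1
  obtain ⟨d, hd⟩ := h.act2 a3 o₀ b1
  obtain ⟨P, hP⟩ : ∃ P : V → V → V → V → Prop, ∀ u s w y, P u s w y ↔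
      c (sg Q s w) * c (sg Q u y) * (c (sg Q s w))⁻¹ =
        XX ι c u (d • (𝐟 y s • w + 𝐟 y w • s)) (y + (𝐟 y s • w + 𝐟 y w • s)) :=
    ⟨_, fun _ _ _ _ => Iff.rfl⟩
  have add : ∀ {u s w y y'}, TS2 Q u s → TS2 Q u w → Ok Q u y → Ok Q u y' → P u s w y →
      P u s w y' → P u s w (y + y') := fun {u s w y y'} h1 h2 o o' p p' => by
    rw [hP] at p p' ⊢
    rw [h.add _ _ _ o o', ← conj_mul, p, p', h.XX_mul ((ActA.okm h1 h2 _ _).smul d)
      (o.add (ActA.okm h1 h2 _ _)) ((ActA.okm h1 h2 _ _).smul d) (o'.add (ActA.okm h1 h2 _ _)),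
      polar_add_left, polar_add_left]
    congr 1 <;> module
  have zero : ∀ {u s w y}, TI Q ![u, s, w] → Ok Q u y → 𝐟 y s = 0 → 𝐟 y w = 0 → P u s w y :=
    fun {u s w y} hu o e e' => by
      rw [hP, e, e', (h.act3 hu o e e').eq, mul_inv_cancel_right, zero_smul, zero_smul, add_zero,
        smul_zero, add_zero, Fam.XX_zero']
  have A : ∀ {u s w y}, TI Q ![u, s, w] → Ok Q u y → 𝐟 y s = 0 → 𝐟 y w = 1 → P u s w y :=
    fun {u s w y} hu o e e' => by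
      obtain ⟨g, rfl, rfl, rfl⟩ := h.toDm.trans3 a3 hu
      obtain ⟨h1, h2, h3, -⟩ := ti3_iff.1 a3
      obtain ⟨k1, k2, -⟩ := ti3_iff.1 hu
      have e1 : 𝐟 (g.1.1 y₀) (g.1.1 s₀) = 0 := by rw [OG.map_polar, b1]
      have e2 : 𝐟 (g.1.1 y₀) (g.1.1 w₀) = 1 := by rw [OG.map_polar, b2]
      have p : P (g.1.1 u₀) (g.1.1 s₀) (g.1.1 w₀) (g.1.1 y₀) := by
        rw [hP, e1, e2, ← h.conj ⟨h1.r, h3⟩, ← h.conj o₀, conj_inv, conj_mul, conj_mul, hd,
          h.XX_conj ((ok_of h1).smul d) (o₀.add ((ok_of h1).smul _)), b2]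
        simp
      have := add k1 k2 (o₀.map g) ((o₀.map g).add o) p (zero hu ((o₀.map g).add o)
        (by rw [polar_add_left, e1, e, add_zero]) (by rw [polar_add_left, e2, e', CharTwo.add_self_eq_zero]))
      rwa [← add_assoc, add_self' (F := F), zero_add] at this
  have B : ∀ {u s w y}, TI Q ![u, s, w] → Ok Q u y → 𝐟 y s = 0 → P u s w y :=
    fun {u s w y} hu o e => by
      by_cases hβ : 𝐟 y w = 0
      · exact zero hu o e hβ
      obtain ⟨h1, h2, h3, h4⟩ := ti3_iff.1 hu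
      have q : ∀ {v : V}, TS2 Q u v → ∀ a : F, TS2 Q u (a • v) := fun h a =>
        ⟨h.l, by rw [QuadraticMap.map_smul, h.r, smul_zero], ((ok_of h).smul a).p⟩
      have e1 : 𝐟 y (𝐟 y w • s) = 0 := by rw [polar_smul_right, e, smul_zero]
      have e2 : 𝐟 y ((𝐟 y w)⁻¹ • w) = 1 := by rw [polar_smul_right, smul_eq_mul, inv_mul_cancel₀ hβ]
      have := A (ti3_iff.2 ⟨q h1 (𝐟 y w), q h2 (𝐟 y w)⁻¹, by
        rw [polar_smul_left, polar_smul_right, h3, smul_zero, smul_zero], fun a b d e => by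
          obtain ⟨e1, e2, e3⟩ := h4 a _ _ (by rwa [smul_smul, smul_smul] at e)
          exact ⟨e1, (mul_eq_zero.1 e2).resolve_right hβ,
            (mul_eq_zero.1 e3).resolve_right (inv_ne_zero hβ)⟩⟩) o e1 e2
      rw [hP, e1, e2, sg_smul (Ok.smul ⟨h1.r, h3⟩ _), smul_inv_smul₀ hβ] at this
      rw [hP, e]
      simpa using this
  refine ⟨d, h, fun u s w y h1 h2 h3 o => (hP u s w y).1 ?_⟩
  by_cases hu : TI Q ![u, s, w]
  · obtain ⟨y₁, o₁, e1, e2⟩ := dual hu (𝐟 y w)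
    have p := B (ActA.ti_swap hu) (o₁.add o) (by rw [polar_add_left, e2, CharTwo.add_self_eq_zero])
    rw [hP, ← sg_swap h3, add_comm (_ • s), ← hP] at p
    have := add h1 h2 o₁ (o₁.add o) (B hu o₁ e1) p
    rwa [← add_assoc, add_self' (F := F), zero_add] at this
  by_cases h0 : u = 0
  · rw [hP, h0, XX, sg_zero_left, sg_zero_left, sg_zero_left, h.c_one, map_one]; group
  obtain ⟨v, ov, hv⟩ : ∃ v, Ok Q u v ∧ sg Q s w = sg Q u v := by
    rcases root_or h.nd h3 with e | e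
    · exact ⟨0, ⟨o.l, polar_zero_right _ _⟩, e.trans (sg_zero u).symm⟩
    have r := (root_iff h.nd).2 ⟨s, w, e, rfl⟩
    obtain ⟨v, hv, e'⟩ := r.exists_eq (a := u) (by
      rw [mov_sg h.nd (ok_of h3) fun e => r.1 (congrArg Subtype.val e)]
      by_contra hn
      refine hu (ti3_iff.2 ⟨h1, h2, h3.p, fun a b d e1 => ?_⟩)
      have ha : a = 0 := by
        by_contra ha
        refine hn (Submodule.mem_span_pair.2 ⟨-(a⁻¹ * b), -(a⁻¹ * d), ?_⟩)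
        rw [← inv_smul_smul₀ ha u, eq_neg_of_add_eq_zero_left ((add_assoc _ _ _).symm.trans e1)]
        module
      rw [ha, zero_smul, zero_add] at e1
      exact ⟨ha, LinearIndependent.pair_iff.1 e.li b d e1⟩) h0
    exact ⟨v, ok_of hv, Subtype.ext e'⟩
  have e1 := ActA.sgy1 h3 y
  rw [hv, sg_apply_perp ov ((polar_comm _ _ _).trans o.p), add_right_inj] at e1
  rw [hP, ← e1, hv, (h.com ov o).eq, mul_inv_cancel_right, XX, smul_smul, sg_self o.l,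
    sg_add_smul o, map_one, one_mul]

/-- `(φ + ε)(ψ + ε) = φ ψ + d + (φ + ψ + 1) ε`; `sg s (φ w)` sends `y` to `y + φ m` -/
theorem Act.conj {d : F} (h : Act ι t c d) (h1 : TS2 Q u s) (h2 : TS2 Q u w) (h3 : TS2 Q s w)
    (o : Ok Q u y) (φ ψ : F) :
    XX ι c s (φ • w) w * XX ι c u (ψ • y) y * (XX ι c s (φ • w) w)⁻¹ =
      XX ι c u (ψ • y + (φ * ψ + d) • (𝐟 y s • w + 𝐟 y w • s))
        (y + (φ + ψ + 1) • (𝐟 y s • w + 𝐟 y w • s)) := by
  have om := ActA.okm h1 h2 (𝐟 y s) (𝐟 y w)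
  have a1 := h.toFam.act0 h1 h2 h3 (o.smul ψ)
  have a2 := h.act u s w y h1 h2 h3 o
  have e1 : 𝐟 (ψ • y) s • w + 𝐟 (ψ • y) w • s = ψ • (𝐟 y s • w + 𝐟 y w • s) := by
    rw [polar_smul_left, polar_smul_left, smul_eq_mul, smul_eq_mul]; module
  have f1 : (sg Q s (φ • w)).1.1 u = u := sg_fix h1.p ((ok_of h2).smul φ).p
  have f2 := ActA.sgy h3 φ y
  have f3 := ActA.sgy h3 φ (𝐟 y s • w + 𝐟 y w • s)
  rw [ActA.pms h3, ActA.pmw h3, zero_smul, zero_smul, add_zero, smul_zero, add_zero] at f3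
  rw [e1] at a1
  generalize 𝐟 y s • w + 𝐟 y w • s = m at *
  calc _ = ι (sg Q s (φ • w)) * (c (sg Q s w) * ι (sg Q u (ψ • y)) * (c (sg Q s w))⁻¹ *
        (c (sg Q s w) * c (sg Q u y) * (c (sg Q s w))⁻¹)) * (ι (sg Q s (φ • w)))⁻¹ := by
          rw [XX, XX]; group
    _ = _ := by
      rw [a1, a2, h.toFam.XX_mul (o.smul ψ) (om.smul ψ) (om.smul d) (o.add om),
        h.toFam.XX_conj ((o.smul ψ).add (om.smul d)) ((om.smul ψ).add (o.add om))]
      simp only [map_add, map_smul, f1, f2, f3]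
      congr 1 <;> module

end Cfsg.Agent.StdO
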