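import Cfsg.Agent.StdO.BasA
import Cfsg.Agent.S2605
import Cfsg.Agent.S2607
import Cfsg.Agent.S4245

/-! Automorphisms of `L = ι.range`.  For `n ∈ N(L)` let `θ n : MulAut (EG Q)` be conjugation by `n`
pulled back along `ι`; `EG Q ⧸ center = EG Q`; `D` from `Dm.exists_rep`; `θ ∈ D.psi.range` iff
`∃ T, Ac ι n T` (`exists_c_one`).  `Out (EG Q)` is abelian or `S₃ × C_f` (S2605, S2607 and
`IsPlus.exists_equiv`, `exists_equiv_minus`, or directly `psi_surjective`, `comm_mem_GOp`). -/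

set_option autoImplicit false
set_option linter.unusedSectionVars false
set_option linter.unusedVariables false

namespace Cfsg.Agent.StdO

open Subgroup Module QuadraticMap Cfsg.Agent.Class.Orth Cfsg.Agent.KSG Cfsg.Agent.PLocal.Amb
  Cfsg.Agent.Lyons
open Cfsg.Agent.StdL (cjh)
open scoped commutatorElement

variable {F V : Type*} [Field F] [Finite F] [CharP F 2] [AddCommGroup V] [Module F V]
  [FiniteDimensional F V] {Q : QuadraticForm F V} {G : Type*} [Group G] [Finite G]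
  {ι : EG Q →* G} {t : G}

local notation "𝐟" => polar Q

variable {u a b e : V} {n x : G} {z : EG Q}

theorem Rp.exists_aut (h : Rp ι) (hn : n ∈ 𝐍[ι.range]) :
    ∃ α : MulAut (EG Q), ∀ g, n * ι g * n⁻¹ = ι (α g) := by
  exact ⟨indAut₀ ι h.inj ⟨n, hn⟩, fun g => (indAut₀_spec ι h.inj ⟨n, hn⟩ g).symm⟩

theorem Dm.center_bot (h : Dm Q) : Subgroup.center (EG Q) = ⊥ :=
  eq_bot_iff.2 fun _ hg => h.center fun k => (mem_center_iff.1 hg k).symm

theorem Dm.mk_inj (h : Dm Q) {g k : EG Q}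
    (e : (QuotientGroup.mk g : EG Q ⧸ Subgroup.center (EG Q)) = QuotientGroup.mk k) : g = k :=
  inv_mul_eq_one.1 (mem_bot.1 (h.center_bot.le (QuotientGroup.eq.1 e)))

theorem Rp.ac_of (h : Rp ι) (hn : n ∈ 𝐍[ι.range]) {D : OmegaRep Q (EG Q)} (hD : ∀ g, D.ρ g = g.1)
    {θ : MulAut (EG Q ⧸ Subgroup.center (EG Q))}
    (hθ : ∀ g k, ι k = n * ι g * n⁻¹ → θ (QuotientGroup.mk g) = QuotientGroup.mk k)
    (e : θ ∈ D.psi.range) : ∃ T, Ac ι n T := by
  obtain ⟨T, rfl⟩ := e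
  obtain ⟨T', h1, -, h2⟩ := exists_c_one T
  obtain ⟨α, hα⟩ := h.exists_aut hn
  refine ⟨T', h1, fun g => ?_⟩
  rw [hα, h2, h.mk_inj ((hθ g _ (hα g).symm).symm.trans (D.psi_mk T (b := cE T g) (by rw [hD, hD]; rfl)))]

theorem Rp.inn_of (h : Rp ι) (hn : n ∈ 𝐍[ι.range])
    (e : QuotientGroup.mk' (Inn _) (indAut ι h.inj ⟨n, hn⟩) = 1) : ∃ g, n * (ι g)⁻¹ ∈ 𝐂[ι.range] := by
  obtain ⟨y, hy⟩ := (QuotientGroup.eq_one_iff _).1 e
  obtain ⟨g, rfl⟩ := QuotientGroup.mk_surjective y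
  obtain ⟨α, hα⟩ := h.exists_aut hn
  refine ⟨g, ?_⟩
  rintro _ ⟨k, rfl⟩
  have := indAut_mk ι h.inj ⟨n, hn⟩ (hα (g⁻¹ * k * g)).symm
  rw [← hy] at this
  have e := hα (g⁻¹ * k * g)
  have k' : k = α (g⁻¹ * k * g) := h.mk_inj (by simpa [mul_assoc] using this)
  rw [← k'] at e
  conv_lhs => rw [← e]
  simp [mul_assoc]

theorem Dm.key (h : Dm Q) (D : OmegaRep Q (EG Q)) :
    (∀ y ∈ commutator (Out (EG Q ⧸ Subgroup.center (EG Q))), y ^ 3 = 1 ∧
      ∀ z ∈ commutator (Out (EG Q ⧸ Subgroup.center (EG Q))), Commute y z) ∧ ¬ 2 ∣ D.psi.range.index := by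
  have := Fintype.ofFinite F
  obtain ⟨f, -, hF⟩ := FiniteField.card F 2
  have h5 : 5 ≤ finrank F V := by have := h.d8; omega
  have h2 := SS.relIndex_ZO_of_two h.nd (two_zero F) h.even h5
  have hk := D.ker_out h.nd h5
  obtain ⟨c1, c2⟩ := card_ringAut F hF
  by_cases h8 : finrank F V = 8 → ∀ S : Submodule F V, TS Q S → finrank F S ≠ 4
  · have hs := D.psi_surjective h.nd (by have := h.d8; omega) h8
    have ho := D.out_surjective hs
    have c := (MonoidHom.isMulCommutative_of_isCyclic_of_ker_le_center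
      (D.out.liftOfSurjective ho ⟨SS.aut Q, hk.le.trans SS.ZO_le_GOs⟩) fun y hy => by
        obtain ⟨y, rfl⟩ := ho y
        refine mem_center_iff.2 fun z => ?_
        obtain ⟨z, rfl⟩ := ho z
        exact (SS.commute_of_relIndex_two hk h2
          (show SS.aut Q y = 1 by simpa using hy) z).eq.symm).is_comm.comm
    refine ⟨fun y hy => ?_, by rw [MonoidHom.range_eq_top.2 hs, index_top]; decide⟩
    rw [mem_bot.1 (commutator_le.2 (fun a _ b _ => commutatorElement_eq_one_iff_mul_comm.2 (c a b)) hy)]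
    simp
  push Not at h8
  obtain ⟨h8, S, s1, s2⟩ := h8
  obtain ⟨e, he⟩ := Class.QF.IsPlus.exists_equiv ((nd_iff Q).1 h.nd) ⟨S, s1, by omega⟩ (m := 4) h8
  replace he : ∀ v, plusQF 4 F (e v) = Q v := fun v => (plusQF_apply 4 F _).trans (he v)
  let D' : OmegaRep (plusQF 4 F) (EG Q) := ⟨(OG.congr e he).toMonoidHom.comp D.ρ,
    (OG.congr e he).injective.comp D.inj, by
      rw [MonoidHom.range_comp, D.range, map_commutator_eq, MonoidHom.range_eq_top.2 (OG.congr e he).surjective]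
      rfl⟩
  obtain ⟨Φ, -⟩ := D'.exists_equiv_D4
  obtain ⟨ε⟩ := out_D4_two hF (two_zero F)
  replace ε := (outCongr Φ).trans ε
  have k : ∀ y ∈ commutator (Out (EG Q ⧸ Subgroup.center (EG Q))), Equiv.Perm.sign (ε y).1 = 1 ∧ (ε y).2 = 1 :=
    fun y hy => ⟨by simpa using MonoidHom.mem_ker.1 (Abelianization.commutator_subset_ker
      (Equiv.Perm.sign.comp ((MonoidHom.fst _ _).comp ε.toMonoidHom)) hy),
      by simpa using MonoidHom.mem_ker.1 (Abelianization.commutator_subset_ker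
        ((MonoidHom.snd _ _).comp ε.toMonoidHom) hy)⟩
  refine ⟨fun y hy => ⟨ε.injective ?_, fun z hz => ε.injective ?_⟩, ?_⟩
  · rw [map_pow, map_one]
    exact Prod.ext ((by decide : ∀ s : Equiv.Perm (Fin 3), Equiv.Perm.sign s = 1 → s ^ 3 = 1) _ (k y hy).1)
      (by simp [(k y hy).2])
  · rw [map_mul, map_mul]
    exact Prod.ext ((by decide : ∀ s r : Equiv.Perm (Fin 3), Equiv.Perm.sign s = 1 →
      Equiv.Perm.sign r = 1 → s * r = r * s) _ _ (k y hy).1 (k z hz).1) (mul_comm _ _)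
  obtain ⟨φ, p1, -⟩ := exists_field_plus hF 4
  have a1 : (SS.aut Q).range = ⊤ := eq_top_iff.2 fun τ _ => by
    obtain ⟨i, rfl⟩ := exists_pow_eq_of_orderOf (p1.trans c1.symm) τ
    exact pow_mem (MonoidHom.mem_range.2
      ⟨SS.congr e.symm (fun v => by rw [← he, e.apply_symm_apply]) φ, rfl⟩) i
  have a2 : Nat.card D.out.range = 2 * f := by
    rw [← index_ker, hk, ← relIndex_mul_index SS.ZO_le_GOs, h2, ← c1, ← card_top, ← a1, ← index_ker]; rfl
  have a3 := D.out.range.card_mul_index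
  rw [a2, Nat.card_congr ε.toEquiv, Nat.card_prod, card_mult_zmod, Nat.card_perm] at a3
  have a4 : D.psi.range = D.out.range.comap (QuotientGroup.mk' _) := by
    rw [OmegaRep.out, MonoidHom.range_comp, comap_map_eq, QuotientGroup.ker_mk', sup_of_le_left D.inn_le_range]
  have a5 : (Nat.card (Fin 3)).factorial * (f : ℕ) = 2 * f * 3 := by
    rw [Nat.card_eq_fintype_card, Fintype.card_fin, show Nat.factorial 3 = 6 from rfl]; ring
  rw [a4, index_comap_of_surjective _ (QuotientGroup.mk'_surjective _),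
    Nat.eq_of_mul_eq_mul_left (Nat.mul_pos two_pos f.pos) (a3.trans a5)]
  decide

theorem eq_one_of_pf {X : Subgroup G} (hp : StdZ.Pf X) {Y : Type*} [Group Y] [Group.IsSolvable Y]
    (κ : X →* Y) (x : X) : κ x = 1 := by
  obtain ⟨n, hn⟩ := (Group.isSolvable_def Y).1 inferInstance
  have c : ⁅(⊤ : Subgroup X), ⊤⁆ = ⊤ := map_injective X.subtype_injective (by
    rw [map_commutator, ← MonoidHom.range_eq_map, range_subtype]
    exact le_antisymm (commutator_le.2 fun a ha b hb =>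
      mul_mem (mul_mem (mul_mem ha hb) (inv_mem ha)) (inv_mem hb)) hp)
  have : ∀ n, derivedSeries X n = ⊤ := fun n => by
    induction n with
    | zero => rfl
    | succ n ih => rw [derivedSeries_succ, ih, c]
  exact mem_bot.1 (hn.le (map_derivedSeries_le_derivedSeries κ n
    (mem_map_of_mem κ ((this n).ge (mem_top x)))))

/-- (SEMI) `OmegaRep.mem_range_of_commute` -/
theorem Rp.semi (h : Rp ι) (hn : n ∈ 𝐍[ι.range]) (h0 : u ≠ 0) (ha : TS2 Q u a) (hb : TS2 Q u b)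
    (hab : 𝐟 a b ≠ 0) (h1 : Commute n (ι (sg Q u a))) (h2 : Commute n (ι (sg Q u b))) :
    ∃ T, Ac ι n T := by
  obtain ⟨D, hD⟩ := h.exists_rep
  have c : ∀ g, Commute n (ι g) → Commute (indAut ι h.inj ⟨n, hn⟩) (D.psi (SS.oO Q g.1)) := fun g e => by
    have k := indAut_mk ι h.inj ⟨n, hn⟩ (a := g) (b := g) (eq_mul_inv_iff_mul_eq.2 e.eq.symm)
    rw [← hD, D.psi_oO]
    exact MulEquiv.ext fun y => by
      rw [MulAut.mul_apply, MulAut.mul_apply, MulAut.conj_apply, MulAut.conj_apply, map_mul, map_mul,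
        map_inv, k]
  exact h.ac_of hn hD (θ := indAut ι h.inj ⟨n, hn⟩) (fun _ _ e => indAut_mk ι h.inj ⟨n, hn⟩ e)
    (D.mem_range_of_commute h.nd (by have := h.d8; omega) h0 ha hb hab (c (sg Q u a) h1)
      (c (sg Q u b) h2))

/-- `OmegaRep.psi_surjective` -/
theorem Rp.semi' (h : Rp ι) (h8 : finrank F V ≠ 8) (hn : n ∈ 𝐍[ι.range]) : ∃ T, Ac ι n T := by
  obtain ⟨D, hD⟩ := h.exists_rep
  exact h.ac_of hn hD (fun _ _ e => indAut_mk ι h.inj ⟨n, hn⟩ e)
    (D.psi_surjective h.nd (by have := h.d8; omega) (fun e => absurd e h8) _)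

/-- `Cor.isRoot` for `OmegaRep.cor` -/
theorem Dm.root_aut (h : Dm Q) (α : MulAut (EG Q)) (hz : IsRoot z.1) : IsRoot (α z).1 := by
  obtain ⟨D, hD⟩ := h.exists_rep
  have := h.d8
  obtain ⟨k, hk⟩ := hz.pel 2
  exact (D.cor h.nd (by omega) (quotCenterAut α)).isRoot 2 h.nd (by omega) hz
    ⟨k, congrArg Subtype.val ((map_pow α z _).symm.trans (by
      rw [show z ^ 2 ^ k = 1 from Subtype.ext hk, map_one]))⟩ ⟨z, α z, hD _, hD _, rfl⟩

/-- (A1) The derived group of `Out` has odd order (`1` or `3`). -/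
theorem Rp.a1 (h : Rp ι) (hx : x ∈ ⁅𝐍[ι.range], 𝐍[ι.range]⁆) (h2 : StdZ.Tw x) :
    ∃ g, x * (ι g)⁻¹ ∈ 𝐂[ι.range] := by
  obtain ⟨D, -⟩ := h.exists_rep
  rw [← map_subtype_commutator] at hx
  obtain ⟨y, hy, rfl⟩ := hx
  obtain ⟨k, hk⟩ := h2
  let π := (QuotientGroup.mk' (Inn _)).comp (indAut ι h.inj)
  have h3 := ((h.key D).1 (π y) (commutator_mono le_top le_top
    (map_commutator _ _ π ▸ mem_map_of_mem π hy))).1
  refine h.inn_of y.2 (orderOf_eq_one_iff.1 (Nat.eq_one_of_dvd_coprimes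
    ((by norm_num : Nat.Coprime 3 2).pow_right k) (orderOf_dvd_of_pow_eq_one h3)
    (orderOf_dvd_of_pow_eq_one (x := π y) ?_)))
  rw [← map_pow, show y ^ 2 ^ k = 1 from Subtype.ext hk, map_one]

/-- (A2) `Out` is solvable. -/
theorem Rp.a2 (h : Rp ι) {X : Subgroup G} (hX : X ≤ 𝐍[ι.range]) (hp : StdZ.Pf X) (hx : x ∈ X) :
    ∃ g, x * (ι g)⁻¹ ∈ 𝐂[ι.range] := by
  obtain ⟨D, -⟩ := h.exists_rep
  have : Group.IsSolvable (Out (EG Q ⧸ Subgroup.center (EG Q))) := ⟨⟨2, eq_bot_iff.2 (commutator_le.2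
    fun a ha b hb => commutatorElement_eq_one_iff_commute.2 (((h.key D).1 a ha).2 b hb))⟩⟩
  exact h.inn_of (hX hx) (eq_one_of_pf hp
    (((QuotientGroup.mk' (Inn _)).comp (indAut ι h.inj)).comp (inclusion hX)) ⟨x, hx⟩)

/-- (A3) `D.psi.range` has index `1` or `3` in `Aut` (order `2 f |L|` by `relIndex_ZO_of_two`,
`psi_mem_inn_iff` and surjectivity of `σ` in the plus case `exists_field_plus`; `|Out| = 6 f`), so it
contains a Sylow `2`-subgroup; conjugate the image of `P` into it by `α`. -/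
theorem Rp.a3 (h : Rp ι) {P : Subgroup G} (hP : IsPGroup 2 P) (hN : P ≤ 𝐍[ι.range]) :
    ∃ α : MulAut (EG Q), ∀ n ∈ P, ∃ T, Ac (ι.comp α.toMonoidHom) n T := by
  obtain ⟨D, hD⟩ := h.exists_rep
  have := D.finite_aut
  obtain ⟨S, hS⟩ := exists_isSyl 2 D.psi.range
  have h1 : IsSyl 2 S ⊤ := isSyl_of_not_dvd_relIndex hS.pgrp le_top (by
    rw [relIndex_top_right, ← relIndex_mul_index hS.le]
    exact fun e => ((Nat.Prime.dvd_mul Nat.prime_two).1 e).elim hS.not_dvd_relIndex (h.key D).2)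
  obtain ⟨β, -, h2⟩ := h1.exists_cj_le
    ((hP.of_equiv (subgroupOfEquivOfLe hN).symm).map (indAut ι h.inj)) le_top
  let ε := ((QuotientGroup.quotientMulEquivOfEq h.center_bot).trans QuotientGroup.quotientBot).symm
  have he : ∀ g, ε g = QuotientGroup.mk g := fun g => rfl
  let α := (MulAut.congr ε).symm β⁻¹
  have hα : ∀ g, QuotientGroup.mk (α g) = β⁻¹ (QuotientGroup.mk g) := fun g => by
    rw [← he, ← he]; simp [α]
  refine ⟨α, fun n hn => (h.comp α).ac_of ((range_comp_aut ι α).symm ▸ hN hn) hD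
    (θ := β * indAut ι h.inj ⟨n, hN hn⟩ * β⁻¹) (fun g k e => ?_)
    (hS.le (h2 (mem_map_of_mem _ (mem_map_of_mem _ hn))))⟩
  rw [MulAut.mul_apply, MulAut.mul_apply, ← hα, indAut_mk ι h.inj ⟨n, hN hn⟩ (a := α g) (b := α k) e, hα]
  simp

/-- A perfect subgroup of `C(t)` lies in `L`: `X ≤ L K` with `K = C(t) ⊓ C(L)`; `K` has cyclic Sylow
`2`-subgroups, hence is solvable (normal `2`-complement and Feit–Thompson; see `Su.out`-type lemmas
in `StdU/AutM`, `SLE/RtA`), and the projection of `X` to `L K / L` is perfect and solvable. -/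
theorem Su.out (h : Su ι t) {X : Subgroup G} (hX : X ≤ 𝐳[t]) (hp : StdZ.Pf X) : X ≤ ι.range := by
  have : Group.IsSolvable ↥(𝐳[t] ⊓ 𝐂[ι.range]) := by
    obtain ⟨S⟩ : Nonempty (Sylow 2 ↥(𝐳[t] ⊓ 𝐂[ι.range])) := inferInstance
    have := h.cyc _ (map_subtype_le S.1) (S.isPGroup'.map _)
    exact S4245.solvable_of_cyclic (isSyl_top S)
      (isCyclic_of_surjective _ (equivMapOfInjective _ _ (subtype_injective _)).symm.surjective)
  choose g hg using fun x : X => h.a2 (hX.trans h.nrm) hp x.2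
  have c : ∀ x y : X, (x * y : G) * (ι (g x * g y))⁻¹ = x * (ι (g x))⁻¹ * (y * (ι (g y))⁻¹) := fun x y => by
    rw [mul_assoc _ _ (_ * _), ← map_inv ι (g x), hg y _ ⟨_, rfl⟩]
    simp [mul_assoc]
  let κ : X →* ↥(𝐳[t] ⊓ 𝐂[ι.range]) := MonoidHom.mk' (fun x => ⟨x * (ι (g x))⁻¹,
    mem_inf.2 ⟨mul_mem (hX x.2) (inv_mem (h.tL ⟨_, rfl⟩)), hg x⟩⟩) fun x y => Subtype.ext (by
      have := h.eq_one (x := ι (g x * g y) * (ι (g (x * y)))⁻¹) (mul_mem ⟨_, rfl⟩ (inv_mem ⟨_, rfl⟩)) (by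
        have := mul_mem (inv_mem (mul_mem (hg x) (hg y))) (hg (x * y))
        rw [← c, coe_mul] at this
        convert this using 1
        group)
      exact (congrArg (fun y => _ * y⁻¹) (mul_inv_eq_one.1 this)).symm.trans (c x y))
  exact fun x hx => ⟨_, (mul_inv_eq_one.1 (congrArg Subtype.val (eq_one_of_pf hp κ ⟨x, hx⟩))).symm⟩

/-- `Z0.cm`: by `a1`, `s = k ι(g)`, `k ∈ C(L)`; `k² ι(g)² = 1` gives `g² = 1`, `k² = 1`; `Su.inv`. -/
theorem Su.cm (h : Su ι t) {s : G} (hs : s ∈ ⁅𝐳[t], 𝐳[t]⁆) (h2 : s * s = 1) :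
    StdZ.Inn t ι.range s := by
  obtain ⟨g, hg⟩ := h.a1 (commutator_mono h.nrm h.nrm hs) ⟨1, by rwa [pow_one, _root_.sq]⟩
  have h1 : s ∈ 𝐳[t] := commutator_le.2 (fun a ha b hb =>
    mul_mem (mul_mem (mul_mem ha hb) (inv_mem ha)) (inv_mem hb)) hs
  obtain ⟨k, rfl⟩ : ∃ k, s = k * ι g := ⟨s * (ι g)⁻¹, by simp⟩
  rw [mul_inv_cancel_right] at hg
  rw [mul_assoc, ← mul_assoc (ι g), hg _ ⟨g, rfl⟩, mul_assoc, ← mul_assoc] at h2
  rcases h.inv (by simpa using mul_mem h1 (inv_mem (h.tL ⟨g, rfl⟩))) hg (h.eq_one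
    (eq_inv_of_mul_eq_one_left h2 ▸ inv_mem (mul_mem ⟨g, rfl⟩ ⟨g, rfl⟩)) (mul_mem hg hg)) with e | e
  · exact .inl ⟨g, by rw [e, one_mul]⟩
  · exact .inr ⟨g, by rw [e, (h.tc g).eq, mul_assoc, h.tt, mul_one]⟩

/-- A faithful image of `Ω` of the same type in `C(t)` is `L` (`out`, equal orders). -/
theorem Su.range_eq (h : Su ι t) {j : EG Q →* G} (hj : Function.Injective j) (e : j.range ≤ 𝐳[t]) :
    j.range = ι.range := by
  refine eq_of_le_of_card_ge (h.out e (Rp.perfect ⟨h.toDm, hj⟩).ge) ?_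
  rw [← Nat.card_congr (MonoidHom.ofInjective hj).toEquiv,
    ← Nat.card_congr (MonoidHom.ofInjective h.inj).toEquiv]

end Cfsg.Agent.StdO
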