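import Cfsg.Agent.StdO.BasA

/-! Geometry: dual vectors, existence and transitivity, fixed vectors, centralizers of root elements. -/

set_option autoImplicit false
set_option linter.unusedSectionVars false
set_option linter.unusedVariables false

namespace Cfsg.Agent.StdO

open Subgroup Module QuadraticMap Cfsg.Agent.Class.Orth Cfsg.Agent.KSG Cfsg.Agent.PLocal.Amb
  Cfsg.Agent.Lyons
open Cfsg.Agent.StdL (cjh)
open scoped commutatorElement

variable {F V : Type*} [Field F] [Finite F] [CharP F 2] [AddCommGroup V] [Module F V]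
  [FiniteDimensional F V] {Q : QuadraticForm F V} {G : Type*} [Group G] [Finite G]
  {ι : EG Q →* G} {t : G}

local notation "𝐟" => polar Q

variable {u v w x y e s : V} {a b : F} {g z : EG Q} {U : Submodule F V}

/-- The map `y ↦ (𝐟 (v i) y)_i` is onto (non-degenerate form, independent `v i`). -/
theorem exists_dual (hQ : ND Q) {k : ℕ} {v : Fin k → V} (h : LinearIndependent F v) (a : Fin k → F) :
    ∃ y, ∀ i, 𝐟 (v i) y = a i := by
  obtain ⟨l, hl⟩ := LinearMap.exists_extend ((Finsupp.linearCombination F a) ∘ₗ h.repr)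
  refine ⟨(LinearMap.BilinForm.toDual (polarBilin Q) ((nd_iff Q).1 hQ)).symm l, fun i => ?_⟩
  have e1 := LinearMap.BilinForm.apply_toDual_symm_apply (B := polarBilin Q)
    (hB := (nd_iff Q).1 hQ) l (v i)
  rw [polarBilin_apply_apply] at e1
  rw [polar_comm, e1]
  have hi : v i ∈ Submodule.span F (Set.range v) := Submodule.subset_span ⟨i, rfl⟩
  have e2 := congrArg (fun φ => φ ⟨v i, hi⟩) hl
  simp only [LinearMap.comp_apply, Submodule.subtype_apply] at e2
  rw [e2, h.repr_eq_single i ⟨v i, hi⟩ rfl]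
  simp

/-- `x ∉ U` : there is `y ∈ U^⊥` with `𝐟 x y = a`. -/
theorem exists_perp (hQ : ND Q) (h : x ∉ U) (a : F) : ∃ y ∈ perp Q U, 𝐟 x y = a := by
  rw [← hQ.perp_perp U, mem_perp] at h
  push Not at h
  obtain ⟨y, hy, h0⟩ := h
  refine ⟨(a / 𝐟 y x) • y, Submodule.smul_mem _ _ hy, ?_⟩
  rw [polar_smul_right', polar_comm Q x y]
  field_simp

theorem perp_perp (hQ : ND Q) (U : Submodule F V) : perp Q (perp Q U) = U := hQ.perp_perp U

theorem finrank_perp (hQ : ND Q) (U : Submodule F V) :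
    finrank F U + finrank F (perp Q U) = finrank F V := hQ.finrank_perp U

theorem perp_anti {W : Submodule F V} (h : U ≤ W) : perp Q W ≤ perp Q U := fun _ hx u hu => hx u (h hu)

/-- choose a complement `C` of `U ⊓ W` in `W`, `dim C ≥ 3`, and `exists_singular_mem` -/
theorem exists_sing {W : Submodule F V} (h : finrank F ↥(U ⊓ W) + 3 ≤ finrank F W) :
    ∃ s ∈ W, s ∉ U ∧ Q s = 0 := by
  obtain ⟨C, hC⟩ := ((U ⊓ W).comap W.subtype).exists_isCompl
  have h1 := Submodule.finrank_add_eq_of_isCompl hC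
  have h2 : finrank F ((U ⊓ W).comap W.subtype) = finrank F ↥(U ⊓ W) :=
    (Submodule.comapSubtypeEquivOfLe inf_le_right).finrank_eq
  obtain ⟨x, hx, h0, hq⟩ := exists_singular_mem (Q.comp W.subtype) C (by omega)
  refine ⟨x.1, x.2, fun hU => h0 ?_, hq⟩
  exact (Submodule.disjoint_def.1 hC.disjoint) x ⟨hU, x.2⟩ hx

/-- add a multiple of `v j` where `a j ≠ 0` -/
theorem TI.exists_dual (hQ : ND Q) {k : ℕ} {v : Fin k → V} (h : TI Q v) (a : Fin k → F) {j : Fin k}
    (hj : a j ≠ 0) : ∃ y, Q y = 0 ∧ ∀ i, 𝐟 (v i) y = a i := by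
  obtain ⟨y, hy⟩ := StdO.exists_dual hQ h.li a
  refine ⟨y + (-Q y / a j) • v j, ?_, fun i => ?_⟩
  · rw [Q_add, Q_smul, h.q, polar_smul_right', polar_comm, hy]
    field_simp
    ring
  · rw [polar_add_right, polar_smul_right', h.p, hy, mul_zero, add_zero]

/-- `exists_sing` in `U^⊥`, then a partner from `exists_perp`, made singular -/
theorem exists_hyp (hQ : ND Q) (hU : TS Q U) (h : 2 * finrank F U + 3 ≤ finrank F V) :
    ∃ x ∈ perp Q U, ∃ y ∈ perp Q U, IsHyp Q x y := by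
  have h1 := hQ.finrank_perp U
  have h2 : U ⊓ perp Q U = U := inf_eq_left.2 (hU.le_perp le_rfl)
  obtain ⟨s, hs, hsU, hq⟩ := exists_sing (Q := Q) (U := U) (W := perp Q U) (by rw [h2]; omega)
  obtain ⟨y, hy, h3⟩ := exists_perp hQ hsU 1
  exact ⟨s, hs, _, Submodule.sub_mem _ hy (Submodule.smul_mem _ _ hs), isHyp_of_polar_eq_one hq h3⟩

/-- `singular_induction` with `exists_hyp` -/
theorem perp_induction (hQ : ND Q) (hU : TS Q U) (h : 2 * finrank F U + 3 ≤ finrank F V)
    (P : V → Prop) (hs : ∀ y ∈ perp Q U, Q y = 0 → P y)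
    (hadd : ∀ y ∈ perp Q U, ∀ z ∈ perp Q U, P y → P z → P (y + z)) : ∀ y ∈ perp Q U, P y := by
  obtain ⟨x, hx, y, hy, o⟩ := exists_hyp hQ hU h
  exact singular_induction hx hy o P hs hadd

theorem TI.snoc {k : ℕ} {v : Fin k → V} (h : TI Q v) (hs : Q s = 0) (h1 : ∀ i, 𝐟 (v i) s = 0)
    (h2 : s ∉ Submodule.span F (Set.range v)) : TI Q (Fin.snoc v s : Fin (k + 1) → V) := by
  refine ⟨linearIndependent_finSnoc.2 ⟨h.li, h2⟩, fun i => ?_, fun i j => ?_⟩
  · refine Fin.lastCases ?_ (fun i => ?_) i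
    · simpa using hs
    · simpa using h.q i
  · refine Fin.lastCases ?_ (fun i => ?_) i <;> refine Fin.lastCases ?_ (fun j => ?_) j
    · simpa using polar_self_of_Q_eq_zero hs
    · simpa [polar_comm Q s] using h1 j
    · simpa using h1 i
    · simpa using h.p i j

theorem TI.exists_snoc (hQ : ND Q) {k : ℕ} {v : Fin k → V} (h : TI Q v)
    (hk : 2 * k + 3 ≤ finrank F V) : ∃ s, TI Q (Fin.snoc v s : Fin (k + 1) → V) := by
  have h0 : finrank F (Submodule.span F (Set.range v)) = k := by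
    rw [finrank_span_eq_card h.li, Fintype.card_fin]
  have h1 := hQ.finrank_perp (Submodule.span F (Set.range v))
  have h2 : Submodule.span F (Set.range v) ⊓ perp Q (Submodule.span F (Set.range v)) =
      Submodule.span F (Set.range v) := inf_eq_left.2 (h.ts.le_perp le_rfl)
  obtain ⟨s, hs, hsU, hq⟩ := exists_sing (Q := Q) (U := Submodule.span F (Set.range v))
    (W := perp Q (Submodule.span F (Set.range v))) (by rw [h2]; omega)
  exact ⟨s, h.snoc hq (fun i => hs _ (Submodule.subset_span ⟨i, rfl⟩)) hsU⟩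

theorem ti1 (hu : Q u = 0) (h0 : u ≠ 0) : TI Q ![u] :=
  ⟨by simpa using h0, fun i => by fin_cases i; exact hu,
    fun i j => by fin_cases i; fin_cases j; exact polar_self_of_Q_eq_zero hu⟩

theorem Dm.ext1 (h : Dm Q) : ∃ u, u ≠ 0 ∧ Q u = 0 := by
  obtain ⟨u, -, h0, hu⟩ := exists_singular_mem Q ⊤ (by have := h.d8; rw [finrank_top]; omega)
  exact ⟨u, h0, hu⟩

theorem Dm.ext2 (h : Dm Q) (hu : Q u = 0) (h0 : u ≠ 0) : ∃ e, TI Q ![u, e] := by
  obtain ⟨s, hs⟩ := (ti1 hu h0).exists_snoc h.nd (by have := h.d8; omega)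
  refine ⟨s, ?_⟩
  convert hs using 1
  funext i; fin_cases i <;> rfl

theorem Dm.ext3 (h : Dm Q) (hu : TI Q ![u, e]) : ∃ w, TI Q ![u, e, w] := by
  obtain ⟨s, hs⟩ := hu.exists_snoc h.nd (by have := h.d8; omega)
  refine ⟨s, ?_⟩
  convert hs using 1
  funext i; fin_cases i <;> rfl

theorem Dm.ext4 (h : Dm Q) (hq : Nat.card F = 2) (hu : TI Q ![u, v, w]) :
    ∃ x, TI Q ![u, v, w, x] := by
  obtain ⟨s, hs⟩ := hu.exists_snoc h.nd (by have := h.q2 hq; omega)
  refine ⟨s, ?_⟩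
  convert hs using 1
  funext i; fin_cases i <;> rfl

theorem pol_lc {k : ℕ} {v v' : Fin k → V} (h2 : ∀ i j, 𝐟 (v i) (v j) = 𝐟 (v' i) (v' j))
    (c d : Fin k →₀ F) :
    𝐟 (Finsupp.linearCombination F v' c) (Finsupp.linearCombination F v' d) =
      𝐟 (Finsupp.linearCombination F v c) (Finsupp.linearCombination F v d) := by
  induction c using Finsupp.induction_linear with
  | zero => simp
  | add c c' h h' => rw [map_add, map_add, polar_add_left, polar_add_left, h, h']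
  | single i a =>
    induction d using Finsupp.induction_linear with
    | zero => simp
    | add d d' h h' => rw [map_add, map_add, polar_add_right, polar_add_right, h, h']
    | single j b =>
      simp only [Finsupp.linearCombination_single, polar_smul_left', polar_smul_right', h2]

theorem Q_lc {k : ℕ} {v v' : Fin k → V} (h1 : ∀ i, Q (v i) = Q (v' i))
    (h2 : ∀ i j, 𝐟 (v i) (v j) = 𝐟 (v' i) (v' j)) (c : Fin k →₀ F) :
    Q (Finsupp.linearCombination F v' c) = Q (Finsupp.linearCombination F v c) := by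
  induction c using Finsupp.induction_linear with
  | zero => simp
  | add c c' h h' => rw [LinearMap.map_add, LinearMap.map_add, Q_add, Q_add, h, h', pol_lc h2]
  | single i a => simp only [Finsupp.linearCombination_single, Q_smul, h1]

theorem exists_OG_map (hQ : ND Q) {k : ℕ} {v v' : Fin k → V} (hv : LinearIndependent F v)
    (hv' : LinearIndependent F v') (h1 : ∀ i, Q (v i) = Q (v' i))
    (h2 : ∀ i j, 𝐟 (v i) (v j) = 𝐟 (v' i) (v' j)) : ∃ g : OG Q, ∀ i, g.1 (v i) = v' i := by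
  have hr : ∀ x : Submodule.span F (Set.range v),
      Finsupp.linearCombination F v (hv.repr x) = x := fun x => hv.linearCombination_repr x
  obtain ⟨g, -, g2, g3⟩ := (Class.isFormed_of_quadratic Q ((nd_iff Q).1 hQ)).witt_inj
    (Submodule.span F (Set.range v)) ((Finsupp.linearCombination F v') ∘ₗ hv.repr)
    (fun x y e => by
      have e' : hv.repr x = hv.repr y := hv' e
      exact Subtype.ext (by rw [← hr x, e', hr]))
    (fun x y => by
      show 𝐟 (Finsupp.linearCombination F v' (hv.repr x))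
        (Finsupp.linearCombination F v' (hv.repr y)) = 𝐟 (x : V) y
      rw [pol_lc h2, hr, hr])
    (fun x => by
      show Q (Finsupp.linearCombination F v' (hv.repr x)) = Q (x : V)
      rw [Q_lc h1 h2, hr])
  refine ⟨⟨g, g2⟩, fun i => ?_⟩
  have hi : v i ∈ Submodule.span F (Set.range v) := Submodule.subset_span ⟨i, rfl⟩
  have e := g3 ⟨v i, hi⟩
  rw [LinearMap.comp_apply, hv.repr_eq_single i ⟨v i, hi⟩ rfl] at e
  simpa using e

theorem Dm.witt' (h : Dm Q) {k : ℕ} {v v' : Fin k → V} (hv : LinearIndependent F v)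
    (hv' : LinearIndependent F v') (h1 : ∀ i, Q (v i) = Q (v' i))
    (h2 : ∀ i j, 𝐟 (v i) (v j) = 𝐟 (v' i) (v' j)) (hk : 2 * k < finrank F V) :
    ∃ g : EG Q, ∀ i, g.1.1 (v i) = v' i := by
  obtain ⟨g, hg⟩ := exists_OG_map h.nd hv hv' h1 h2
  have h0 : finrank F (Submodule.span F (Set.range v)) = k := by
    rw [finrank_span_eq_card hv, Fintype.card_fin]
  have hw : ∃ w ∈ perp Q (Submodule.span F (Set.range v)), Q w ≠ 0 := by
    by_contra hc
    push Not at hc
    have e1 := TS.two_mul_le h.nd hc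
    have e2 := h.nd.finrank_perp (Submodule.span F (Set.range v))
    omega
  obtain ⟨w, hw, hw0⟩ := hw
  obtain ⟨g', hg', e⟩ := exists_EG_agree h.nd (by have := h.d8; omega)
    (Submodule.span F (Set.range v)) (fun c hc => by
      obtain ⟨r, hr⟩ := (isSquare_of_charTwo' (c / Q w))
      refine ⟨r • w, Submodule.smul_mem _ _ hw, ?_⟩
      rw [Q_smul, pow_two, ← hr]
      field_simp) g
  exact ⟨⟨g', hg'⟩, fun i => (e _ (Submodule.subset_span ⟨i, rfl⟩)).trans (hg i)⟩

/-- Witt (`ND.exists_omap_eq`-type extension in `Class/Orth`, `Class/Witt`) and `exists_EG_agree`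
(`ND.exists_perp_nonsingular`, every scalar is a square). -/
theorem Dm.trans (h : Dm Q) {k : ℕ} {v v' : Fin k → V} (hv : TI Q v) (hv' : TI Q v')
    (hk : 2 * k < finrank F V) : ∃ g : EG Q, ∀ i, g.1.1 (v i) = v' i :=   h.witt' hv.li hv'.li (fun i => by rw [hv.q, hv'.q]) (fun i j => by rw [hv.p, hv'.p]) hk

/-- Witt for independent tuples with the same Gram data, if the span has a non-singular vector in
its orthogonal complement. -/
theorem Dm.witt (h : Dm Q) {k : ℕ} {v v' : Fin k → V} (hv : LinearIndependent F v)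
    (hv' : LinearIndependent F v') (h1 : ∀ i, Q (v i) = Q (v' i))
    (h2 : ∀ i j, 𝐟 (v i) (v j) = 𝐟 (v' i) (v' j)) (hk : 2 * k < finrank F V) :
    ∃ g : EG Q, ∀ i, g.1.1 (v i) = v' i := h.witt' hv hv' h1 h2 hk

theorem Dm.trans1 (h : Dm Q) (hu : Q u = 0) (h0 : u ≠ 0) (hv : Q v = 0) (h0' : v ≠ 0) :
    ∃ g : EG Q, g.1.1 u = v := by
  obtain ⟨g, hg⟩ := h.trans (ti1 hu h0) (ti1 hv h0') (by have := h.d8; omega)
  exact ⟨g, hg 0⟩

theorem Dm.trans2 (h : Dm Q) {u' e' : V} (h1 : TI Q ![u, e]) (h2 : TI Q ![u', e']) :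
    ∃ g : EG Q, g.1.1 u = u' ∧ g.1.1 e = e' := by
  obtain ⟨g, hg⟩ := h.trans h1 h2 (by have := h.d8; omega)
  exact ⟨g, hg 0, hg 1⟩

theorem Dm.trans3 (h : Dm Q) {u' v' w' : V} (h1 : TI Q ![u, v, w]) (h2 : TI Q ![u', v', w']) :
    ∃ g : EG Q, g.1.1 u = u' ∧ g.1.1 v = v' ∧ g.1.1 w = w' := by
  obtain ⟨g, hg⟩ := h.trans h1 h2 (by have := h.d8; omega)
  exact ⟨g, hg 0, hg 1, hg 2⟩

theorem Dm.conj_root (h : Dm Q) {z' : EG Q} (h1 : IsRoot z.1) (h2 : IsRoot z'.1) :
    ∃ g, g * z * g⁻¹ = z' := by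
  obtain ⟨k, hk, e⟩ := exists_EG_conj_root h.nd (by have := h.d8; omega) h1 h2
  exact ⟨⟨k, hk⟩, Subtype.ext e⟩

theorem sg_comb' (h : TS2 Q u e) (a b d d' : F) :
    sg Q (a • u + b • e) (d • u + d' • e) = sg Q u ((a * d' + b * d) • e) := by
  have hS := h.ts_span
  have mu : u ∈ Submodule.span F {u, e} := Submodule.subset_span (by simp)
  have me : e ∈ Submodule.span F {u, e} := Submodule.subset_span (by simp)
  have h1 : TS2 Q (a • u + b • e) (d • u + d' • e) := TS2.of_ts hS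
    (Submodule.add_mem _ (Submodule.smul_mem _ _ mu) (Submodule.smul_mem _ _ me))
    (Submodule.add_mem _ (Submodule.smul_mem _ _ mu) (Submodule.smul_mem _ _ me))
  refine Subtype.ext (OG.ext fun x => ?_)
  rw [coe_sg, coe_sg, h1.apply, (h.smul_right _).apply, ← CharTwo.sub_eq_add (a * d')]
  simp only [polar_add_right, polar_smul_right']
  module

/-- `sg (g u) (g e) = sg u e` -/
theorem comm_root (hQ : ND Q) (h : TI Q ![u, e]) (hg : Commute g (sg Q u e)) :
    ∃ a b d d' : F, a * d' + b * d = 1 ∧ g.1.1 u = a • u + b • e ∧ g.1.1 e = d • u + d' • e := by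
  obtain ⟨h1, h0, h2⟩ := ti2_iff.1 h
  have o := ok_of h1
  have e1 : sg Q u e = sg Q (g.1.1 u) (g.1.1 e) := by
    rw [← conj_sg, hg.eq, mul_inv_cancel_right]
  have n1 : sg Q u e ≠ 1 := fun e => by
    obtain ⟨a, ha⟩ := (sg_eq_one hQ o h0).1 e
    exact h2 a ha
  have e2 := span_of_sg_eq hQ o (o.map g) n1 e1
  have mu : g.1.1 u ∈ Submodule.span F {u, e} := e2 ▸ Submodule.subset_span (by simp)
  have me : g.1.1 e ∈ Submodule.span F {u, e} := e2 ▸ Submodule.subset_span (by simp)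
  obtain ⟨a, b, hab⟩ := Submodule.mem_span_pair.1 mu
  obtain ⟨d, d', hd⟩ := Submodule.mem_span_pair.1 me
  refine ⟨a, b, d, d', ?_, hab.symm, hd.symm⟩
  rw [← hab, ← hd, sg_comb' h1] at e1
  obtain ⟨c, hc⟩ := (sg_inj hQ o (o.smul _) h0).1 e1
  by_contra hne
  have h3 : 1 - (a * d' + b * d) ≠ 0 := fun e => hne (sub_eq_zero.1 e).symm
  refine h2 ((1 - (a * d' + b * d))⁻¹ * c) ?_
  have h4 : (1 - (a * d' + b * d)) • e = c • u := by
    rw [sub_smul, one_smul, sub_eq_iff_eq_add']; exact hc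
  rw [mul_smul, ← h4, smul_smul, inv_mul_cancel₀ h3, one_smul]

theorem sg_comb (h : TS2 Q u e) (a b d d' : F) :
    sg Q (a • u + b • e) (d • u + d' • e) = sg Q u ((a * d' + b * d) • e) := sg_comb' h a b d d'

theorem comm_root_smul (hQ : ND Q) (h : TI Q ![u, e]) (hg : Commute g (sg Q u e)) (c : F) :
    Commute g (sg Q u (c • e)) := by
  obtain ⟨a, b, d, d', h1, h2, h3⟩ := comm_root hQ h hg
  have h4 : g * sg Q u (c • e) * g⁻¹ = sg Q u (c • e) := by
    rw [conj_sg, map_smul, h2, h3, smul_add, smul_smul, smul_smul, sg_comb (ti2_iff.1 h).1,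
      show a * (c * d') + b * (c * d) = c * (a * d' + b * d) by ring, h1, mul_one]
  exact mul_inv_eq_iff_eq_mul.1 h4

theorem cent_root (hQ : ND Q) (h : TI Q ![u, e]) (ha : a ≠ 0) :
    𝐳[sg Q u (a • e)] = 𝐳[sg Q u e] := by
  obtain ⟨h1, h0, h2⟩ := ti2_iff.1 h
  have h' : TI Q ![u, a • e] := ti2_iff.2 ⟨h1.smul_right a, h0, fun c hc => h2 (a⁻¹ * c) (by
    rw [mul_smul, ← hc, smul_smul, inv_mul_cancel₀ ha, one_smul])⟩
  ext g
  rw [Subgroup.mem_centralizer_singleton_iff, Subgroup.mem_centralizer_singleton_iff]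
  constructor
  · intro hg
    have := comm_root_smul hQ h' hg a⁻¹
    rwa [smul_smul, inv_mul_cancel₀ ha, one_smul] at this
  · intro hg
    exact comm_root_smul hQ h hg a

/-- If `𝐟 y s ≠ 0` take `x ⊥ s`, `x ∈ U^⊥ \ (U + ⟨s⟩)`.  `sg s x` moves `y` by
`(..) s + 𝐟 y s • x`. -/
theorem perp_of_fix (hQ : ND Q) (hs : Q s = 0) (hx : 𝐟 s x = 0)
    (hx' : x ∉ U ⊔ Submodule.span F {s}) (hs' : s ∉ U) (h : (sg Q s x).1.1 y + y ∈ U) :
    𝐟 y s = 0 ∧ 𝐟 y x = 0 := by
  have e1 : (sg Q s x).1.1 y + y = (𝐟 y x + Q x * 𝐟 y s) • s + 𝐟 y s • x := by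
    rw [sg_apply ⟨hs, hx⟩, add_assoc y, add_comm, ← add_assoc, add_self' F, zero_add]
  rw [e1] at h
  have h1 : 𝐟 y s = 0 := by
    by_contra h0
    refine hx' ?_
    have m1 : s ∈ U ⊔ Submodule.span F {s} :=
      Submodule.mem_sup_right (Submodule.mem_span_singleton_self s)
    have m2 := Submodule.sub_mem _ (Submodule.mem_sup_left (T := Submodule.span F {s}) h)
      (Submodule.smul_mem _ (𝐟 y x + Q x * 𝐟 y s) m1)
    rw [add_sub_cancel_left] at m2
    exact (Submodule.smul_mem_iff _ h0).1 m2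
  refine ⟨h1, ?_⟩
  rw [h1, mul_zero, add_zero, zero_smul, add_zero] at h
  by_contra h0
  exact hs' ((Submodule.smul_mem_iff _ h0).1 h)

/-- (FIX) `u` singular, `W ∋ u` a subspace of `u^⊥` with `W^⊥` of dimension at least `4` and `y ⊥ u`
fixed modulo `u` by all `sg s x`, `s, x ∈ W^⊥`; if `W^⊥` is spanned by its singular vectors then
`y ∈ W`.  Proof: for singular `s ∈ W^⊥ \ ⟨u⟩` choose `x ∈ W^⊥ ⊓ s^⊥` outside `⟨u, s⟩`
(dimension `≥ 3`), `perp_of_fix`; so `y ⊥ W^⊥`, `perp_perp`. -/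
theorem mem_of_fix (hQ : ND Q) {W : Submodule F V} (hu : Q u = 0) (hy : 𝐟 u y = 0)
    (h5 : 4 ≤ finrank F (perp Q W))
    (hsp : perp Q W ≤ Submodule.span F {s | s ∈ perp Q W ∧ Q s = 0})
    (h : ∀ s ∈ perp Q W, ∀ x ∈ perp Q W, Ok Q s x → ∃ a : F, (sg Q s x).1.1 y = y + a • u) :
    y ∈ W := by
  rw [← hQ.perp_perp W]
  refine perp_anti hsp ?_
  intro s hs
  induction hs using Submodule.span_induction with
  | zero => exact polar_zero_left Q y
  | add a b _ _ ha hb => rw [polar_add_left, ha, hb, add_zero]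
  | smul c a _ ha => rw [polar_smul_left', ha, mul_zero]
  | mem s hs =>
    obtain ⟨hs, hq⟩ := hs
    by_cases hu' : s ∈ Submodule.span F {u}
    · obtain ⟨c, rfl⟩ := Submodule.mem_span_singleton.1 hu'
      rw [polar_smul_left', hy, mul_zero]
    have d1 := Submodule.finrank_sup_add_finrank_inf_eq (perp Q W) (perp Q (Submodule.span F {s}))
    have d2 := hQ.finrank_perp (Submodule.span F {s})
    have d3 : finrank F (Submodule.span F ({s} : Set V)) ≤ 1 := by
      simpa using finrank_span_le_card (R := F) ({s} : Set V)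
    have d4 : finrank F (Submodule.span F ({u} : Set V)) ≤ 1 := by
      simpa using finrank_span_le_card (R := F) ({u} : Set V)
    have d5 := Submodule.finrank_le (perp Q W ⊔ perp Q (Submodule.span F {s}))
    have d6 := Submodule.finrank_add_le_finrank_add_finrank (Submodule.span F ({u} : Set V))
      (Submodule.span F ({s} : Set V))
    have hx : ¬ perp Q W ⊓ perp Q (Submodule.span F {s}) ≤
        Submodule.span F {u} ⊔ Submodule.span F {s} := fun hle => by
      have := Submodule.finrank_mono hle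
      omega
    obtain ⟨x, ⟨hx1, hx2⟩, hx3⟩ := SetLike.not_le_iff_exists.1 hx
    have hx4 : 𝐟 s x = 0 := mem_perp_span_singleton.1 hx2
    obtain ⟨a, ha⟩ := h s hs x hx1 ⟨hq, hx4⟩
    rw [polar_comm]
    refine (perp_of_fix hQ hq hx4 hx3 hu' ?_).1
    rw [ha, add_comm, ← add_assoc, add_self' F, zero_add]
    exact Submodule.smul_mem _ _ (Submodule.mem_span_singleton_self u)

/-- (T1) An isometry fixing `u` and acting trivially on `u^⊥ / u` is a Siegel element: take a
partner `f` of `u`, `eichler_map` sends `k f` to `f`; the quotient fixes `u`, `f` and `perp2`. -/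
theorem eq_eichler (hQ : ND Q) {k : OG Q} (hu : Q u = 0) (h0 : u ≠ 0) (h1 : k.1 u = u)
    (h2 : ∀ y, 𝐟 u y = 0 → ∃ a : F, k.1 y = y + a • u) : ∃ w, Ok Q u w ∧ k = eichler Q u w := by
  obtain ⟨f, o⟩ := hQ.exists_isHyp h0 hu
  have e1 : 𝐟 u (k.1 f) = 1 := by
    conv_lhs => rw [← h1]
    rw [OG.map_polar, o.pol]
  have e2 : 𝐟 u (f - k.1 f) = 0 := by rw [polar_sub_right, o.pol, e1, sub_self]
  refine ⟨f - k.1 f, ⟨hu, e2⟩, OG.ext fun x => ?_⟩
  have e3 := eichler_map (x := f) (y := k.1 f) hu (by rw [o.pol', polar_comm, e1])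
    (by rw [o.pol']; exact one_ne_zero) (by rw [OG.map_Q])
  rw [o.pol', inv_one, one_smul] at e3
  have e4 : ∀ y, 𝐟 u y = 0 → k.1 y = (eichler Q u (f - k.1 f)).1 y := fun y hy => by
    obtain ⟨a, ha⟩ := h2 y hy
    have e5 := OG.map_polar k y f
    rw [ha, polar_add_left, polar_smul_left', e1, mul_one] at e5
    rw [eichler_apply_of_perp hu e2 (by rw [polar_comm, hy]), ha, polar_sub_right, ← e5,
      add_sub_cancel_left]
  have e6 : x = 𝐟 u x • f + (x - 𝐟 u x • f) := by abel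
  have e7 := e4 (x - 𝐟 u x • f)
    (by rw [polar_sub_right, polar_smul_right', o.pol, mul_one, sub_self])
  rw [e6, map_add, map_add, map_smul, map_smul, e3, e7]

/-- (T0) an isometry fixing `u^⊥` pointwise (`u` singular) is trivial -/
theorem eq_one_of_fix (hQ : ND Q) {k : OG Q} (hu : Q u = 0) (h0 : u ≠ 0)
    (h2 : ∀ y, 𝐟 u y = 0 → k.1 y = y) : k = 1 := by
  obtain ⟨w, o, rfl⟩ := eq_eichler hQ hu h0 (h2 u (polar_self_of_Q_eq_zero hu))
    fun y hy => ⟨0, by rw [h2 y hy, zero_smul, add_zero]⟩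
  have hw : w ∈ Submodule.span F {u} := by
    rw [← hQ.perp_perp (Submodule.span F {u})]
    intro y hy
    have hy' := mem_perp_span_singleton.1 hy
    have e1 := h2 y hy'
    rw [eichler_apply_of_perp hu o.p (by rw [polar_comm, hy']), add_eq_left] at e1
    exact (smul_eq_zero.1 e1).resolve_right h0
  obtain ⟨c, rfl⟩ := Submodule.mem_span_singleton.1 hw
  exact eichler_self_smul hu c

/-- (T1') it is enough to act trivially on `⟨u, e⟩^⊥ / u`: for `y ⊥ u`, `k y + y ⊥ ⟨u,e⟩^⊥` gives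
`k y = y + a u + b e`, and `Q (k y) = Q y` gives `b 𝐟 y e = 0`. -/
theorem eq_eichler' (hQ : ND Q) {k : OG Q} (hu : TI Q ![u, e]) (h1 : k.1 u = u)
    (h2 : ∀ y, 𝐟 u y = 0 → 𝐟 e y = 0 → ∃ a : F, k.1 y = y + a • u) :
    ∃ w, Ok Q u w ∧ k = eichler Q u w := by
  obtain ⟨o, h0, -⟩ := ti2_iff.1 hu
  refine eq_eichler hQ o.l h0 h1 fun y hy => ?_
  by_cases hy' : 𝐟 e y = 0
  · exact h2 y hy hy'
  have e0 : 𝐟 u (k.1 y) = 0 := by
    conv_lhs => rw [← h1]
    rw [OG.map_polar, hy]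
  have hm : k.1 y - y ∈ Submodule.span F {u, e} := by
    rw [← hQ.perp_perp (Submodule.span F {u, e})]
    intro z hz
    obtain ⟨z1, z2⟩ := mem_perp2''.1 hz
    obtain ⟨a, ha⟩ := h2 z z1 z2
    have e1 := OG.map_polar k z y
    rw [ha, polar_add_left, polar_smul_left', e0, mul_zero, add_zero] at e1
    rw [polar_sub_right, e1, sub_self]
  obtain ⟨a, b, hab⟩ := Submodule.mem_span_pair.1 hm
  have e2 : k.1 y = y + (a • u + b • e) := by rw [hab]; abel
  have e3 := OG.map_Q k y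
  rw [e2, Q_add, Q_add, Q_smul, Q_smul, o.l, o.r, polar_smul_left', polar_smul_right', o.p,
    polar_add_right, polar_smul_right', polar_smul_right', polar_comm Q y u, hy,
    polar_comm Q y e] at e3
  have e4 : b = 0 := by
    have : b * 𝐟 e y = 0 := by linear_combination e3
    exact (mul_eq_zero.1 this).resolve_right hy'
  exact ⟨a, by rw [e2, e4, zero_smul, add_zero]⟩

/-- (LAM2) `Fix(ℓ^⊥) = Z`: by `eq_eichler'`, `k = sg u w` and `w ⊥ ℓ^⊥`. -/
theorem lam2 (hQ : ND Q) (hu : TI Q ![u, e]) {k : OG Q}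
    (h : ∀ y, 𝐟 u y = 0 → 𝐟 e y = 0 → k.1 y = y) : ∃ a : F, k = eichler Q u (a • e) := by
  obtain ⟨o, h0, -⟩ := ti2_iff.1 hu
  obtain ⟨w, ow, rfl⟩ := eq_eichler' hQ hu (h u (polar_self_of_Q_eq_zero o.l) o.p')
    fun y h1 h2 => ⟨0, by rw [h y h1 h2, zero_smul, add_zero]⟩
  have hw : w ∈ Submodule.span F {u, e} := by
    rw [← hQ.perp_perp (Submodule.span F {u, e})]
    intro y hy
    obtain ⟨y1, y2⟩ := mem_perp2''.1 hy
    have e1 := h y y1 y2
    rw [eichler_apply_of_perp o.l ow.p (by rw [polar_comm, y1]), add_eq_left] at e1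
    exact (smul_eq_zero.1 e1).resolve_right h0
  obtain ⟨a, b, rfl⟩ := Submodule.mem_span_pair.1 hw
  exact ⟨b, by rw [add_comm, eichler_add_smul o.l (o.smul_right b).p]⟩

/-- (LAM3) `Fix(π^⊥) = Λ²π`: `k x + x ∈ π` for all `x`. Take `y` dual to `u` (`TI.exists_dual`),
`k y = y + a v + b w` (the `u` coefficient vanishes as `y` is singular), and
`eichler u (a v + b w) * k` fixes `⟨v, w⟩^⊥ = π^⊥ + ⟨y⟩`; `lam2`. -/
theorem lam3 (hQ : ND Q) (hu : TI Q ![u, v, w]) {k : OG Q}
    (h : ∀ y, 𝐟 u y = 0 → 𝐟 v y = 0 → 𝐟 w y = 0 → k.1 y = y) :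
    ∃ a b d : F, k = eichler Q u (a • v + b • w) * eichler Q v (d • w) := by
  obtain ⟨o1, o2, o3, li⟩ := ti3_iff.1 hu
  obtain ⟨y, hq, hy⟩ := hu.exists_dual hQ ![1, 0, 0] (j := 0) one_ne_zero
  have y1 : 𝐟 u y = 1 := hy 0
  have y2 : 𝐟 v y = 0 := hy 1
  have y3 : 𝐟 w y = 0 := hy 2
  have hm : k.1 y - y ∈ Submodule.span F {u, v, w} := by
    rw [← hQ.perp_perp (Submodule.span F {u, v, w})]
    intro z hz
    obtain ⟨z1, z2, z3⟩ := mem_perp3.1 hz
    have e1 := OG.map_polar k z y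
    rw [h z z1 z2 z3] at e1
    rw [polar_sub_right, e1, sub_self]
  obtain ⟨c, a, b, hab⟩ := Submodule.mem_span_triple.1 hm
  have oa : TS2 Q u (a • v + b • w) := ⟨o1.l, by
    rw [Q_add, Q_smul, Q_smul, o1.r, o2.r, polar_smul_left', polar_smul_right', o3]; ring, by
    rw [polar_add_right, polar_smul_right', polar_smul_right', o1.p, o2.p]; ring⟩
  have ya : 𝐟 y (a • v + b • w) = 0 := by
    rw [polar_add_right, polar_smul_right', polar_smul_right', polar_comm Q y v, polar_comm Q y w,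
      y2, y3]; ring
  have e2 : k.1 y = y + (c • u + (a • v + b • w)) := by rw [← add_assoc (c • u), hab]; abel
  have e3 := OG.map_Q k y
  rw [e2, Q_add, Q_add (c • u), Q_smul, o1.l, oa.r, polar_smul_left', oa.p, polar_add_right,
    polar_smul_right', ya, polar_comm Q y u, y1] at e3
  have e4 : c = 0 := by linear_combination e3
  have e5 : (eichler Q u (a • v + b • w)).1 y = k.1 y := by
    rw [oa.apply, e2, e4, ya, polar_comm Q y u, y1, zero_smul, one_smul, add_zero,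
      zero_add, sub_eq' F]
  have tv : TI Q ![v, w] := ti2_iff.2 ⟨⟨o1.r, o2.r, o3⟩, fun e => one_ne_zero
    (li 0 1 0 (by rw [e]; simp)).2.1, fun c e => one_ne_zero
    (li 0 (-c) 1 (by rw [e]; simp)).2.2⟩
  obtain ⟨d, hd⟩ := lam2 hQ tv (k := (eichler Q u (a • v + b • w))⁻¹ * k) fun x x2 x3 => by
    rw [OG.mul_apply, OG.inv_apply_eq_iff]
    have e6 : x = 𝐟 u x • y + (x - 𝐟 u x • y) := by abel
    have z1 : 𝐟 u (x - 𝐟 u x • y) = 0 := by
      rw [polar_sub_right, polar_smul_right', y1, mul_one, sub_self]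
    have z2 : 𝐟 v (x - 𝐟 u x • y) = 0 := by
      rw [polar_sub_right, polar_smul_right', y2, x2, mul_zero, sub_self]
    have z3 : 𝐟 w (x - 𝐟 u x • y) = 0 := by
      rw [polar_sub_right, polar_smul_right', y3, x3, mul_zero, sub_self]
    generalize x - 𝐟 u x • y = z at e6 z1 z2 z3
    rw [e6, map_add, map_add, map_smul, map_smul, e5, h z z1 z2 z3,
      eichler_apply_of_perp_perp (by rw [polar_comm, z1]) (by
        rw [polar_add_right, polar_smul_right', polar_smul_right', polar_comm Q z v,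
          polar_comm Q z w, z2, z3]; ring)]
  exact ⟨a, b, d, by rw [← hd, mul_inv_cancel_left]⟩

/-- uniqueness of the coordinates in `Λ²π` (apply to vectors dual to `u`, `v`) -/
theorem lam3_inj (hQ : ND Q) (hu : TI Q ![u, v, w]) {a b d : F}
    (h : sg Q u (a • v + b • w) * sg Q v (d • w) = 1) : a = 0 ∧ b = 0 ∧ d = 0 := by
  obtain ⟨o1, o2, o3, li⟩ := ti3_iff.1 hu
  obtain ⟨y, hy⟩ := exists_dual hQ hu.li ![1, 0, 0]
  have y1 : 𝐟 y u = 1 := (polar_comm Q y u).trans (hy 0)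
  have y2 : 𝐟 y v = 0 := (polar_comm Q y v).trans (hy 1)
  have y3 : 𝐟 y w = 0 := (polar_comm Q y w).trans (hy 2)
  have oa : TS2 Q u (a • v + b • w) := ⟨o1.l, by
    rw [Q_add, Q_smul, Q_smul, o1.r, o2.r, polar_smul_left', polar_smul_right', o3]; ring, by
    rw [polar_add_right, polar_smul_right', polar_smul_right', o1.p, o2.p]; ring⟩
  have e1 : (eichler Q u (a • v + b • w)).1 ((eichler Q v (d • w)).1 y) = y :=
    congrArg (fun g : EG Q => g.1.1 y) h
  rw [eichler_apply_of_perp_perp y2 (by rw [polar_smul_right', y3, mul_zero]), oa.apply,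
    polar_add_right, polar_smul_right', polar_smul_right', y1, y2, y3, mul_zero, mul_zero, add_zero,
    zero_smul, add_zero, one_smul, sub_eq_self] at e1
  obtain ⟨-, ha, hb⟩ := li 0 a b (by rw [zero_smul, zero_add, e1])
  refine ⟨ha, hb, ?_⟩
  rw [e1, sg_zero, one_mul] at h
  have v0 : v ≠ 0 := fun e => one_ne_zero (li 0 1 0 (by rw [e]; simp)).2.1
  obtain ⟨c, hc⟩ := (sg_eq_one hQ ⟨o1.r, by rw [polar_smul_right', o3, mul_zero]⟩ v0).1 h
  exact (li 0 (-c) d (by rw [hc]; simp)).2.2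

/-- a subgroup acting trivially on the factors of a chain is a `2`-group (`chainUnip_isPGroup`) -/
theorem isPGroup_of_chain {H : Subgroup (EG Q)} (C : ℕ → Submodule F V) (N : ℕ) (h0 : C 0 = ⊥)
    (hN : C N = ⊤) (hm : ∀ i, C i ≤ C (i + 1))
    (h : ∀ g ∈ H, ∀ i, ∀ x ∈ C (i + 1), g.1.1 x + x ∈ C i) : IsPGroup 2 H := by
  have : Fact (Nat.Prime 2) := ⟨Nat.prime_two⟩
  refine (chainUnip_isPGroup ((OG Q).subtype.comp (EG Q).subtype) (p := 2)
    (Subtype.val_injective.comp Subtype.val_injective) (h0 := h0) (hm := hm) hN).to_le ?_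
  intro g hg i x hx
  rw [sub_eq' F]
  exact h g hg i x hx

/-- duality: trivial on `W / U` implies trivial on `U^⊥ / W^⊥` -/
theorem triv_perp (hQ : ND Q) {W : Submodule F V} (hUW : U ≤ W) {k : OG Q}
    (h : ∀ x ∈ W, k.1 x + x ∈ U) : ∀ x ∈ perp Q U, k.1 x + x ∈ perp Q W := by
  have h1 : W.map (k.1 : V →ₗ[F] V) = W := by
    refine Submodule.eq_of_le_of_finrank_eq ?_ (LinearEquiv.finrank_map_eq k.1 W)
    rintro _ ⟨x, hx, rfl⟩
    have := W.sub_mem (hUW (h x hx)) hx
    rwa [add_sub_cancel_right] at this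
  intro x hx w hw
  rw [← h1] at hw
  obtain ⟨w, hw, rfl⟩ := hw
  have e1 := hx _ (h w hw)
  rw [polar_add_left] at e1
  rw [polar_add_right, LinearEquiv.coe_coe, OG.map_polar, add_comm, e1]

end Cfsg.Agent.StdO
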