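import Cfsg.Agent.StdO.DpA

/-! `q = 2`: the full centralizer of `z` centralizes the doubled root group. -/

set_option autoImplicit false
set_option linter.unusedSectionVars false
set_option linter.unusedVariables false

namespace Cfsg.Agent.StdO

open Subgroup Module QuadraticMap Cfsg.Agent.Class.Orth Cfsg.Agent.KSG Cfsg.Agent.PLocal.Amb
  Cfsg.Agent.Lyons
open Cfsg.Agent.StdL (cjh)
open scoped commutatorElement

variable {F V : Type*} [Field F] [Finite F] [CharP F 2] [AddCommGroup V] [Module F V]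
  [FiniteDimensional F V] {Q : QuadraticForm F V} {G : Type*} [Group G] [Finite G]
  {ι : EG Q →* G} {t : G}

local notation "𝐟" => polar Q

variable {u e v w : V} {d : V → V → G}

theorem dp_two (hq : Nat.card F = 2) (a : F) : a = 0 ∨ a = 1 := by
  obtain ⟨y, -, hy⟩ := (Nat.card_eq_two_iff' (0 : F)).1 hq
  exact or_iff_not_imp_left.2 fun h => (hy a h).trans (hy 1 one_ne_zero).symm

theorem dp_12 (hu : TI Q ![u, v, w]) : TI Q ![u, v] := by
  obtain ⟨o1, -, -, li⟩ := ti3_iff.1 hu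
  exact ti2_iff.2 ⟨o1, fun e => one_ne_zero (li 1 0 0 (by simp [e])).1,
    fun a e => one_ne_zero (li a 1 0 (by rw [e, one_smul, add_self' F, zero_smul, add_zero])).2.1⟩

theorem dp_s1 (hu : TI Q ![u, v, w]) : TI Q ![v, u, w] := by
  obtain ⟨o1, o2, o3, li⟩ := ti3_iff.1 hu
  exact ti3_iff.2 ⟨o1.symm, ⟨o1.r, o2.r, o3⟩, o2.p, fun a b c e =>
    let ⟨x, y, z⟩ := li b a c (by rw [← e]; module); ⟨y, x, z⟩⟩

theorem dp_s2 (hu : TI Q ![u, v, w]) : TI Q ![u, w, v] := by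
  obtain ⟨o1, o2, o3, li⟩ := ti3_iff.1 hu
  exact ti3_iff.2 ⟨o2, o1, (polar_comm Q _ _).trans o3, fun a b c e =>
    let ⟨x, y, z⟩ := li a c b (by rw [← e]; module); ⟨x, z, y⟩⟩

theorem dp_add (hu : TI Q ![u, v, w]) : TI Q ![u, v, v + w] := by
  obtain ⟨o1, o2, o3, li⟩ := ti3_iff.1 hu
  refine ti3_iff.2 ⟨o1, ⟨o1.l, by rw [Q_add, o1.r, o2.r, o3, add_zero, add_zero],
    by rw [polar_add_right, o1.p, o2.p, add_zero]⟩, by rw [polar_add_right, f_self, o3, add_zero],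
    fun a b c e => ?_⟩
  obtain ⟨x, y, rfl⟩ := li a (b + c) c (by rw [← e]; module)
  exact ⟨x, by simpa using y, rfl⟩

theorem dp_sw (hu : TI Q ![u, v]) : TI Q ![v, u] := by
  obtain ⟨o, h0, h1⟩ := ti2_iff.1 hu
  refine ti2_iff.2 ⟨o.symm, fun e => h1 0 (by rw [e, zero_smul]), fun a e => ?_⟩
  have : a ≠ 0 := by rintro rfl; exact h0 (by rw [e, zero_smul])
  exact h1 a⁻¹ (by rw [e, inv_smul_smul₀ this])

theorem dp_au (hu : TI Q ![u, v]) : TI Q ![u, v + u] := by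
  obtain ⟨o, h0, h1⟩ := ti2_iff.1 hu
  refine ti2_iff.2 ⟨⟨o.l, by rw [Q_add, o.l, o.r, o.p', add_zero, add_zero],
    by rw [polar_add_right, o.p, f_self, add_zero]⟩, h0, fun a e => h1 (a - 1) ?_⟩
  rw [sub_smul, ← e, one_smul, add_sub_cancel_right]

theorem dp_sg (hu : TI Q ![u, v]) : sg Q u (v + u) = sg Q u v := by
  simpa using sg_add_smul (ok_of (ti2_iff.1 hu).1) 1

/-- the two elements over the line `⟨u, v⟩` -/
def Dd (ι : EG Q →* G) (d : V → V → G) (x : G) (u v : V) : Prop := x = d u v ∨ x = d u v * ι (sg Q u v)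

theorem Pr.dz (h : Pr ι t d) (hu : TI Q ![u, v]) : Commute (ι (sg Q u v)) (d u v) :=
  h.fix hu (sg_fix (f_self u) (ti2_iff.1 hu).1.p) (sg_fix (ti2_iff.1 hu).1.p' (f_self v))

theorem Pr.dd_sq (h : Pr ι t d) (hu : TI Q ![u, v]) {x : G} (hx : Dd ι d x u v) : x * x = 1 := by
  rcases hx with rfl | rfl
  · exact h.sq u v hu
  · rw [(h.dz hu).mul_mul_mul_comm, h.sq u v hu, ← map_mul, sg_sq, map_one, mul_one]

theorem Pr.dd_tr (h : Pr ι t d) (hu : TI Q ![u, v]) {x : G} (hx : Dd ι d x u v) :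
    x * t * x⁻¹ = t * ι (sg Q u v) := by
  rcases hx with rfl | rfl
  · exact h.tr u v hu
  · rw [show ∀ a b : G, a * b * t * (a * b)⁻¹ = a * (b * t * b⁻¹) * a⁻¹ from fun a b => by group,
      conj_eq_of_comm (h.tc _), h.tr u v hu]

theorem Pr.dd_fix (h : Pr ι t d) (hu : TI Q ![u, v]) {x : G} (hx : Dd ι d x u v) {g : EG Q}
    (h1 : g.1.1 u = u) (h2 : g.1.1 v = v) : Commute (ι g) x := by
  rcases hx with rfl | rfl
  · exact h.fix hu h1 h2
  · exact (h.fix hu h1 h2).mul_right ((comm_sg h1 h2).map ι)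

theorem Pr.dd_com (h : Pr ι t d) (hu : TI Q ![u, v, w]) {x y : G} (hx : Dd ι d x u v) (hy : Dd ι d y u w) :
    Commute x y := by
  obtain ⟨o1, o2, o3, -⟩ := ti3_iff.1 hu
  have c : Commute (d u v) y := by
    rcases hy with rfl | rfl
    · exact h.com hu
    · exact (h.com hu).mul_right (h.fix (dp_12 hu) (sg_fix (f_self u) o2.p) (sg_fix o1.p' o3)).symm
  rcases hx with rfl | rfl
  · exact c
  · exact c.mul_left (h.dd_fix (dp_12 (dp_s2 hu)) hy (sg_fix (f_self u) o1.p)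
      (sg_fix o2.p' ((polar_comm Q _ _).trans o3)))

theorem Pr.dd_cj (h : Pr ι t d) (hu : TI Q ![u, v]) {x : G} (hx : Dd ι d x u v) (g : EG Q) :
    Dd ι d (ι g * x * (ι g)⁻¹) (g.1.1 u) (g.1.1 v) := by
  rcases hx with rfl | rfl
  · exact .inl (h.eqv g u v hu)
  · exact .inr (by rw [← conj_mul, h.eqv g u v hu, ← map_inv, ← map_mul, ← map_mul, conj_sg])

theorem Pr.dd_sw (h : Pr ι t d) (hu : TI Q ![u, v]) {x : G} (hx : Dd ι d x u v) : Dd ι d x v u := by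
  have s := sg_swap (ti2_iff.1 hu).1
  rcases h.alt v u u v (dp_sw hu) hu s.symm with e | e <;> rcases hx with rfl | rfl
  · exact .inl e
  · exact .inr (by rw [e, s])
  · exact .inr e
  · exact .inl (by rw [e, s, mul_assoc, ← map_mul, sg_sq, map_one, mul_one])

/-- If `d u v * d u w * d u (v+w)`-like product `x` of commuting involutions `d` on lines of the plane
`π` centralizes `t`, then `x ∈ ι Λ²π`: `ru3`, `tw_K`, and `x` commutes with one factor `d`, which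
does not commute with `t`. -/
theorem Pr.mem (h : Pr ι t d) (hu : TI Q ![u, v, w]) {x y : G} (h1 : x ∈ 𝐳[t]) (h2 : x * x = 1)
    (h3 : ∀ g ∈ Fx Q (Submodule.span F {u, v, w}), Commute x (ι g) ∧ Commute y (ι g))
    (h4 : Commute y x) (h5 : ¬ Commute y t) :
    ∃ a b r : F, x = ι (sg Q u (a • v + b • w) * sg Q v (r • w)) := by
  obtain ⟨a, b, r, e⟩ := h.ru3 (h.q2 h.two) hu (h.nrm h1) fun g hg => (h3 g hg).1
  obtain ⟨o1, o2, o3, -⟩ := ti3_iff.1 hu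
  have o4 : 𝐟 w v = 0 := (polar_comm Q _ _).trans o3
  have mu := mem_perp3.2 ⟨f_self u, o1.p', o2.p'⟩
  have mv := mem_perp3.2 ⟨o1.p, f_self v, o4⟩
  have mw := mem_perp3.2 ⟨o2.p, o3, f_self w⟩
  have m1 := sg_mem_Fx mu (add_mem (Submodule.smul_mem _ a mv) (Submodule.smul_mem _ b mw))
  have m := mul_mem m1 (sg_mem_Fx mv (Submodule.smul_mem _ r mw))
  have c : Commute (sg Q u (a • v + b • w)) (sg Q v (r • w)) :=
    comm_sg (mem_Fx3.1 m1).2.1 (by rw [map_smul, (mem_Fx3.1 m1).2.2])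
  rcases h.inv (mul_mem h1 (inv_mem (h.tL ⟨_, rfl⟩))) e (by
    rw [(h3 _ m).1.inv_right.symm.mul_mul_mul_comm, h2, ← mul_inv_rev, ← map_mul, c.symm.mul_mul_mul_comm, sg_sq,
      sg_sq, mul_one, map_one, inv_one, mul_one]) with e | e
  · exact ⟨a, b, r, mul_inv_eq_one.1 e⟩
  · exact absurd (e ▸ h4.mul_right (h3 _ m).2.inv_right) h5

theorem Pr.step (h : Pr ι t d) {s p q g : V} (hu : TI Q ![s, p, q]) (g1 : 𝐟 s g = 0) (g2 : 𝐟 p g = 0)
    (g3 : 𝐟 q g = 1) {x : G} (hx : Dd ι d x p q) : ∃ y, 𝐟 s y = 0 ∧ 𝐟 p y = 0 ∧ 𝐟 q y = 0 ∧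
      ι (sg Q s g) * x * (ι (sg Q s g))⁻¹ = x * d s p * ι (sg Q s y) := by
  obtain ⟨o1, o2, o3, li⟩ := ti3_iff.1 hu
  have t1 := dp_s2 (dp_s1 hu)
  have t2 := dp_add t1
  have t3 : TI Q ![p, s, q + s] := add_comm s q ▸ dp_add (dp_s1 hu)
  have e1 : (sg Q s g).1.1 s = s := sg_fix (f_self s) g1
  have e2 : (sg Q s g).1.1 p = p := sg_fix o1.p' g2
  have e3 : (sg Q s g).1.1 q = q + s := by rw [sg_apply_perp ⟨o1.l, g1⟩ o2.p', g3, one_smul]
  have hx' := h.dd_cj (dp_12 t1) hx (sg Q s g)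
  rw [e2, e3] at hx'
  have hA : Dd ι d (d s p) p s := h.dd_sw (dp_12 hu) (.inl rfl)
  have cA := h.fix (dp_12 hu) e1 e2
  have TT : ι (sg Q s g) * ι (sg Q s g) = 1 := by rw [← map_mul, sg_sq, map_one]
  have bk : ι (sg Q s g) * (ι (sg Q s g) * x * (ι (sg Q s g))⁻¹) * (ι (sg Q s g))⁻¹ = x := by
    rw [show ∀ a x : G, a * (a * x * a⁻¹) * a⁻¹ = a * a * x * (a * a)⁻¹ from fun a x => by group, TT]; group
  generalize ex : ι (sg Q s g) * x * (ι (sg Q s g))⁻¹ = x' at hx' bk ⊢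
  generalize d s p = A at hA cA ⊢
  have c1 := h.dd_com t1 hx hA
  have c2 := h.dd_com t2 hx hx'
  have c3 := h.dd_com t3 hA hx'
  have s1 := h.dd_sq (dp_12 t1) hx
  have s2 := h.dd_sq (dp_12 t3) hA
  have s3 := h.dd_sq (dp_12 (dp_s2 t2)) hx'
  have fx : ∀ k ∈ Fx Q (Submodule.span F {s, p, q}),
      Commute (ι k) x ∧ Commute (ι k) A ∧ Commute (ι k) x' := fun k hk => by
    obtain ⟨k1, k2, k3⟩ := mem_Fx3.1 hk
    exact ⟨h.dd_fix (dp_12 t1) hx k2 k3, h.dd_fix (dp_12 t3) hA k2 k1,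
      h.dd_fix (dp_12 (dp_s2 t2)) hx' k2 (by rw [map_add, k3, k1])⟩
  have m1 : sg Q p q ∈ Fx Q (Submodule.span F {s, p, q}) := sg_mem_Fx (mem_perp3.2 ⟨o1.p, f_self p, o3 ▸ polar_comm Q _ _⟩)
    (mem_perp3.2 ⟨o2.p, o3, f_self q⟩)
  have m2 : sg Q p s ∈ Fx Q (Submodule.span F {s, p, q}) := sg_mem_Fx (mem_perp3.2 ⟨o1.p, f_self p, o3 ▸ polar_comm Q _ _⟩)
    (mem_perp3.2 ⟨f_self s, o1.p', o2.p'⟩)
  have tr : A * x * x' * t * (A * x * x')⁻¹ = t := by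
    calc _ = A * (x * (x' * t * x'⁻¹) * x⁻¹) * A⁻¹ := by group
      _ = t := by
        rw [h.dd_tr (dp_12 (dp_s2 t2)) hx', sg_add ⟨o1.r, o3⟩ (ok_of o1.symm), map_mul, ← conj_mul (b := x),
          ← conj_mul (b := x), h.dd_tr (dp_12 t1) hx, conj_eq_of_comm (fx _ m1).1, conj_eq_of_comm (fx _ m2).1, mul_assoc t,
          ← mul_assoc (ι (sg Q p q)), ← map_mul, sg_sq, map_one, one_mul, ← conj_mul, h.dd_tr (dp_12 t3) hA,
          conj_eq_of_comm (fx _ m2).2.1, mul_assoc, ← map_mul, sg_sq, map_one, mul_one]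
  obtain ⟨a, b, r, e⟩ := h.mem hu (x := A * x * x') (y := A) (mem_cent.2 (mul_inv_eq_iff_eq_mul.1 tr).symm)
    (by rw [(c3.mul_left c2).symm.mul_mul_mul_comm, c1.mul_mul_mul_comm, s1, s2, s3, mul_one, mul_one])
    (fun k hk => ⟨(((fx k hk).2.1.mul_right (fx k hk).1).mul_right (fx k hk).2.2).symm, (fx k hk).2.1.symm⟩)
    (((Commute.refl A).mul_right c1.symm).mul_right c3) (fun c => by
      have := h.dd_tr (dp_12 t3) hA
      rw [conj_eq_of_comm c.symm, left_eq_mul, map_eq_one_iff ι h.inj, sg_eq_one h.nd (ok_of o1.symm)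
        (ti2_iff.1 (dp_12 t3)).2.1] at this
      exact this.elim (ti2_iff.1 (dp_12 t3)).2.2)
  have e4 : ι (sg Q s g) * (A * x * x') * (ι (sg Q s g))⁻¹ = A * x * x' := by
    rw [← conj_mul, ← conj_mul, conj_eq_of_comm cA.symm, bk, ex, mul_assoc, ← c2.eq, mul_assoc]
  rw [e, ← map_inv, ← map_mul, ← map_mul, h.inj.eq_iff, ← conj_mul, (sg_comm s g _).eq, mul_inv_cancel_right,
    mul_right_inj, conj_sg, map_smul, e2, e3, sg_inj h.nd ((ok_of (ti3_iff.1 t2).2.1).smul r)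
      (Ok.smul ⟨o1.r, o3⟩ r) (ti2_iff.1 (dp_12 t3)).2.1] at e4
  obtain ⟨c, hc⟩ := e4
  obtain rfl : r = 0 := (li r (-c) 0 (by
    rw [smul_add, add_right_inj] at hc
    rw [hc]; module)).1
  rw [zero_smul, sg_zero, mul_one] at e
  refine ⟨a • p + b • q, ?_, ?_, ?_, ?_⟩
  · rw [polar_add_right, polar_smul_right', polar_smul_right', o1.p, o2.p]; simp
  · rw [polar_add_right, polar_smul_right', polar_smul_right', f_self, o3]; simp
  · rw [polar_add_right, polar_smul_right', polar_smul_right', f_self, polar_comm, o3]; simp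
  · rw [← e, mul_assoc A x, mul_assoc x, ← mul_assoc A, s2, one_mul, ← mul_assoc, s1, one_mul]

/-- Suppose `d u (v + u) = d u v * z` for one, hence all pairs (`trans2`, `eqv`).  Plane
`π = ⟨e₁,e₂,e₃⟩`; all `d` on lines of `π` commute (`com`, `alt`; two lines meet).  `T = sg e₃ g₂`,
`T₁ = sg e₃ g₁` (`g_i` dual to `e_i`) are commuting involutions, `T : e₂ ↦ e₂ + e₃`,
`T₁ : e₁ ↦ e₁ + e₃`.  `x = d e₁ e₂`, `a = d e₃ e₁`, `b = d e₃ e₂`.  `T x T = x a δ`, `T₁ x T₁ = x b δ'`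
with `δ, δ' ∈ ι Λ²π` (`mem`).  `T` fixes `a` and `T² = 1`, so `T` fixes `δ`, i.e.
`δ ∈ ⟨z₁₃, z₂₃⟩` (`lam3_inj`); the same for `δ'`.  `T b T = b z₂₃`, `T₁ a T₁ = a z₁₃`.  Computing
`T T₁ x T₁ T` in two ways gives `z₁₃ = z₂₃`, false. -/
theorem Pr.good0 (h : Pr ι t d) (hu : TI Q ![u, v]) : d u (v + u) = d u v := by
  by_contra n
  have bad : ∀ p q, TI Q ![p, q] → d p (q + p) = d p q * ι (sg Q p q) := fun p q hp => by
    obtain ⟨g, rfl, rfl⟩ := h.trans2 hu hp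
    rw [← map_add, ← h.eqv g _ _ (dp_au hu), (h.alt _ _ _ _ hu (dp_au hu) (dp_sg hu).symm).resolve_left n,
      ← conj_mul, h.eqv g _ _ hu, ← map_inv, ← map_mul, ← map_mul, conj_sg]
  obtain ⟨w, hw⟩ := h.ext3 hu
  obtain ⟨o1, o2, o3, li⟩ := ti3_iff.1 hw
  obtain ⟨g, hg⟩ := exists_dual h.nd hw.li ![0, 0, 1]
  obtain ⟨g', hg'⟩ := exists_dual h.nd hw.li ![0, 1, 0]
  have hv := dp_12 (dp_s2 (dp_s1 hw))
  have hu' := dp_12 (dp_s2 hw)
  obtain ⟨y, y1, y2, y3, e1⟩ := h.step hw (hg 0) (hg 1) (hg 2) (x := d v w) (.inl rfl)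
  obtain ⟨y', z1, z2, z3, e2⟩ := h.step (dp_s2 hw) (hg' 0) (hg' 2) (hg' 1) (h.dd_sw hv (.inl rfl))
  have e3 := h.eqv (sg Q u g) _ _ hu'
  rw [sg_fix (f_self u) (hg 0), sg_apply_perp ⟨o1.l, hg 0⟩ o2.p', show 𝐟 w g = 1 from hg 2, one_smul,
    bad _ _ hu'] at e3
  have e4 := h.eqv (sg Q u g') _ _ hu
  rw [sg_fix (f_self u) (hg' 0), sg_apply_perp ⟨o1.l, hg' 0⟩ o1.p', show 𝐟 v g' = 1 from hg' 1, one_smul,
    bad _ _ hu] at e4
  have e5 : ι (sg Q u g) * (ι (sg Q u g') * d v w * (ι (sg Q u g'))⁻¹) * (ι (sg Q u g))⁻¹ =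
      ι (sg Q u g') * (ι (sg Q u g) * d v w * (ι (sg Q u g))⁻¹) * (ι (sg Q u g'))⁻¹ := by
    have := ((sg_comm u g g').map ι).eq
    rw [show ∀ a b x : G, a * (b * x * b⁻¹) * a⁻¹ = a * b * x * (a * b)⁻¹ from fun a b x => by group, this]
    group
  rw [e1, e2, ← conj_mul, ← conj_mul, ← conj_mul, ← conj_mul, e1, e2, e3, e4,
    conj_eq_of_comm ((sg_comm u y' g).map ι), conj_eq_of_comm ((sg_comm u y g').map ι)] at e5
  have c1 := h.fix hu' (sg_fix (f_self u) y1) (sg_fix o2.p' y3)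
  have c2 := h.fix hu (sg_fix (f_self u) z1) (sg_fix o1.p' z3)
  have c3 := h.com hw
  simp only [mul_assoc] at e5
  rw [mul_right_inj, ← mul_assoc (ι _), c1.eq, ← mul_assoc (ι (sg Q u y')), c2.eq, mul_assoc, mul_assoc,
    ← mul_assoc, c3.eq, mul_assoc, mul_right_inj, mul_right_inj, ← map_mul, ← map_mul, ← map_mul, ← map_mul,
    h.inj.eq_iff, (sg_comm u w y').eq, (sg_comm u v y).eq, ← mul_assoc, ← mul_assoc, (sg_comm u y y').eq,
    mul_right_inj, sg_inj h.nd (ok_of o2) (ok_of o1) (ti2_iff.1 hu).2.1] at e5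
  obtain ⟨c, hc⟩ := e5
  exact one_ne_zero (li c 1 1 (by rw [hc, one_smul, one_smul, add_comm v, add_self' F])).2.1

/-- `Dm.S_le` for `H = {g | Commute (ι g) (d u v)}`: `Pr.fix`; `sg u y` sends `v` to `v` or `v + u`
(`good0`); `sg v y` centralizes `d v u` and `z`, and `d u v ∈ {d v u, d v u * z}`. -/
theorem Pr.good (h : Pr ι t d) (hu : TI Q ![u, v]) {g : EG Q} (hg : g ∈ 𝐳[sg Q u v]) :
    Commute (ι g) (d u v) := by
  have k : ∀ p q, TI Q ![p, q] → ∀ y, 𝐟 p y = 0 → Commute (ι (sg Q p y)) (d p q) := fun p q hp y hy => by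
    have := h.eqv (sg Q p y) p q hp
    rw [sg_fix (f_self p) hy, sg_apply_perp ⟨(ti2_iff.1 hp).1.l, hy⟩ (ti2_iff.1 hp).1.p'] at this
    rcases dp_two h.two (𝐟 q y) with e | e
    · rw [e, zero_smul, add_zero] at this
      exact mul_inv_eq_iff_eq_mul.1 this
    · rw [e, one_smul, h.good0 hp] at this
      exact mul_inv_eq_iff_eq_mul.1 this
  refine (mem_cent.1 (h.S_le (H := 𝐳[d u v].comap ι) hu (fun g hg => mem_cent.2
    (h.fix hu (mem_Fx2.1 hg).1 (mem_Fx2.1 hg).2).symm) (fun y hy => mem_cent.2 (k u v hu y hy).symm)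
    (fun y hy => mem_cent.2 ?_) hg)).symm
  rcases h.dd_sw hu (.inl rfl) with e | e <;> rw [e]
  · exact (k v u (dp_sw hu) y hy).symm
  · exact (k v u (dp_sw hu) y hy).symm.mul_left ((sg_comm v u y).map ι)

end Cfsg.Agent.StdO
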