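import Cfsg.Agent.StdO.Rig
import Cfsg.Agent.KSG.AutOrth11

/-! Step 0, outer involutions of `C(t)`. -/

set_option autoImplicit false
set_option linter.unusedSectionVars false
set_option linter.unusedVariables false

namespace Cfsg.Agent.StdO

open Subgroup Module QuadraticMap Cfsg.Agent.Class.Orth Cfsg.Agent.KSG Cfsg.Agent.PLocal.Amb
  Cfsg.Agent.Lyons
open Cfsg.Agent.StdL (cjh)
open scoped commutatorElement

variable {F V : Type*} [Field F] [Finite F] [CharP F 2] [AddCommGroup V] [Module F V]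
  [FiniteDimensional F V] {Q : QuadraticForm F V} {G : Type*} [Group G] [Finite G]
  {ι : EG Q →* G} {t : G}

local notation "𝐟" => polar Q

variable {T : SS Q} {s : G}

/-- the conclusion inside `Ω`: `l T l⁻¹ T⁻¹ = w ≠ 1` with `w` in the derived group of `C_Ω(T)` -/
def OuW (T : SS Q) : Prop := ∃ l w : EG Q, w ≠ 1 ∧ l * cE T l⁻¹ = w ∧
  w ∈ ⁅(cE T).eqLocus (MonoidHom.id _), (cE T).eqLocus (MonoidHom.id _)⁆

namespace OuA

theorem mem_C {g : EG Q} : g ∈ (cE T).eqLocus (MonoidHom.id _) ↔ cE T g = g := Iff.rfl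

theorem sg_mem_C (hc : T.c = 1) {x y : V} (o : Ok Q x y) (h1 : T.T x = x) (h2 : T.T y = y) :
    sg Q x y ∈ (cE T).eqLocus (MonoidHom.id _) := mem_C.2 (by rw [cE_sg hc o, h1, h2])

theorem tw (hc : T.c = 1) {x y : V} (o : Ok Q x y) (h1 : T.T x = x) :
    sg Q x y * cE T (sg Q x y)⁻¹ = sg Q x (y + T.T y) := by
  rw [sg_inv, cE_sg hc o, h1, sg_add o ⟨o.l, by rw [← h1, T.pol, o.p, map_zero, mul_zero]⟩]

theorem span_le (s : Finset V) : finrank F (Submodule.span F (s : Set V)) ≤ s.card :=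
  finrank_span_finset_le_card s

theorem span2 (x y : V) : finrank F (Submodule.span F ({x, y} : Set V)) ≤ 2 := by
  classical
  have := span_le (F := F) {x, y}
  rw [Finset.coe_pair] at this
  exact this.trans Finset.card_le_two

theorem span3 (x y z : V) : finrank F (Submodule.span F ({x, y, z} : Set V)) ≤ 3 := by
  classical
  have := span_le (F := F) {x, y, z}
  rw [Finset.coe_insert, Finset.coe_pair] at this
  exact this.trans Finset.card_le_three

theorem span1 (x : V) : finrank F (Submodule.span F ({x} : Set V)) ≤ 1 := by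
  classical
  have := span_le (F := F) {x}
  rwa [Finset.coe_singleton, Finset.card_singleton] at this

end OuA

open OuA

/-- Field type.  `orderOf σ = 2`; `exists_ringHom_fixed` (with `F₀ = GaloisField 2 _` or the fixed
subfield) and `exists_desc` give `Desc T j e Q₀ l₀`, `ND Q₀` (`FormExt.nd`), `dim = dim V`.  Take
`TI`-vectors `u₀, v₀` for `Q₀` (`exists_singular_mem`), `u = e u₀`, `v = e v₀` are fixed by `T`,
`w = sg u v`.  `ND.eichler_singular_eq_commutatorElement` for `Q₀` and `extO` (`extO_eichler`,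
`commute_ext`; or directly: `cm_ts`-like with `g, y'` in the image of `e`, all four vectors fixed, and
rescale `v` by the fixed scalar `𝐟 y' g`) show that `w` is a commutator in `C(T)`.
`l = sg u (a v)` with `a + σ a = 1` (take `b` with `σ b ≠ b`, `a = b / (b + σ b)`). -/
theorem Dm.ou_fld (h : Dm Q) (hc : T.c = 1) (h2 : T * T = 1) (hσ : T.σ ≠ 1) : OuW T := by
  have d8 := h.d8
  have s2 : T.σ * T.σ = 1 := congrArg SS.σ h2
  have o2 : orderOf T.σ = 2 := orderOf_eq_prime (by rw [pow_two, s2]) hσ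
  obtain ⟨e, Q₀, l, D⟩ := exists_desc (t := T) (by rw [o2, pow_two, h2])
    (j := (fixF T.σ).subtype) fun a => ⟨fun h => ⟨⟨a, h⟩, rfl⟩, by rintro ⟨a, rfl⟩; exact a.2⟩
  have nd := D.toFormExt.nd h.nd
  have d5 : 5 ≤ finrank (fixF T.σ) (Fin (finrank F V) → fixF T.σ) := by rw [D.rank]; omega
  obtain ⟨u, f, hf⟩ := nd.exists_isHyp_of_three_le (by omega)
  have sl : T.σ l = l := by
    have := T.pol (e u) (e f)
    rw [D.fix, D.fix, hc, one_mul, D.pol, hf.pol, map_one, mul_one] at this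
    exact this.symm
  have fx : ∀ v, T.T (l⁻¹ • e v) = l⁻¹ • e v := fun v => by rw [T.smul, map_inv₀, sl, D.fix]
  have ok : ∀ {x y}, Q₀ x = 0 → polar Q₀ x y = 0 → Ok Q (e x) (l⁻¹ • e y) := fun h1 h2 =>
    ⟨by rw [D.q, h1, map_zero, mul_zero], by
      rw [polar_smul_right', D.pol, h2, map_zero, mul_zero, mul_zero]⟩
  have le : (EG Q₀).map D.toFormExt.extO ≤
      ((cE T).eqLocus (MonoidHom.id _)).map (EG Q).subtype :=
    map_le_iff_le_comap.2 (EG_le fun x y h1 h2 => ⟨_, sg_mem_C hc (ok h1 h2) (D.fix x) (fx y),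
      (D.toFormExt.extO_eichler h1 h2).symm⟩)
  obtain ⟨v, hv, -⟩ := nd.eichler_ne_of_five_le hf (by omega)
  have p : polar Q₀ u v = 0 := by
    by_contra c
    exact hv (eichler_of_not fun d => c d.2)
  obtain ⟨b, hb⟩ : ∃ b, T.σ b ≠ b := by
    by_contra c
    push Not at c
    exact hσ (RingEquiv.ext c)
  have b0 : b + T.σ b ≠ 0 := fun c => hb (CharTwo.add_eq_zero.1 c).symm
  have o := ok hf.left p
  refine ⟨sg Q (e u) ((b / (b + T.σ b)) • l⁻¹ • e v), sg Q (e u) (l⁻¹ • e v), fun c => hv ?_, ?_, ?_⟩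
  · refine OG.ext fun x => D.injective ?_
    rw [← D.toFormExt.extO_apply, D.toFormExt.extO_eichler hf.left p, ← coe_sg, c]
    rfl
  · rw [tw hc (o.smul _) (D.fix u), T.smul, fx, ← add_smul, map_div₀, map_add,
      show T.σ (T.σ b) = b from RingEquiv.congr_fun s2 b, add_comm (T.σ b), ← add_div, div_self b0,
      one_smul]
  · have m : eichler Q₀ u v ∈ ⁅EG Q₀, EG Q₀⁆ := (nd.EG_perfect d5).ge (eichler_mem_EG u v)
    have m2 := mem_map_of_mem D.toFormExt.extO m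
    rw [map_commutator, D.toFormExt.extO_eichler hf.left p] at m2
    have m3 := commutator_mono le le m2
    rw [← map_commutator] at m3
    obtain ⟨x, hx, c⟩ := m3
    exact (show x = sg Q (e u) (l⁻¹ • e v) from Subtype.ext c) ▸ hx

/-- Reflection `refl v`.  Take a singular `u ≠ 0`, `u ⊥ v`, `w = sg u v`, `l = sg u y` with `y ⊥ u`,
`𝐟 y v = Q v` : `l * cE T l⁻¹ = sg u (y + refl v y) = sg u v`.  All `sg x y` with `x, y ⊥ v` are fixed.
For singular `n ⊥ u, v`: `sg u n = ⁅sg n g, sg u y'⁆` with `g, y' ⊥ u, v, n`, `𝐟 y' g = 1`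
(`⟨u,v,n⟩^⊥` has dimension `≥ 5 > 3`).  With a hyperbolic pair `n, n' ∈ ⟨u,v⟩^⊥` (`exists_sing`,
`exists_perp`), `v = n + Q v • n' + (n + Q v • n' + v)` is a sum of three such `n`. -/
theorem Dm.ou_refl (h : Dm Q) {v : V} (hv : Q v ≠ 0) : OuW (SS.oO Q (refl Q v)) := by
  have d8 := h.d8
  have fx : ∀ {x}, 𝐟 v x = 0 → (SS.oO Q (refl Q v)).T x = x := fun hx =>
    refl_apply_of_polar_eq_zero ((polar_comm Q _ _).trans hx)
  obtain ⟨u, u1, u0, uq⟩ := exists_sing (Q := Q) (U := ⊥) (W := perp Q (Submodule.span F {v})) (by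
    have := finrank_perp h.nd (Submodule.span F {v})
    have := span1 (F := F) v
    rw [bot_inf_eq, finrank_bot]; omega)
  rw [mem_perp1] at u1
  rw [Submodule.mem_bot] at u0
  have vu : v ∉ Submodule.span F {u} := fun c => by
    obtain ⟨a, rfl⟩ := Submodule.mem_span_singleton.1 c
    exact hv (by rw [Q_smul, uq, mul_zero])
  obtain ⟨y, y1, y2⟩ := exists_perp h.nd vu (Q v)
  rw [mem_perp1] at y1
  have uv : 𝐟 u v = 0 := (polar_comm Q _ _).trans u1
  refine ⟨sg Q u y, sg Q u v, fun c => vu ?_, ?_, ?_⟩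
  · obtain ⟨a, e⟩ := (sg_eq_one h.nd ⟨uq, uv⟩ u0).1 c
    exact Submodule.mem_span_singleton.2 ⟨a, e.symm⟩
  · rw [tw rfl ⟨uq, y1⟩ (fx u1), show (SS.oO Q (refl Q v)).T y = y - ((Q v)⁻¹ * 𝐟 y v) • v from
      refl_apply v y, polar_comm, y2, inv_mul_cancel₀ hv, one_smul, sub_eq' F, ← add_assoc,
      add_self' F, zero_add]
  obtain ⟨n, n1, n0, nq⟩ := exists_sing (Q := Q) (U := Submodule.span F {u, v})
    (W := perp Q (Submodule.span F {u, v})) (by
      have := finrank_perp h.nd (Submodule.span F {u, v})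
      have := span2 (F := F) u v
      have := Submodule.finrank_mono (inf_le_left : Submodule.span F {u, v} ⊓
        perp Q (Submodule.span F {u, v}) ≤ _)
      omega)
  obtain ⟨y₁, a1, a2⟩ := exists_perp h.nd n0 1
  obtain ⟨y₂, b1, b2⟩ : ∃ y₂ ∈ perp Q (Submodule.span F {u, v, n}),
      y₂ ∉ Submodule.span F {u, v, n} := SetLike.not_le_iff_exists.1 fun c => by
    have := finrank_perp h.nd (Submodule.span F {u, v, n})
    have := span3 (F := F) u v n
    have := Submodule.finrank_mono c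
    omega
  obtain ⟨g, c1, c2⟩ := exists_perp h.nd b2 (Q v)
  rw [mem_perp2''] at n1 a1
  rw [mem_perp3] at b1 c1
  have nv : 𝐟 n v = 0 := (polar_comm Q _ _).trans n1.2
  have m1 := commutator_mem_commutator (sg_mem_C (T := SS.oO Q (refl Q v)) rfl ⟨nq, nv⟩ (fx n1.2)
    (fx (f_self v))) (sg_mem_C rfl ⟨uq, a1.1⟩ (fx u1) (fx a1.2))
  have m2 := commutator_mem_commutator (sg_mem_C (T := SS.oO Q (refl Q v)) rfl ⟨nq, c1.2.2⟩
    (fx n1.2) (fx c1.2.1)) (sg_mem_C rfl ⟨uq, b1.1⟩ (fx u1) (fx b1.2.1))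
  rw [cm_sg ⟨uq, a1.1⟩ (sg_fix n1.1 uv), sg_apply ⟨nq, nv⟩, polar_comm Q y₁ v, a1.2,
    polar_comm Q y₁ n, a2] at m1
  rw [cm_sg ⟨uq, b1.1⟩ (sg_fix n1.1 c1.1), sg_apply_perp ⟨nq, c1.2.2⟩
    ((polar_comm Q _ _).trans b1.2.2), c2] at m2
  have e1 : ∀ a b : V, a + b + a = b := fun a b => by
    rw [add_comm a, add_assoc, add_self' F, add_zero]
  rw [zero_add, mul_one, one_smul, add_assoc y₁, e1] at m1
  rw [e1] at m2
  have on : Ok Q u (Q v • n) := Ok.smul ⟨uq, n1.1⟩ _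
  have := Subgroup.mul_mem _ m1 m2
  rwa [← sg_add (on.add ⟨uq, uv⟩) on, e1] at this

/-- Structure of an involution `k = 1 + B`, `M = mov k = im B ≤ M^⊥ = ker B`, `𝐟 x (B y)` is
symmetric and `Q (B x) = 𝐟 x (B x)`.  `Q` is additive on `M`, so `x ↦ √Q(B x)` is a linear form
vanishing on `M^⊥`, i.e. `𝐟 u ·` with `u ∈ M`. -/
theorem exists_axis (hQ : ND Q) {k : OG Q} (hk : k * k = 1) :
    ∃ u ∈ mov k, ∀ x, Q (k.1 x + x) = 𝐟 u x ^ 2 := by
  have sy : ∀ x y, 𝐟 (k.1 x) y = 𝐟 x (k.1 y) := fun x y => by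
    rw [← OG.map_polar k x, ← OG.mul_apply, hk, OG.one_apply]
  let r := (frobeniusEquiv F 2).symm
  have hr : ∀ a, r a ^ 2 = a := fun a => (frobeniusEquiv F 2).apply_symm_apply a
  let φ : V →ₗ[F] F :=
    { toFun := fun x => r (Q (k.1 x + x))
      map_add' := fun x y => by
        rw [← map_add, map_add k.1, add_add_add_comm, Q_add (k.1 x + x)]
        simp only [polar_add_left, polar_add_right, OG.map_polar, sy x y]
        congr 1
        grind
      map_smul' := fun a x => by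
        rw [map_smul, ← smul_add, Q_smul, map_mul, RingHom.id_apply, smul_eq_mul]
        congr 1
        exact (frobeniusEquiv F 2).symm_apply_apply a }
  obtain ⟨u, hu⟩ := (LinearMap.BilinForm.toDual (polarBilin Q) ((nd_iff Q).1 hQ)).surjective φ
  have e : ∀ x, 𝐟 u x = r (Q (k.1 x + x)) := fun x => LinearMap.congr_fun hu x
  refine ⟨u, mem_mov_of_polar_fix hQ k fun x hx => ?_, fun x => by rw [e, hr]⟩
  rw [polar_comm, e, hx, add_self' F, Q.map_zero, map_zero]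

theorem inv_symm {k : OG Q} (hk : k * k = 1) (x y : V) : 𝐟 x (k.1 y + y) = 𝐟 y (k.1 x + x) := by
  rw [polar_add_right, polar_add_right, polar_comm Q y x, ← OG.map_polar k x (k.1 y), ← OG.mul_apply,
    hk, OG.one_apply, polar_comm Q y]

theorem inv_fix (hQ : ND Q) {k : OG Q} (hk : k * k = 1) {x : V} : x ∈ perp Q (mov k) ↔ k.1 x = x :=
  ⟨fun h => fix_of_polar_mov hQ k fun v hv => (polar_comm Q _ _).trans (h v hv),
    fun h v hv => (polar_comm Q _ _).trans (polar_fix_of_mem_mov k h hv)⟩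

/-- Linear type of odd rank `l`.  If `l = 1` then `k` is a reflection (`ND.even_of_TS_mov`; `k` fixes
`v^⊥` where `mov k = ⟨v⟩`, `v` non-singular).  If `l ≥ 3`: `u` from `exists_axis`; `B (u^⊥)` has
dimension `≥ 2` and is singular.  Take `y ⊥ u` with `m = B y ≠ 0` and `y₁ ⊥ u` with
`𝐟 y₁ m = 1` (`m ∉ ⟨u⟩` since `u` is non-singular: otherwise `mov k` is totally singular or see
`ClC`; alternatively choose `m ∉ ⟨u⟩` by dimension), `m' = B y₁`, so `𝐟 y m' = 1`, `𝐟 y m = Q m = 0`.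
`M^⊥ ⊓ y^⊥` has dimension `≥ 2k - l - 1 ≥ 4` (`2 l ≤ dim V`, `l` odd), `exists_sing` gives a singular
`a ∈ M^⊥ ⊓ y^⊥ \ ⟨m⟩`.  `l = sg a y`, `w = sg a m = ⁅sg m y, sg a m'⁆`; `sg m y` is fixed since
`k y = y + m`, `sg a m'` since `a, m' ∈ M^⊥`. -/
theorem Dm.ou_lin (h : Dm Q) {k : OG Q} (hk : k * k = 1) (h1 : k ∉ EG Q) : OuW (SS.oO Q k) := by
  have d8 := h.d8
  have ev := Nat.even_iff.1 h.even
  have od := Nat.odd_iff.1 (Nat.not_even_iff_odd.1 (mt h.mem_EG.2 h1))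
  have hf := h.nd.two_mul_finrank_mov_le (two_zero F) hk
  obtain ⟨u, um, hu⟩ := exists_axis h.nd hk
  have mm : ∀ x, k.1 x + x ∈ mov k := fun x => ⟨x, by rw [movMap_apply, sub_eq' F, add_comm]⟩
  have km : ∀ x, k.1 (k.1 x + x) = k.1 x + x := fun x => by
    rw [map_add, ← OG.mul_apply, hk, OG.one_apply, add_comm]
  by_cases hy : ∀ y, 𝐟 u y = 0 → k.1 y + y ∈ Submodule.span F {u}
  · have u0 : u ≠ 0 := by
      rintro rfl
      refine h1 (h.mem_of_ts ?_)
      rintro _ ⟨x, rfl⟩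
      rw [movMap_apply, sub_eq' F, add_comm, hu, polar_zero_left, zero_pow two_ne_zero]
    obtain ⟨z, hz⟩ := h.nd.exists_polar_eq u0 1
    have le : mov k ≤ Submodule.span F {u, k.1 z + z} := by
      rintro _ ⟨x, rfl⟩
      obtain ⟨a, ha⟩ := Submodule.mem_span_singleton.1 (hy (x - 𝐟 u x • z) (by
        rw [polar_sub_right, polar_smul_right', hz, mul_one, sub_self]))
      refine Submodule.mem_span_pair.2 ⟨a, 𝐟 u x, ?_⟩
      rw [ha, movMap_apply, sub_eq' F x (k.1 x), map_sub, map_smul]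
      module
    have := (Submodule.finrank_mono le).trans (span2 _ _)
    obtain ⟨v, hv, rfl⟩ := exists_eq_refl_of_finrank_mov h.nd (g := k) (by omega)
    exact h.ou_refl hv
  push Not at hy
  obtain ⟨y, y1, y2⟩ := hy
  obtain ⟨y₁, a1, a2⟩ := exists_perp h.nd y2 1
  rw [mem_perp1] at a1
  have mq : Q (k.1 y + y) = 0 := by rw [hu, y1, zero_pow two_ne_zero]
  have ym : 𝐟 (k.1 y + y) y = 0 := by
    have := mq
    rw [Q_add, OG.map_Q, CharTwo.add_self_eq_zero, zero_add] at this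
    rw [polar_add_left, this, f_self, add_zero]
  have ym' : 𝐟 (k.1 y₁ + y₁) y = 1 := by rw [polar_comm, inv_symm hk, polar_comm, a2]
  have mm' : 𝐟 (k.1 y₁ + y₁) (k.1 y + y) = 0 := (inv_fix h.nd hk).2 (km y) _ (mm y₁)
  obtain ⟨a, b1, b0, bq⟩ := exists_sing (Q := Q) (U := Submodule.span F {k.1 y + y})
    (W := perp Q (mov k ⊔ Submodule.span F {y})) (by
      have := finrank_perp h.nd (mov k ⊔ Submodule.span F {y})
      have := span1 (F := F) y
      have := span1 (F := F) (k.1 y + y)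
      have := Submodule.finrank_add_le_finrank_add_finrank (mov k) (Submodule.span F {y})
      have := Submodule.finrank_mono (inf_le_left : Submodule.span F {k.1 y + y} ⊓
        perp Q (mov k ⊔ Submodule.span F {y}) ≤ _)
      omega)
  have aM := perp_anti le_sup_left b1
  have ka := (inv_fix h.nd hk).1 aM
  have ay : 𝐟 a y = 0 := (polar_comm Q _ _).trans (mem_perp1.1 (perp_anti le_sup_right b1))
  have am : ∀ x, 𝐟 a (k.1 x + x) = 0 := fun x => (polar_comm Q _ _).trans (aM _ (mm x))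
  have a0 : a ≠ 0 := by rintro rfl; exact b0 (Submodule.zero_mem _)
  refine ⟨sg Q a y, sg Q a (k.1 y + y), fun c => ?_, ?_, ?_⟩
  · obtain ⟨c, e⟩ := (sg_eq_one h.nd ⟨bq, am y⟩ a0).1 c
    have c0 : c ≠ 0 := by
      rintro rfl
      exact y2 (by rw [e, zero_smul]; exact Submodule.zero_mem _)
    exact b0 (Submodule.mem_span_singleton.2 ⟨c⁻¹, by rw [e, inv_smul_smul₀ c0]⟩)
  · rw [tw rfl ⟨bq, ay⟩ ka, add_comm]
    rfl
  · have c1 : sg Q (k.1 y + y) y ∈ (cE (SS.oO Q k)).eqLocus (MonoidHom.id _) := mem_C.2 (by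
      rw [cE_sg rfl ⟨mq, ym⟩, show (SS.oO Q k).T (k.1 y + y) = k.1 y + y from km y,
        ← sg_add_smul ⟨mq, ym⟩ 1, one_smul, add_comm (k.1 y), ← add_assoc, add_self' F, zero_add]
      rfl)
    have := commutator_mem_commutator c1 (sg_mem_C (T := SS.oO Q k) rfl ⟨bq, am y₁⟩ ka (km y₁))
    rwa [cm_sg ⟨bq, am y₁⟩ (sg_fix (am y) ay), sg_apply_perp ⟨mq, ym⟩ mm', ym', one_smul,
      add_comm (k.1 y₁ + y₁), add_assoc _ (k.1 y₁ + y₁), add_self' F, add_zero] at this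

/-- `Rp.a3` for `zpowers s`: `Ac ι' s T` with `ι' = ι ∘ α` (`Su.comp`, same range), `T * T = 1`
(`Rp.uniq`).  If `σ = 1` then `T = oO k`; `k ∈ EG` would make `s` inner (`Ac.inner`: `s ι'(k)⁻¹` is
an involution or `1` in `C(t) ⊓ C(L)`, `Su.inv`).  `ι' l * s * ι' l⁻¹ = ι'(l * cE T l⁻¹) * s`. -/
theorem Su.ou (h : Su ι t) (hs : s ∈ 𝐳[t]) (h2 : s * s = 1) (hn : ¬ StdZ.Inn t ι.range s) :
    ∃ w ∈ ⁅𝐳[s], 𝐳[s]⁆, w ≠ 1 ∧ ∃ l ∈ ι.range, l * s * l⁻¹ = s * w := by
  obtain ⟨α, hα⟩ := h.toRp.a3 (P := zpowers s) (isPGroup_zpowers ⟨1, by rw [pow_one, pow_two, h2]⟩)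
    (zpowers_le.2 (h.nrm hs))
  obtain ⟨T, hT⟩ := hα s (mem_zpowers s)
  have h' := h.comp α
  rw [← range_comp_aut ι α] at hn ⊢
  generalize ι.comp α.toMonoidHom = j at hT h' hn ⊢
  have TT : T * T = 1 := h'.toRp.uniq (hT.mul hT) (h2 ▸ ac_one (one_mem _))
  have W : OuW T := by
    by_cases hσ : T.σ = 1
    swap
    · exact h.toDm.ou_fld hT.c TT hσ
    obtain ⟨k, rfl⟩ := SS.exists_oO hσ hT.c
    have kk : k * k = 1 := SS.oO_injective (by rw [map_mul, TT, map_one])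
    refine h.toDm.ou_lin kk fun c => hn ?_
    have i := Ac.inner (g := ⟨k, c⟩) hT
    have jj : j ⟨k, c⟩ * j ⟨k, c⟩ = 1 := by
      rw [← map_mul, show (⟨k, c⟩ * ⟨k, c⟩ : EG Q) = 1 from Subtype.ext kk, map_one]
    have tc := h'.tc ⟨k, c⟩
    have jm : j ⟨k, c⟩ ∈ j.range := ⟨_, rfl⟩
    generalize j ⟨k, c⟩ = x at i jj tc jm
    have c1 : x * (s * x⁻¹) = s * x⁻¹ * x := i x jm
    rcases h'.inv (mul_mem hs (inv_mem (h'.tL jm))) i (by
      calc _ = s * x⁻¹ * (s * x⁻¹ * x) * x⁻¹ := by group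
        _ = s * s * (x * x)⁻¹ := by rw [← c1]; group
        _ = 1 := by rw [h2, jj]; group) with e | e
    · exact .inl (mul_inv_eq_one.1 e ▸ jm)
    · exact .inr (by rwa [mul_inv_eq_iff_eq_mul.1 e, tc.eq, mul_assoc, h.tt, mul_one])
  obtain ⟨l, w, w1, e, hw⟩ := W
  have le : ((cE T).eqLocus (MonoidHom.id _)).map j ≤ 𝐳[s] := by
    rintro _ ⟨g, hg, rfl⟩
    have := hT.act g
    rw [mem_C.1 hg] at this
    exact mem_centralizer_singleton_iff.2 (mul_inv_eq_iff_eq_mul.1 this).symm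
  have m := mem_map_of_mem j hw
  rw [map_commutator] at m
  have m2 := commutator_mono le le m
  refine ⟨j w, m2, fun c => w1 (h'.inj (by rw [c, map_one])), j l, ⟨l, rfl⟩, ?_⟩
  rw [← mem_centralizer_singleton_iff.1 (commutator_le_self _ m2), ← e, map_mul, ← hT.act, map_inv]
  group

end Cfsg.Agent.StdO
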