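import Cfsg.Agent.StdO.BasB
import Cfsg.Agent.StdO.Aut

/-! Rigidity: elements of `N(L)` centralizing large unipotent subgroups. -/

set_option autoImplicit false
set_option linter.unusedSectionVars false
set_option linter.unusedVariables false

namespace Cfsg.Agent.StdO

open Subgroup Module QuadraticMap Cfsg.Agent.Class.Orth Cfsg.Agent.KSG Cfsg.Agent.PLocal.Amb
  Cfsg.Agent.Lyons
open Cfsg.Agent.StdL (cjh)
open scoped commutatorElement

variable {F V : Type*} [Field F] [Finite F] [CharP F 2] [AddCommGroup V] [Module F V]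
  [FiniteDimensional F V] {Q : QuadraticForm F V} {G : Type*} [Group G] [Finite G]
  {ι : EG Q →* G} {t : G}

local notation "𝐟" => polar Q

variable {u v w a b e : V} {n x : G} {z : EG Q} {T : SS Q} {U : Submodule F V}

theorem Rig.aa (F : Type*) [Field F] [CharP F 2] [Module F V] (v : V) : v + v = 0 := by
  rw [← two_smul F, two_zero F, zero_smul]

theorem Rig.ok (T : SS Q) (o : Ok Q u w) : Ok Q (T.T u) (T.T w) :=
  ⟨by rw [T.h.q, o.l, map_zero, mul_zero], by rw [T.h.polar, o.p, map_zero, mul_zero]⟩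

theorem Rig.ne (T : SS Q) (h0 : u ≠ 0) {l : F} (hl : T.T u = l • u) : l ≠ 0 := fun e =>
  h0 (T.T.injective (by rw [hl, e, zero_smul, T.h.semi.zero]))

/-- (T2) `T ⟨u,a⟩ = ⟨u,a⟩`, `T ⟨u,b⟩ = ⟨u,b⟩` (`cE_sg`, `span_of_sg_eq`), and the two lines meet
in `⟨u⟩`. -/
theorem fix_pt (hQ : ND Q) (hc : T.c = 1) (h0 : u ≠ 0) (ha : TS2 Q u a) (hb : TS2 Q u b)
    (hab : 𝐟 a b ≠ 0) (h1 : cE T (sg Q u a) = sg Q u a) (h2 : cE T (sg Q u b) = sg Q u b) :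
    ∃ l : F, l ≠ 0 ∧ T.T u = l • u := by
  have k : ∀ a b : V, TS2 Q u a → TS2 Q u b → 𝐟 a b ≠ 0 → cE T (sg Q u a) = sg Q u a →
      ∃ α β : F, α • u + β • a = T.T u := fun a b ha hb hab h1 => by
    rw [cE_sg hc (ok_of ha)] at h1
    refine Submodule.mem_span_pair.1 ((span_of_sg_eq hQ (ok_of ha) (Rig.ok T (ok_of ha))
      (fun e => ?_) h1.symm).ge (Submodule.subset_span (Set.mem_insert _ _)))
    obtain ⟨c, rfl⟩ := (sg_eq_one hQ (ok_of ha) h0).1 e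
    exact hab (by rw [polar_smul_left', hb.p, mul_zero])
  obtain ⟨α, β, e1⟩ := k a b ha hb hab h1
  obtain ⟨γ, δ, e2⟩ := k b a hb ha (by rwa [polar_comm]) h2
  have e3 := congrArg (𝐟 · b) (e1.trans e2.symm)
  simp only [polar_add_left, polar_smul_left', hb.p, f_self, mul_zero, zero_add, mul_eq_zero, hab,
    or_false] at e3
  rw [e3, zero_smul, add_zero] at e1
  exact ⟨α, Rig.ne T h0 e1.symm, e1.symm⟩

/-- `cE T (sg u w) = sg u (l T w)`, `sg_inj` -/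
theorem fix_sg (hQ : ND Q) (hc : T.c = 1) (h0 : u ≠ 0) {l : F} (hl : T.T u = l • u) (o : Ok Q u w) :
    cE T (sg Q u w) = sg Q u w ↔ ∃ r : F, l • T.T w = w + r • u := by
  have o1 : Ok Q u (T.T w) := ⟨o.l, by
    have := (Rig.ok T o).p
    rwa [hl, polar_smul_left', mul_eq_zero, or_iff_right (Rig.ne T h0 hl)] at this⟩
  rw [cE_sg hc o, hl, sg_smul o1, sg_inj hQ (o1.smul l) o h0]

/-- an additive subgroup of index at most two meets every line if `q > 2` -/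
theorem half_line {Y : V → Prop} {B : Submodule F V} (hq : Nat.card F ≠ 2)
    (hY : ∀ a ∈ B, ∀ b ∈ B, Y a ∨ Y b ∨ Y (a + b)) (hw : w ∈ B) : ∃ r : F, r ≠ 0 ∧ Y (r • w) := by
  obtain ⟨s, h0, h1⟩ : ∃ s : F, s ≠ 0 ∧ s ≠ 1 := by
    by_contra! k
    exact hq (Nat.card_eq_two_iff.2 ⟨0, 1, zero_ne_one, Set.eq_univ_of_forall fun s =>
      (em (s = 0)).imp_right (k s)⟩)
  rcases hY w hw (s • w) (B.smul_mem s hw) with e | e | e
  · exact ⟨1, one_ne_zero, by rwa [one_smul]⟩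
  · exact ⟨s, h0, e⟩
  · exact ⟨1 + s, fun k => h1 (by linear_combination k - two_zero F), by rwa [add_smul, one_smul]⟩

/-- (IX) Let `Y₀ = {y ∈ B | l T y + y ∈ ⟨u⟩}`, an additive subgroup containing `⟨u⟩ ⊓ B`.  If
`σ s ≠ s` and `y ∈ Y₀ \ ⟨u⟩` then `s y ∉ Y₀`; for `y, y' ∈ Y₀ \ ⟨u⟩` the hypothesis gives
`s (y + y') ∈ Y₀`, so `y + y' ∈ ⟨u⟩`.  Two independent lines (`half_line`) contradict this.  So
`σ = 1`, `Y₀` is a subspace, and `half_line` gives `Y₀ = B`. -/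
theorem half_fix {Y : V → Prop} {B : Submodule F V} {l : F} (hl : T.T u = l • u)
    (hY : ∀ a ∈ B, ∀ b ∈ B, Y a ∨ Y b ∨ Y (a + b)) (hq : Nat.card F = 2 → ∀ a ∈ B, Y a)
    (hB : ∃ a ∈ B, ∃ b ∈ B, ∀ r s d : F, r • a + s • b + d • u = 0 → r = 0 ∧ s = 0)
    {l' : F} (h : ∀ y ∈ B, Y y → ∃ r : F, l' • T.T y = y + r • u) :
    T.σ = 1 ∧ ∀ y ∈ B, ∃ r : F, l' • T.T y = y + r • u := by
  obtain ⟨a, ha, b, hb, hab⟩ := hB
  have ln : ∀ y ∈ B, ∃ r : F, r ≠ 0 ∧ Y (r • y) := fun y hy => by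
    by_cases e : Nat.card F = 2
    · exact ⟨1, one_ne_zero, hq e _ (B.smul_mem 1 hy)⟩
    · exact half_line e hY hy
  have h1 : T.σ = 1 := by
    refine RingEquiv.ext fun s => by_contra fun hs : T.σ s ≠ s => ?_
    obtain ⟨r, r0, ea⟩ := ln a ha
    obtain ⟨r', r0', eb⟩ := ln b hb
    obtain ⟨c, ea⟩ := h _ (B.smul_mem r ha) ea
    obtain ⟨c', eb⟩ := h _ (B.smul_mem r' hb) eb
    have k : ∀ α β : F, ∀ y ∈ B, y = α • a + β • b → (∃ c : F, l' • T.T y = y + c • u) → Y (s • y) →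
        α = 0 ∧ β = 0 := fun α β y hy e ⟨c, e1⟩ e2 => by
      obtain ⟨d, e3⟩ := h _ (B.smul_mem s hy) e2
      rw [T.h.semi.smul, smul_comm, e1, e] at e3
      have := hab ((T.σ s - s) * α) ((T.σ s - s) * β) (T.σ s * c - d) (by
        linear_combination (norm := module) e3)
      simpa only [mul_eq_zero, sub_eq_zero, hs, false_or] using this
    have m1 := B.smul_mem r ha
    have m2 := B.smul_mem r' hb
    rcases hY _ (B.smul_mem s m1) _ (B.smul_mem s m2) with e | e | e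
    · exact r0 (k r 0 _ m1 (by simp) ⟨c, ea⟩ e).1
    · exact r0' (k 0 r' _ m2 (by simp) ⟨c', eb⟩ e).2
    · refine r0 (k r r' _ (add_mem m1 m2) rfl ⟨c + c', ?_⟩ (by rwa [smul_add])).1
      rw [T.h.semi.add, smul_add, ea, eb]
      module
  refine ⟨h1, fun y hy => ?_⟩
  obtain ⟨r, r0, e⟩ := ln y hy
  obtain ⟨c, e⟩ := h _ (B.smul_mem r hy) e
  rw [T.h.semi.smul, h1, smul_comm] at e
  refine ⟨r⁻¹ * c, smul_right_injective V r0 (e.trans ?_)⟩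
  simp only [smul_add, smul_smul, mul_inv_cancel_left₀ r0]

theorem Rig.ts {k : ℕ} {v : Fin k → V} (h : TI Q v) {S : Set V} (e : Set.range v = S) :
    TS Q (Submodule.span F S) ∧ finrank F (Submodule.span F S) = k := by
  subst e
  exact ⟨h.ts, by rw [finrank_span_eq_card h.li, Fintype.card_fin]⟩

theorem Rig.ts2 (h : TI Q ![u, e]) :
    TS Q (Submodule.span F {u, e}) ∧ finrank F (Submodule.span F ({u, e} : Set V)) = 2 :=
  Rig.ts h (by simp [Set.pair_comm])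

theorem Rig.ts3 (h : TI Q ![u, v, w]) :
    TS Q (Submodule.span F {u, v, w}) ∧ finrank F (Submodule.span F ({u, v, w} : Set V)) = 3 :=
  Rig.ts h (by ext; simp; tauto)

theorem Rig.semi (h : Rp ι) (hU : TS Q U) (hd : 2 * finrank F U + 3 ≤ finrank F V) (hu : u ∈ U)
    (h0 : u ≠ 0) (hn : n ∈ 𝐍[ι.range]) (hc : ∀ y ∈ perp Q U, Commute n (ι (sg Q u y))) :
    ∃ T, Ac ι n T := by
  obtain ⟨x, hx, y, hy, o⟩ := exists_hyp h.nd hU hd
  exact h.semi hn h0 ⟨hU u hu, o.left, hx u hu⟩ ⟨hU u hu, o.right, hy u hu⟩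
    (o.pol ▸ one_ne_zero) (hc x hx) (hc y hy)

theorem Rig.core (h : Rp ι) (hU : TS Q U) (hd : 2 * finrank F U + 3 ≤ finrank F V) (hu : u ∈ U)
    (h0 : u ≠ 0) (ac : Ac ι n T) (hc : ∀ y ∈ perp Q U, Commute n (ι (sg Q u y))) :
    T.σ = 1 ∧ T.T u = u ∧ ∀ y ∈ perp Q U, ∃ r : F, T.T y = y + r • u := by
  obtain ⟨x, hx, y, hy, o⟩ := exists_hyp h.nd hU hd
  obtain ⟨l, -, hl⟩ := fix_pt h.nd ac.c h0 ⟨hU u hu, o.left, hx u hu⟩ ⟨hU u hu, o.right, hy u hu⟩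
    (o.pol ▸ one_ne_zero) (h.fix ac (hc x hx)) (h.fix ac (hc y hy))
  obtain ⟨h1, h2⟩ := half_fix (Y := fun _ => True) (B := perp Q U) hl (fun _ _ _ _ => .inl trivial)
    (fun _ _ _ => trivial) ⟨x, hx, y, hy, fun r s d e => by
      have e1 := congrArg (𝐟 x) e
      have e2 := congrArg (𝐟 y) e
      simp only [polar_add_right, polar_smul_right', f_self, polar_comm Q y x, o.pol, polar_comm Q _ u,
        hx u hu, hy u hu, polar_zero_right, mul_zero, mul_one, add_zero, zero_add] at e1 e2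
      exact ⟨e2, e1⟩⟩
    fun y hy _ => (fix_sg h.nd ac.c h0 hl ⟨hU u hu, hy u hu⟩).1 (h.fix ac (hc y hy))
  have l1 : l = 1 := by
    obtain ⟨r, e⟩ := h2 _ (add_mem hx hy)
    have e1 := congrArg Q e
    rw [Q_smul, ac.q, Q_add _ (r • u), Q_smul, polar_smul_right', polar_comm Q _ u,
      add_mem hx hy u hu, hU u hu, Q_add, o.left, o.right, o.pol] at e1
    have : (l + 1) ^ 2 = 0 := by
      simp only [zero_add, map_one] at e1
      linear_combination e1 + (l + 1) * two_zero F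
    linear_combination (pow_eq_zero_iff two_ne_zero).1 this - two_zero F
  simp only [l1, one_smul] at hl h2
  exact ⟨h1, hl, h2⟩

/-- (RV0) `exists_hyp` in `⟨u,e⟩^⊥` and `Rp.semi` give `T`; `fix_pt`, `fix_sg`, `half_fix` give
`σ = 1`; a non-singular `y` (`x + y` for the hyperbolic pair) gives `l² = 1`, `l = 1`;
`SS.exists_oO`, `eq_eichler'`, `Ac.inner`. -/
theorem Rp.rv0 (h : Rp ι) (hu : TI Q ![u, e]) (hn : n ∈ 𝐍[ι.range])
    (hc : ∀ y, 𝐟 u y = 0 → 𝐟 e y = 0 → Commute n (ι (sg Q u y))) :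
    ∃ w, Ok Q u w ∧ n * (ι (sg Q u w))⁻¹ ∈ 𝐂[ι.range] := by
  obtain ⟨h1, h2⟩ := Rig.ts2 hu
  have d8 := h.d8
  have m : u ∈ Submodule.span F {u, e} := Submodule.subset_span (Set.mem_insert _ _)
  have h0 := (ti2_iff.1 hu).2.1
  have c := fun y (hy : y ∈ perp Q (Submodule.span F {u, e})) =>
    hc y (mem_perp2''.1 hy).1 (mem_perp2''.1 hy).2
  obtain ⟨T, ac⟩ := Rig.semi h h1 (by omega) m h0 hn c
  obtain ⟨k1, k2, k3⟩ := Rig.core h h1 (by omega) m h0 ac c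
  obtain ⟨k, rfl⟩ := SS.exists_oO k1 ac.c
  obtain ⟨w, o, rfl⟩ := eq_eichler' h.nd hu k2 fun y a b => k3 y (mem_perp2''.2 ⟨a, b⟩)
  exact ⟨w, o, Ac.inner (g := sg Q u w) ac⟩

/-- (RV) -/
theorem Rp.rv (h : Rp ι) (hu : Q u = 0) (h0 : u ≠ 0) (hn : n ∈ 𝐍[ι.range])
    (hc : ∀ y, 𝐟 u y = 0 → Commute n (ι (sg Q u y))) :
    ∃ w, Ok Q u w ∧ n * (ι (sg Q u w))⁻¹ ∈ 𝐂[ι.range] := by
  obtain ⟨e, he⟩ := h.ext2 hu h0
  exact h.rv0 he hn fun y a _ => hc y a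

/-- (RU2) By `rv0`, `n ≡ sg u w`; it commutes with all `sg e y`, `y ∈ ⟨u,e⟩^⊥`:
`sg e y * sg u w * sg e y = sg u (sg e y • w)`, so `perp_of_fix` (`U = ⟨u⟩`, `y ∉ ⟨u,e⟩`) gives
`w ⊥ ⟨u,e⟩^⊥`, `w ∈ ⟨u,e⟩`. -/
theorem Rp.ru2 (h : Rp ι) (hu : TI Q ![u, e]) (hn : n ∈ 𝐍[ι.range])
    (hc : ∀ y, 𝐟 u y = 0 → 𝐟 e y = 0 → Commute n (ι (sg Q u y)) ∧ Commute n (ι (sg Q e y))) :
    ∃ a : F, n * ζ ι u e a ∈ 𝐂[ι.range] := by
  obtain ⟨w, o, m⟩ := h.rv0 hu hn fun y a b => (hc y a b).1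
  obtain ⟨h1, h2⟩ := Rig.ts2 hu
  obtain ⟨ue, h0, ne⟩ := ti2_iff.1 hu
  have d8 := h.d8
  have k : ∀ y ∈ perp Q (Submodule.span F {u, e}), y ∉ Submodule.span F {u, e} →
      𝐟 w e = 0 ∧ 𝐟 w y = 0 := fun y hy ny => by
    obtain ⟨y1, y2⟩ := mem_perp2''.1 hy
    have c1 : Commute (n * (ι (sg Q u w))⁻¹) (ι (sg Q e y)) := (m _ ⟨_, rfl⟩).symm
    have c2 : Commute (sg Q u w) (sg Q e y) := h.comm_iff.1 (by
      simpa using (c1.inv_left.mul_left (hc y y1 y2).2))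
    have c3 := conj_sg (sg Q e y) u w
    rw [← c2.eq, mul_inv_cancel_right, sg_fix ue.p y1] at c3
    have o2 := o.map (sg Q e y)
    rw [sg_fix ue.p y1] at o2
    obtain ⟨a, ea⟩ := (sg_inj h.nd o2 o h0).1 c3.symm
    refine perp_of_fix (U := Submodule.span F {u}) h.nd ue.r y2 (by
      rwa [← Submodule.span_union]) (fun f => ?_) ?_
    · obtain ⟨a, f⟩ := Submodule.mem_span_singleton.1 f
      exact ne a f.symm
    · rw [ea, add_right_comm, Rig.aa F, zero_add]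
      exact Submodule.smul_mem _ _ (Submodule.mem_span_singleton_self u)
  obtain ⟨x, hx, y, hy, oh⟩ := exists_hyp h.nd h1 (by omega)
  have we := (k x hx fun f => one_ne_zero (oh.pol.symm.trans (hy x f))).1
  have hw : w ∈ Submodule.span F {u, e} := (perp_perp h.nd _).le fun y hy => by
    by_cases f : y ∈ Submodule.span F {u, e}
    · exact mem_perp2''.2 ⟨o.p, by rwa [polar_comm]⟩ y f
    · rw [polar_comm]; exact (k y hy f).2
  obtain ⟨a, b, rfl⟩ := Submodule.mem_span_pair.1 hw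
  rw [add_comm, sg_add_smul ((ok_of ue).smul b), ← map_inv, sg_inv] at m
  exact ⟨b, m⟩

/-- (RU3) dimension `≥ 10`.  `exists_hyp` in `π^⊥`, `Rp.semi`, `fix_pt` for `u` and for `v`:
`T u = l u`, `T v = l' v`, `l T y + y ∈ ⟨u⟩`, `l' T y + y ∈ ⟨v⟩` for `y ∈ π^⊥`; `half_fix` gives
`σ = 1`, a non-singular `y` gives `l = l' = 1`, so `T` fixes `π^⊥`; `lam3`. -/
theorem Rp.ru3 (h : Rp ι) (h10 : 10 ≤ finrank F V) (hu : TI Q ![u, v, w]) (hn : n ∈ 𝐍[ι.range])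
    (hc : ∀ g ∈ Fx Q (Submodule.span F {u, v, w}), Commute n (ι g)) :
    ∃ a b d : F, n * (ι (sg Q u (a • v + b • w) * sg Q v (d • w)))⁻¹ ∈ 𝐂[ι.range] := by
  obtain ⟨h1, h2⟩ := Rig.ts3 hu
  obtain ⟨uv, uw, vw, li⟩ := ti3_iff.1 hu
  have mu : u ∈ Submodule.span F {u, v, w} := Submodule.subset_span (by simp)
  have mv : v ∈ Submodule.span F {u, v, w} := Submodule.subset_span (by simp)
  have u0 : u ≠ 0 := fun e => one_ne_zero (li 1 0 0 (by simp [e])).1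
  have v0 : v ≠ 0 := fun e => one_ne_zero (li 0 1 0 (by simp [e])).2.1
  have c := fun x (hx : x ∈ Submodule.span F {u, v, w}) y (hy : y ∈ perp Q (Submodule.span F {u, v, w})) =>
    hc _ (sg_mem_Fx (u := x) (fun z hz => h1.polar_eq hz hx) hy)
  obtain ⟨T, ac⟩ := Rig.semi h h1 (by omega) mu u0 hn (c u mu)
  obtain ⟨k1, -, k3⟩ := Rig.core h h1 (by omega) mu u0 ac (c u mu)
  obtain ⟨-, -, k4⟩ := Rig.core h h1 (by omega) mv v0 ac (c v mv)
  obtain ⟨k, rfl⟩ := SS.exists_oO k1 ac.c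
  obtain ⟨a, b, d, rfl⟩ := lam3 h.nd hu (k := k) fun y y1 y2 y3 => by
    obtain ⟨r, e1⟩ := k3 y (mem_perp3.2 ⟨y1, y2, y3⟩)
    obtain ⟨s, e2⟩ := k4 y (mem_perp3.2 ⟨y1, y2, y3⟩)
    rw [(li r (-s) 0 (by linear_combination (norm := module) e2 - e1)).1, zero_smul, add_zero] at e1
    exact e1
  exact ⟨a, b, d, Ac.inner (g := sg Q u (a • v + b • w) * sg Q v (d • w)) ac⟩

/-- (FR) Frattini.  `n ζ(1) n⁻¹` is a root element (`root_aut`), so after an element of `L`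
(`conj_root`) `n` centralizes `ζ 1`, hence normalizes `ι 𝐳[sg u e]`; so `n ζ(a) n⁻¹ ∈ L` centralizes
`𝐳[sg u e]` (`cent_root`) and `ru2`, `Rp.eq_one` apply. -/
theorem Rp.fratt (h : Rp ι) (hu : TI Q ![u, e]) (hn : n ∈ 𝐍[ι.range]) :
    ∃ g, StdZ.NZ (ζ ι u e) (ι g * n) := by
  have := finite_EG (Q := Q)
  obtain ⟨α, hα⟩ := h.exists_aut hn
  have r : IsRoot (sg Q u e).1 := (root_iff h.nd).2 ⟨u, e, hu, rfl⟩
  obtain ⟨g, hg⟩ := h.conj_root (h.root_aut α r) r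
  obtain ⟨β, h1, h2⟩ : ∃ β : MulAut (EG Q), β (sg Q u e) = sg Q u e ∧
      ∀ y, ι g * n * ι y * (ι g * n)⁻¹ = ι (β y) := ⟨MulAut.conj g * α, hg, fun y => by
    rw [MulAut.mul_apply, MulAut.conj_apply, map_mul, map_mul, map_inv, ← hα]; group⟩
  refine ⟨g, fun a => ?_⟩
  rcases eq_or_ne a 0 with rfl | ha
  · exact ⟨0, by simp [ζ, sg_zero]⟩
  have c : ∀ y, Commute (sg Q u e) y → Commute (ι (β (sg Q u (a • e)))) (ι y) := fun y hy => by
    obtain ⟨y, rfl⟩ := β.surjective y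
    rw [← h1] at hy
    exact ((mem_cent.1 ((cent_root h.nd hu ha).ge (mem_cent.2 (hy.of_map β.injective)))).map β).map ι
  obtain ⟨b, m⟩ := h.ru2 hu (le_normalizer ⟨β (sg Q u (a • e)), rfl⟩) fun y _ _ =>
    ⟨c _ (sg_comm u e y), c _ (sg_swap (ti2_iff.1 hu).1 ▸ sg_comm e u y)⟩
  refine ⟨b, (h2 _).trans ((eq_inv_of_mul_eq_one_left
    (h.eq_one (mul_mem ⟨_, rfl⟩ ⟨_, rfl⟩) m)).trans ?_)⟩
  rw [ζ, ← map_inv, sg_inv]

/-- the inversion argument: `x` is an involution centralizing `O`, not centralizing `t` modulo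
`C(L)`, and inverting `k ∈ K`.  If `k ∈ O` then `k = k⁻¹` has odd order.  If `k = o t` then
`o t ι(z) = o⁻¹ t`, so `ι z ∈ O ≤ C(L)`. -/
theorem Su.inv_K (h : Su ι t) (hk : StdZ.Ko t ι.range) {k : G} (h1 : k ∈ 𝐳[t])
    (h2 : k ∈ 𝐂[ι.range]) (hx : x ∈ 𝐂[oc 𝐳[t]]) (hz : z ≠ 1) (e1 : x * t * x⁻¹ = t * ι z)
    (e2 : x * k * x⁻¹ = k⁻¹) : k = 1 := by
  rcases hk.2 k ⟨h1, h2⟩ with o | o
  · rw [← hx k o, mul_inv_cancel_right] at e2
    exact mem_bot.1 (mem_of_odd_of_pow (odd_orderOf (odd_oc _) o) (k := 1)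
      (by rw [pow_one, pow_two]; exact mul_eq_one_iff_eq_inv.2 e2))
  · have e3 : x * (k * t) * x⁻¹ = k * t := by rw [← hx _ o, mul_inv_cancel_right]
    rw [show x * (k * t) * x⁻¹ = x * k * x⁻¹ * (x * t * x⁻¹) by group, e1, e2] at e3
    have ht : t ∈ 𝐂[ι.range] := by
      rintro _ ⟨g, rfl⟩
      exact (h.tc g).symm
    refine (hz (h.inj ((h.eq_one ⟨z, rfl⟩ ?_).trans (map_one ι).symm))).elim
    rw [show ι z = t⁻¹ * k * (k⁻¹ * (t * ι z)) by group, e3]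
    exact mul_mem (mul_mem (inv_mem ht) h2) (mul_mem h2 ht)

/-- `2`-elements of `K` are `1` or `t` -/
theorem Su.tw_K (h : Su ι t) (hk : StdZ.Ko t ι.range) {k : G} (h1 : k ∈ 𝐳[t])
    (h2 : k ∈ 𝐂[ι.range]) (h3 : StdZ.Tw k) : k = 1 ∨ k = t := by
  obtain ⟨j, hj⟩ := h3
  refine (hk.2 k ⟨h1, h2⟩).imp (fun o => mem_bot.1 (mem_of_odd_of_pow (odd_orderOf (odd_oc _) o) hj))
    fun o => ?_
  have : k * t = 1 := mem_bot.1 (mem_of_odd_of_pow (odd_orderOf (odd_oc _) o) (k := j + 1) (by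
    rw [(mem_cent.1 h1).symm.mul_pow, pow_succ, pow_mul, hj, one_pow, one_mul, pow_mul', pow_two, h.tt,
      one_pow]
    exact one_mem _))
  exact (eq_inv_of_mul_eq_one_left this).trans (inv_eq_of_mul_eq_one_left h.tt)

end Cfsg.Agent.StdO
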