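import Cfsg.Agent.StdO.RtG
import Cfsg.Agent.StdO.Rig

/-! The type-free facts `StdZ.Rt` and `StdZ.Col`. -/

set_option autoImplicit false
set_option linter.unusedSectionVars false
set_option linter.unusedVariables false

namespace Cfsg.Agent.StdO

open Subgroup Module QuadraticMap Cfsg.Agent.Class.Orth Cfsg.Agent.KSG Cfsg.Agent.PLocal.Amb
  Cfsg.Agent.Lyons
open Cfsg.Agent.StdL (cjh)
open scoped commutatorElement

variable {F V : Type*} [Field F] [Finite F] [CharP F 2] [AddCommGroup V] [Module F V]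
  [FiniteDimensional F V] {Q : QuadraticForm F V} {G : Type*} [Group G] [Finite G]
  {ι : EG Q →* G} {t : G}

local notation "𝐟" => polar Q

variable {u e : V}

local notation "ℓ" => Submodule.span F (insert u (Singleton.singleton e) : Set V)

theorem RtB.ne (hQ : ND Q) (hu : TI Q ![u, e]) {a : F} (h : sg Q u (a • e) = 1) : a = 0 := by
  obtain ⟨ts, h0, hi⟩ := ti2_iff.1 hu
  obtain ⟨r, hr⟩ := (sg_eq_one hQ ((ok_of ts).smul a) h0).1 h
  by_contra ha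
  exact hi (a⁻¹ * r) (by rw [mul_smul, ← hr, inv_smul_smul₀ ha])

theorem RtB.inj (hQ : ND Q) (hu : TI Q ![u, e]) {a b : F} (h : sg Q u (a • e) = sg Q u (b • e)) :
    a = b := by
  have o := ok_of (ti2_iff.1 hu).1
  have := RtB.ne hQ hu (a := a + b) (by rw [add_smul, sg_add (o.smul a) (o.smul b), h, sg_sq])
  rwa [← CharTwo.sub_eq_add, sub_eq_zero] at this

theorem RtB.mu (ts : TS2 Q u e) {w : V} (hw : w ∈ perp Q ℓ) : sg Q u w ∈ Qq Q u e :=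
  (mem_Qq ts).2 ⟨w, hw, 0, zero_mem _, by rw [sg_zero, mul_one]⟩

theorem RtB.me (ts : TS2 Q u e) {w : V} (hw : w ∈ perp Q ℓ) : sg Q e w ∈ Qq Q u e :=
  (mem_Qq ts).2 ⟨0, zero_mem _, w, hw, by rw [sg_zero, one_mul]⟩

theorem RtB.up (ts : TS2 Q u e) : u ∈ perp Q ℓ :=
  mem_perp2''.2 ⟨f_self u, by rw [polar_comm, ts.p]⟩

theorem RtB.ep (ts : TS2 Q u e) : e ∈ perp Q ℓ := mem_perp2''.2 ⟨ts.p, f_self e⟩

/-- an element fixing `u` and moving `e` to a third vector `w` -/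
theorem RtB.mov (hd : Dm Q) (hu : TI Q ![u, e]) : ∃ (g : EG Q) (w : V), g.1.1 u = u ∧ g.1.1 e = w ∧
    w ∈ perp Q ℓ ∧ ∀ a : F, sg Q u w ≠ sg Q u (a • e) := by
  obtain ⟨w, hw⟩ := hd.ext3 hu
  obtain ⟨t1, t2, p, hi⟩ := ti3_iff.1 hw
  obtain ⟨-, h0, -⟩ := ti2_iff.1 hu
  obtain ⟨g, g1, g2⟩ := hd.trans2 hu (ti2_iff.2 ⟨t2, h0, fun a ha => one_ne_zero (hi a 0 1 (by
    rw [zero_smul, add_zero, one_smul, ha, add_self' F])).2.2⟩)
  refine ⟨g, w, g1, g2, mem_perp2''.2 ⟨t2.p, p⟩, fun a ha => ?_⟩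
  obtain ⟨r, hr⟩ := (sg_inj hd.nd (ok_of t2) ((ok_of t1).smul a) h0).1 ha
  exact one_ne_zero (hi r a 1 (by rw [one_smul, hr, add_comm (r • u), add_self' F])).2.2

theorem RtB.scal (hd : Dm Q) (hu : TI Q ![u, e]) {c : F} (hc : c ≠ 0) : ∃ k : EG Q,
    k.1.1 u = c • u ∧ k.1.1 e = c • e ∧ ∀ w ∈ perp Q ℓ, ∃ α β : F, k.1.1 w = w + α • u + β • e := by
  obtain ⟨ts, -, -⟩ := ti2_iff.1 hu
  obtain ⟨f₁, f₂, o1, o2, p1, p2, -⟩ := exists_frame hd.nd hu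
  have key : ∀ w ∈ perp Q ℓ, (hypScale Q u f₁ c * hypScale Q e f₂ c).1 w =
      w + ((c - 1) * 𝐟 w f₁) • u + ((c - 1) * 𝐟 w f₂) • e := fun w hw => by
    obtain ⟨w1, w2⟩ := mem_perp2''.1 hw
    rw [polar_comm] at w1 w2
    change (hypScale Q u f₁ c).1 ((hypScale Q e f₂ c).1 w) = _
    rw [o2.hypScale_apply hc, w2, mul_zero, zero_smul, add_zero, o1.hypScale_apply hc,
      polar_add_left, polar_add_left, polar_smul_left, polar_smul_left, p2, w1, polar_comm Q e u,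
      ts.p]
    simp only [smul_zero, add_zero, mul_zero, zero_smul]
    abel
  refine ⟨⟨_, mul_mem (hd.hypScale_mem o1 hc) (hd.hypScale_mem o2 hc)⟩, ?_, ?_,
    fun w hw => ⟨_, _, key w hw⟩⟩
  · rw [key u (RtB.up ts), o1.pol, p1]; simp [sub_smul]
  · rw [key e (RtB.ep ts), o2.pol, p2]; simp [sub_smul]

theorem RtB.scal2 (hd : Dm Q) (hu : TI Q ![u, e]) {c : F} (hc : c ≠ 0) : ∃ k : EG Q,
    (∀ a : F, k * sg Q u (a • e) * k⁻¹ = sg Q u ((c ^ 2 * a) • e)) ∧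
    ∀ x ∈ Qq Q u e, ∀ y ∈ Qq Q u e, ∀ a : F, ⁅x, y⁆ = sg Q u (a • e) →
      ⁅x, k * y * k⁻¹⁆ = sg Q u ((c * a) • e) := by
  obtain ⟨ts, -, -⟩ := ti2_iff.1 hu
  obtain ⟨k, k1, k2, k3⟩ := RtB.scal hd hu hc
  have o := ok_of ts
  have kp : ∀ w ∈ perp Q ℓ, k.1.1 w ∈ perp Q ℓ := fun w hw => by
    obtain ⟨α, β, e⟩ := k3 w hw
    rw [e]
    exact add_mem (add_mem hw (Submodule.smul_mem _ _ (RtB.up ts)))
      (Submodule.smul_mem _ _ (RtB.ep ts))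
  have kf : ∀ v ∈ perp Q ℓ, ∀ w ∈ perp Q ℓ, 𝐟 v (c • k.1.1 w) = c * 𝐟 v w := fun v hv w hw => by
    obtain ⟨α, β, e⟩ := k3 w hw
    obtain ⟨v1, v2⟩ := mem_perp2''.1 hv
    rw [polar_comm] at v1 v2
    rw [polar_smul_right, e, polar_add_right, polar_add_right, polar_smul_right, polar_smul_right,
      v1, v2, smul_zero, smul_zero, add_zero, add_zero, smul_eq_mul]
  refine ⟨k, fun a => ?_, fun x hx y hy a e => ?_⟩
  · rw [conj_sg, map_smul, k1, k2, sg_smul ((o.smul c).smul a), smul_smul, smul_smul]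
    congr 2; ring
  obtain ⟨v, hv, v', hv', rfl⟩ := (mem_Qq ts).1 hx
  obtain ⟨w, hw, w', hw', rfl⟩ := (mem_Qq ts).1 hy
  rw [cm_Qq ts hv hv' hw hw'] at e
  rw [← conj_mul, conj_sg, conj_sg, k1, k2, sg_smul ⟨ts.l, (mem_perp2''.1 (kp w hw)).1⟩,
    sg_smul ⟨ts.r, (mem_perp2''.1 (kp w' hw')).2⟩, cm_Qq ts hv hv'
      (Submodule.smul_mem _ _ (kp w hw)) (Submodule.smul_mem _ _ (kp w' hw')), kf v hv w' hw',
    kf v' hv' w hw, ← mul_add, RtB.inj hd.nd hu e]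

theorem RtB.res (h : Rp ι) (hu : TI Q ![u, e]) {a : F} (ha : a ≠ 0) {X : Subgroup G}
    (h1 : X ≤ ι.range ⊓ 𝐳[ζ ι u e a]) (h2 : StdZ.Pf X) : X ≤ (PP Q u e).map ι := by
  have := finite_EG (Q := Q)
  have e1 : (X.comap ι).map ι = X := map_comap_eq_self (h1.trans inf_le_left)
  rw [← e1]
  refine map_mono (h.toDm.res hu (fun g hg => ?_) ?_)
  · rw [← cent_root h.nd hu ha]
    exact mem_cent.2 (h.comm_iff.1 (mem_cent.1 (h1 hg).2))
  · refine (map_le_map_iff_of_injective h.inj).1 ?_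
    rw [map_commutator, e1]; exact h2

/-- Fields: `pfL` `Rp.perfect`; `zL` `Rp.eq_one`; `oL` `Rp.le_or` (`L` has even order); `out`
`Su.out`; `res` `cent_root`, `Dm.res`; `hQ` `Dm.core` transported by the injective `ι`; `com`
`cm_Qq`; `QP` `Dm.QP` with `a = 0`; `cQ` `Rp.ru2`; `scal`: `h = hypScale u f₁ c * hypScale e f₂ c`
multiplies `ℓ` by `c` and acts trivially on `ℓ^⊥/ℓ`, so `h (sg u w * sg e w') h⁻¹ ≡
sg u (c w) * sg e (c w')` modulo `Z`, `cm_Qq`; `syl` `Dm.syl`; `nis`: `trans2` to `(u, w)`, `ext3`. -/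
theorem Su.rt (h : Su ι t) (hu : TI Q ![u, e]) :
    StdZ.Rt t ι.range ((PP Q u e).map ι) ((Qq Q u e).map ι) (ζ ι u e) := by
  have := finite_EG (Q := Q)
  obtain ⟨ts, h0, hi⟩ := ti2_iff.1 hu
  have hd := h.toDm
  have inj : ∀ a, ζ ι u e a = 1 → a = 0 := fun a ha =>
    RtB.ne hd.nd hu (h.inj (ha.trans (map_one ι).symm))
  have pz : ∀ a : F, ∀ g ∈ 𝐳[sg Q u e], ι g ∈ 𝐳[ζ ι u e a] := fun a g hg =>
    mem_cent.2 ((comm_root_smul hd.nd hu (mem_cent.1 hg).symm a).symm.map ι)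
  refine ⟨h.tt, h.t1, h.tL, h.nrm, h.cyc, h.toRp.perfect.ge, fun x h1 h2 => ?_,
    fun X h1 h2 h3 => ?_, fun X h1 h2 => h.out h1 h2, ζ_add ts, inj,
    fun a => mem_map_of_mem ι (RtB.mu ts (Submodule.smul_mem _ _ (RtB.ep ts))), map_le_range _ _,
    ?_, fun a => map_le_iff_le_comap.2 fun g hg => pz a g (PP_le_S ts hg),
    fun a ha X => RtB.res h.toRp hu ha, ?_, ?_, ?_, ?_, fun g hg => ?_, fun c hc => ?_, ?_, ?_⟩
  · rw [h.toRp.eq_one h1 h2, orderOf_one]; exact odd_one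
  · rcases h.toRp.le_or h2 with k | k
    · refine absurd ((orderOf_eq_prime (x := ζ ι u e 1) (p := 2) ?_ fun k =>
        one_ne_zero (inj 1 k)).symm.dvd.trans (X.orderOf_dvd_natCard (k ⟨_, rfl⟩)))
        (by rwa [← even_iff_two_dvd, Nat.not_even_iff_odd])
      rw [pow_two, ζ, ← map_mul, sg_sq, map_one]
    · exact ((le_inf le_rfl h1).trans k.le).trans bot_le
  · exact (map_mono (hd.pf hu)).trans (map_commutator _ _ _).le
  · rw [← PLocal.CP.pCoreOf_map_of_injective ι h.inj, hd.core hu]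
  · rintro _ ⟨x, hx, rfl⟩ _ ⟨y, hy, rfl⟩
    obtain ⟨v, hv, v', hv', rfl⟩ := (mem_Qq ts).1 hx
    obtain ⟨w, hw, w', hw', rfl⟩ := (mem_Qq ts).1 hy
    exact ⟨_, by rw [← map_commutatorElement, cm_Qq ts hv hv' hw hw']; rfl⟩
  · by_contra k
    have : ⁅Qq Q u e, Qq Q u e⁆ ≤ ⊥ := commutator_le.2 fun x hx y hy => by_contra fun n =>
      k ⟨_, mem_map_of_mem ι hx, _, mem_map_of_mem ι hy, fun e => n (h.inj (by
        rw [map_commutatorElement, e, map_one]))⟩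
    exact one_ne_zero (RtB.ne hd.nd hu (this (hd.z_mem hu 1)))
  · rintro _ ⟨x, hx, rfl⟩
    refine ⟨0, ?_⟩
    rw [ζ, zero_smul, sg_zero, map_one, mul_one, ← map_commutator]
    exact mem_map_of_mem ι (commutator_mono le_rfl (Fx_le_PP ts) (hd.QP hu hx))
  · refine h.toRp.ru2 hu (h.nrm hg.1) fun y y1 y2 => ⟨?_, ?_⟩
    · exact (hg.2 _ (mem_map_of_mem ι (RtB.mu ts (mem_perp2''.2 ⟨y1, y2⟩)))).symm
    · exact (hg.2 _ (mem_map_of_mem ι (RtB.me ts (mem_perp2''.2 ⟨y1, y2⟩)))).symm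
  · obtain ⟨k, k1, k2⟩ := RtB.scal2 hd hu hc
    refine ⟨ι k, ⟨k, rfl⟩, fun a => ?_, ?_⟩
    · rw [ζ, ← map_inv, ← map_mul, ← map_mul, k1]; rfl
    · rintro _ ⟨x, hx, rfl⟩ _ ⟨y, hy, rfl⟩ a e
      rw [← map_commutatorElement] at e
      rw [← map_inv, ← map_mul, ← map_mul, ← map_commutatorElement, k2 x hx y hy a (h.inj e)]; rfl
  · obtain ⟨U, U1, U2⟩ := hd.syl hu
    exact ⟨U.map ι, ι.range_eq_map ▸ U1.map ι, fun a => map_le_iff_le_comap.2 fun g hg =>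
      pz a g (U2 hg)⟩
  · obtain ⟨g, w, g1, g2, -, hn⟩ := RtB.mov hd hu
    have e1 : ι g * ζ ι u e 1 * (ι g)⁻¹ = ι (sg Q u w) := by
      rw [ζ_one, ← map_inv, ← map_mul, ← map_mul, conj_sg, g1, g2]
    refine ⟨ι g, ⟨g, rfl⟩, ?_, ?_⟩ <;> rw [e1]
    · exact fun k => hn 1 (h.inj k)
    · exact mem_cent.2 ((sg_comm _ _ _).map ι)

/-- `m = ι g`, `g u = u`, `g e = w` with `TI ![u, e, w]`; `cj(m, P) = ι 𝐳[sg u w]`, `cent_root`. -/
theorem Su.col (h : Su ι t) (hu : TI Q ![u, e]) (hq : Nat.card F ≠ 2) :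
    ∃ m, StdZ.Col ι.range ((PP Q u e).map ι) ((Qq Q u e).map ι) (ζ ι u e) m := by
  have := finite_EG (Q := Q)
  obtain ⟨ts, h0, hi⟩ := ti2_iff.1 hu
  obtain ⟨g, w, g1, g2, hw, hn⟩ := RtB.mov h.toDm hu
  have e1 : ∀ a, ι g * ζ ι u e a * (ι g)⁻¹ = ι (g * sg Q u (a • e) * g⁻¹) := fun a => by
    rw [ζ, ← map_inv, ← map_mul, ← map_mul]
  have e2 : ∀ a : F, g * sg Q u (a • e) * g⁻¹ = sg Q u (a • w) := fun a => by
    rw [conj_sg, map_smul, g1, g2]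
  refine ⟨ι g, ⟨g, rfl⟩, fun a => ?_, fun a k => ?_, fun a ha => ?_⟩
  · rw [e1, e2]; exact mem_map_of_mem ι (RtB.mu ts (Submodule.smul_mem _ _ hw))
  · rw [e1, e2, one_smul] at k; exact hn a (h.inj k)
  · rintro _ ⟨⟨x, -, rfl⟩, hx⟩
    rw [e1] at hx
    have c := h.toRp.comm_iff.1 (mem_cent.1 hx)
    refine mem_cj.2 ?_
    rw [← map_inv, ← map_mul, ← map_mul]
    refine mem_map_of_mem ι ?_
    rw [PP, if_neg hq, ← cent_root h.nd hu ha]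
    refine mem_cent.2 ?_
    have := c.map (MulAut.conj g⁻¹)
    simpa [mul_assoc] using this

end Cfsg.Agent.StdO
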