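import Cfsg.Agent.StdO.RgA
import Cfsg.Agent.StdO.RtB
import Cfsg.Agent.StdO.Ou
import Cfsg.Agent.StdZ.One

/-! `q = 2`: the translation `t ↦ t z` acting trivially on `Q / Z` (`StdZ.Rg0`).  `R = Su.rt`. -/

set_option autoImplicit false
set_option linter.unusedSectionVars false
set_option linter.unusedVariables false

namespace Cfsg.Agent.StdO

open Subgroup Module QuadraticMap Cfsg.Agent.Class.Orth Cfsg.Agent.KSG Cfsg.Agent.PLocal.Amb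
  Cfsg.Agent.Lyons
open Cfsg.Agent.StdL (cjh)
open scoped commutatorElement

variable {F V : Type*} [Field F] [Finite F] [CharP F 2] [AddCommGroup V] [Module F V]
  [FiniteDimensional F V] {Q : QuadraticForm F V} {G : Type*} [Group G] [Finite G]
  {ι : EG Q →* G} {t : G}

local notation "𝐟" => polar Q

variable {u e a : V} {x : G}

namespace RgB

theorem eq01 (hq : Nat.card F = 2) (c : F) : c = 0 ∨ c = 1 := by
  obtain ⟨y, -, hy⟩ := (Nat.card_eq_two_iff' (0 : F)).1 hq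
  exact or_iff_not_imp_left.2 fun h => (hy c h).trans (hy 1 one_ne_zero).symm

theorem cEs (k : OG Q) (u w : V) : cE (SS.oO Q k) (sg Q u w) = sg Q (k.1 u) (k.1 w) :=
  Subtype.ext ((cE_oO k _).trans (conj_eichler k u w))

theorem ιc (ι : EG Q →* G) (l g : EG Q) : ι l * ι g * (ι l)⁻¹ = ι (l * g * l⁻¹) := by
  rw [map_mul, map_mul, map_inv]

theorem ns (hd : Dm Q) (hu : TI Q ![u, e]) : ∃ a, Q a ≠ 0 ∧ 𝐟 u a = 0 ∧ 𝐟 e a = 0 := by
  obtain ⟨h1, h2⟩ := Rig.ts2 hu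
  have d8 := hd.d8
  obtain ⟨x, hx, y, hy, oh⟩ := exists_hyp hd.nd h1 (by omega)
  exact ⟨x + y, by rw [Q_add, oh.left, oh.right, oh.pol]; simp, mem_perp2''.1 (add_mem hx hy)⟩

theorem rfix (h : 𝐟 u a = 0) : (refl Q a).1 u = u := refl_apply_of_polar_eq_zero h

theorem rr (a y : V) : (refl Q a).1 ((refl Q a).1 y) = y := by
  rw [← OG.mul_apply, refl_mul_self, OG.one_apply]

theorem rpol (h : 𝐟 u a = 0) (y : V) : 𝐟 u ((refl Q a).1 y) = 𝐟 u y := by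
  conv_lhs => rw [← rfix h, OG.map_polar]

theorem e_not (hu : TI Q ![u, e]) (ha : Q a ≠ 0) (a1 : 𝐟 u a = 0) :
    e ∉ Submodule.span F {u, a} := fun c => by
  obtain ⟨ue, -, ne⟩ := ti2_iff.1 hu
  obtain ⟨α, γ, rfl⟩ := Submodule.mem_span_pair.1 c
  have := ue.r
  rw [Q_add, Q_smul, Q_smul, polar_smul_left', polar_smul_right', a1, ue.l] at this
  exact ne α (by rw [show γ = 0 by simpa [ha] using this, zero_smul, add_zero])

theorem wit (hd : Dm Q) (hu : TI Q ![u, e]) (ha : Q a ≠ 0) (a1 : 𝐟 u a = 0) (a2 : 𝐟 e a = 0) {p : V}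
    (hp : Q p = 0) (p1 : 𝐟 u p = 0) (p2 : 𝐟 p a = 0) (p3 : p ∉ Submodule.span F {u, a}) :
    ∃ l : EG Q, l.1.1 e = p ∧ l.1.1 u = u ∧ l.1.1 a = a := by
  obtain ⟨ue, h0, -⟩ := ti2_iff.1 hu
  have d8 := hd.d8
  have l2 : LinearIndependent F ![u, a] := (LinearIndependent.pair_iff' h0).2 fun c e =>
    ha (by rw [← e, Q_smul, ue.l, mul_zero])
  have li : ∀ {p}, p ∉ Submodule.span F {u, a} → LinearIndependent F ![p, u, a] := fun h =>
    linearIndependent_finCons.2 ⟨l2, by simpa [Set.pair_comm] using h⟩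
  have c1 := ue.p
  have c2 := (polar_comm Q _ _).trans c1
  have c3 := (polar_comm Q _ _).trans p1
  have c4 := (polar_comm Q _ _).trans p2
  have c5 := (polar_comm Q _ _).trans a2
  obtain ⟨l, hl⟩ := hd.witt (li (e_not hu ha a1)) (li p3) (fun i => by fin_cases i <;> simp [hp, ue.r])
    (fun i j => by fin_cases i <;> fin_cases j <;> simp [-polar_self, f_self, c1, c2, c3, c4, c5, p1, p2, a2])
    (by omega)
  exact ⟨l, hl 0, hl 1, hl 2⟩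

/-- `x` translates `t` by `sg u p` and acts on `V_u` by `y ↦ refl a y + δ f(y, p) p` -/
structure Tv (ι : EG Q →* G) (t : G) (u a p : V) (δ : F) (x : G) : Prop where
  cO : x ∈ 𝐂[oc 𝐳[t]]
  tr : x * t * x⁻¹ = t * ι (sg Q u p)
  act : ∀ w, 𝐟 u w = 0 → x * ι (sg Q u w) * x⁻¹ = ι (sg Q u ((refl Q a).1 w + (δ * 𝐟 w p) • p))

theorem Tv.conj {δ : F} (h : Su ι t) (hu : TI Q ![u, e]) (hx : Tv ι t u a e δ x) {l : EG Q}
    (l1 : l.1.1 u = u) (l2 : l.1.1 a = a) : Tv ι t u a (l.1.1 e) δ (ι l * x * (ι l)⁻¹) := by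
  have m := (h.rt hu).L_le (⟨l, rfl⟩ : ι l ∈ ι.range)
  have c := h.tc l
  refine ⟨mul_mem (mul_mem m hx.cO) (inv_mem m), ?_, fun w hw => ?_⟩
  · calc _ = ι l * (x * ((ι l)⁻¹ * t * ι l) * x⁻¹) * (ι l)⁻¹ := by group
      _ = ι l * t * (ι l)⁻¹ * (ι l * ι (sg Q u e) * (ι l)⁻¹) := by
        rw [mul_assoc (ι l)⁻¹, c.eq, inv_mul_cancel_left, hx.tr]; group
      _ = _ := by rw [← c.eq, mul_inv_cancel_right, ιc, conj_sg, l1]
  · obtain ⟨w, rfl⟩ : ∃ y, w = l.1.1 y := ⟨_, (OG.apply_inv_apply l.1 w).symm⟩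
    rw [← l1, OG.map_polar] at hw
    calc _ = ι l * (x * ((ι l)⁻¹ * (ι l * ι (sg Q u w) * (ι l)⁻¹) * ι l) * x⁻¹) * (ι l)⁻¹ := by
          rw [ιc, conj_sg, l1]; group
      _ = ι l * (x * ι (sg Q u w) * x⁻¹) * (ι l)⁻¹ := by group
      _ = _ := by
        rw [hx.act w hw, ιc, conj_sg, l1, map_add, map_smul, OG.map_polar]
        conv_rhs => rw [← l2, ← conj_refl, OG.mul_apply, OG.mul_apply, OG.inv_apply_apply]

end RgB

/-- `R.mem_NP` : `x` normalizes `ι (Fx ℓ)`; pull back along `ι` and apply `rgA`. -/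
theorem Su.rg_act (h : Su ι t) (hq : Nat.card F = 2) (hu : TI Q ![u, e])
    (h1 : x * t * x⁻¹ = t * ι (sg Q u e)) (h2 : Commute x (ι (sg Q u e))) :
    ∃ k : OG Q, Commute k (eichler Q u e) ∧
      ∀ g ∈ Qq Q u e, x * ι g * x⁻¹ = ι (cE (SS.oO Q k) g) := by
  have R := h.rt hu
  have ue := (ti2_iff.1 hu).1
  have hx := R.mem_NP (g := x) one_ne_zero (Or.inr (by rw [ζ_one, h1]))
    (by rw [ζ_one, h2.eq, mul_inv_cancel_right])
  rw [PP, if_pos hq] at hx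
  let E := (Fx Q (Submodule.span F {u, e})).equivMapOfInjective ι h.inj
  let α := E.trans ((Subgroup.normalizerMonoidHom _ ⟨x, hx⟩).trans E.symm)
  have hα : ∀ g, ι (α g).1 = x * ι g.1 * x⁻¹ := fun g =>
    congrArg Subtype.val (E.apply_symm_apply (Subgroup.normalizerMonoidHom _ ⟨x, hx⟩ (E g)))
  obtain ⟨k, k1, k2⟩ := h.toDm.rgA hq hu α fun g hg => Subtype.ext (h.inj (by
    rw [hα, hg, h2.eq, mul_inv_cancel_right]))
  refine ⟨k, k1, fun g hg => ?_⟩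
  rw [← hα ⟨g, Qq_le_Fx ue hg⟩]
  exact congrArg ι (Subtype.ext ((k2 _ hg).trans (cE_oO k g).symm))

/-- (B2) `k` from `rg_act` fixes all `sg u w`, `w ∈ ℓ^⊥`.  A non-singular `w` gives `k u = u`
(`eq_of_sg_eq`, `q = 2`), `sg_inj`, `eq_eichler'`: `k = eichler u g`; `R.rg0_of` with
`c = ι (sg u g)`. -/
theorem Su.rg_fin (h : Su ι t) (hq : Nat.card F = 2) (hu : TI Q ![u, e]) (h0 : x ∈ 𝐂[oc 𝐳[t]])
    (h1 : x * t * x⁻¹ = t * ι (sg Q u e))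
    (h2 : ∀ w, 𝐟 u w = 0 → 𝐟 e w = 0 → Commute x (ι (sg Q u w))) :
    StdZ.Rg0 t ((Qq Q u e).map ι) (ζ ι u e) := by
  have R := h.rt hu
  obtain ⟨ue, u0, -⟩ := ti2_iff.1 hu
  obtain ⟨k, -, k2⟩ := h.rg_act hq hu h1 (h2 e ue.p (f_self e))
  have k3 : ∀ w, 𝐟 u w = 0 → 𝐟 e w = 0 → sg Q u w = sg Q (k.1 u) (k.1 w) := fun w w1 w2 => h.inj (by
    rw [← RgB.cEs, ← k2 _ (RtB.mu ue (mem_perp2''.2 ⟨w1, w2⟩)), (h2 w w1 w2).eq, mul_inv_cancel_right])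
  obtain ⟨a, a0, a1, a2⟩ := RgB.ns h.toDm hu
  obtain ⟨c, c0, k4⟩ := eq_of_sg_eq h.nd ⟨ue.l, a1⟩
    ⟨by rw [OG.map_Q, ue.l], by rw [OG.map_polar, a1]⟩ u0 a0 (k3 a a1 a2)
  rw [(RgB.eq01 hq c).resolve_left c0, one_smul] at k4
  obtain ⟨g, o, rfl⟩ := eq_eichler' h.nd hu k4 fun y y1 y2 => (sg_inj h.nd
    ⟨ue.l, by rw [← k4, OG.map_polar, y1]⟩ ⟨ue.l, y1⟩ u0).1 (by rw [k3 y y1 y2, k4])
  refine R.rg0_of (c := ι (sg Q u g)) (by omega) h0 (by rw [ζ_one, h1])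
    ⟨⟨_, rfl⟩, mem_cent.2 ((sg_comm _ _ _).map ι)⟩ ?_
  rintro _ ⟨v, hv, rfl⟩
  exact ⟨0, by rw [R.zero, mul_one, k2 v hv, RgB.ιc, ← cE_oO']; rfl⟩

/-- (B1) Take `g` singular, `g ⊥ u, a`, `𝐟 g e = 1` (`exists_dual`, add a multiple of `e`),
`z' = ι (sg u g)`, `y = x z' x⁻¹`.  `y` commutes with `x (t z) x⁻¹ = t` and with `ι (sg u w)`,
`w ∈ ℓ^⊥` (permuted by `x`), so `y = k ι(sg u g')` by `rv0`, `k ∈ {1, t}` (`Su.inv`).  On `ι Q`, `y`
acts like `refl a * sg u g * refl a = sg u g` (`S_norm_Qq`), so `ι (sg u (g + g'))` centralizes `ι Q`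
and `ru2` gives `sg u g' = sg u (g + δ e)`.  Suppose `k = t`.  `t z'` is `L`-conjugate to `t z`
(`conj_root`), hence conjugate to `t`.  If `δ = 0`, `x z' x⁻¹ = t z'`; if `δ = 1`,
`x (t z') x⁻¹ = z'`; both contradict `R.not_conj₂`.  So `k = 1`; `w = (w + 𝐟 w e • g) + 𝐟 w e • g`. -/
theorem Su.rg_V (h : Su ι t) (hq : Nat.card F = 2) (hu : TI Q ![u, e]) (ha : Q a ≠ 0)
    (a1 : 𝐟 u a = 0) (a2 : 𝐟 e a = 0) (h1 : x * t * x⁻¹ = t * ι (sg Q u e))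
    (h2 : ∀ g ∈ Qq Q u e, x * ι g * x⁻¹ = ι (cE (SS.oO Q (refl Q a)) g)) :
    ∃ δ : F, ∀ w, 𝐟 u w = 0 →
      x * ι (sg Q u w) * x⁻¹ = ι (sg Q u ((refl Q a).1 w + (δ * 𝐟 w e) • e)) := by
  have R := h.rt hu
  obtain ⟨ue, u0, -⟩ := ti2_iff.1 hu
  have two := two_zero F
  have := finite_EG (Q := Q)
  have act : ∀ w, 𝐟 u w = 0 → 𝐟 e w = 0 → x * ι (sg Q u w) * x⁻¹ = ι (sg Q u ((refl Q a).1 w)) :=
    fun w w1 w2 => by rw [h2 _ (RtB.mu ue (mem_perp2''.2 ⟨w1, w2⟩)), RgB.cEs, RgB.rfix a1]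
  obtain ⟨g, g0, g1, g2, g3⟩ : ∃ g, Q g = 0 ∧ 𝐟 u g = 0 ∧ 𝐟 g a = 0 ∧ 𝐟 e g = 1 := by
    obtain ⟨g, g1, g2⟩ := exists_perp h.nd (RgB.e_not hu ha a1) 1
    rw [mem_perp2''] at g1
    refine ⟨g + Q g • e, ?_, ?_, ?_, ?_⟩
    · rw [Q_add, Q_smul, ue.r, polar_smul_right', polar_comm, g2]; linear_combination Q g * two
    · rw [polar_add_right, polar_smul_right', g1.1, ue.p]; simp
    · rw [polar_add_left, polar_smul_left', polar_comm, g1.2, a2]; simp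
    · rw [polar_add_right, polar_smul_right', g2, f_self]; simp
  have og : Ok Q u g := ⟨ue.l, g1⟩
  have oe : Ok Q u e := ok_of ue
  have sq : ∀ v w, ι (sg Q v w) * ι (sg Q v w) = 1 := fun v w => by rw [← map_mul, sg_sq, map_one]
  obtain ⟨y, hy⟩ : ∃ y, y = x * ι (sg Q u g) * x⁻¹ := ⟨_, rfl⟩
  have xz : x * ι (sg Q u e) * x⁻¹ = ι (sg Q u e) := by rw [act e ue.p (f_self e), RgB.rfix a2]
  have xt : x * (t * ι (sg Q u e)) * x⁻¹ = t := by rw [← conj_mul, h1, xz, mul_assoc, sq, mul_one]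
  have cj : ∀ {b c : G}, Commute b c → Commute (x * b * x⁻¹) (x * c * x⁻¹) := fun k =>
    k.map (MulAut.conj x)
  have yt : Commute t y := by
    rw [← xt, hy]; exact cj ((h.tc _).mul_left ((sg_comm _ _ _).map ι))
  obtain ⟨g', o', m⟩ := h.toRp.rv0 hu (h.nrm (mem_cent.2 yt)) fun w w1 w2 => by
    have := act _ ((RgB.rpol a1 w).trans w1) ((RgB.rpol a2 w).trans w2)
    rw [RgB.rr] at this
    rw [← this, hy]; exact cj ((sg_comm _ _ _).map ι)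
  obtain ⟨k, hk⟩ : ∃ k, k = y * (ι (sg Q u g'))⁻¹ := ⟨_, rfl⟩
  have yk : y = k * ι (sg Q u g') := by rw [hk, inv_mul_cancel_right]
  rw [← hk] at m
  have kc : ∀ v, k * ι v = ι v * k := fun v => (m _ ⟨v, rfl⟩).symm
  have k2 : k * k = 1 := by
    have : y * y = 1 := by rw [hy, conj_mul, sq, mul_one, mul_inv_cancel]
    rwa [yk, mul_assoc, ← mul_assoc (ι _), ← kc, mul_assoc, sq, mul_one] at this
  obtain ⟨δ, hδ⟩ := h.toRp.ru2 (n := ι (sg Q u (g + g'))) hu (le_normalizer ⟨_, rfl⟩) fun w w1 w2 => by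
    refine ⟨(sg_comm _ _ _).map ι, Commute.map ?_ ι⟩
    have m1 := RtB.me ue (mem_perp2''.2 ⟨(RgB.rpol a1 w).trans w1, (RgB.rpol a2 w).trans w2⟩)
    have e1 := h2 _ m1
    rw [RgB.cEs, RgB.rfix a2, RgB.rr] at e1
    have e2 := h2 _ (conj_mem_of_mem_normalizer (S_norm_Qq h.nd hu (mem_cent.2 (sg_comm u e g))) m1)
    rw [map_mul (cE _), map_mul (cE _), map_inv (cE _), RgB.cEs, RgB.cEs, RgB.rfix a1, RgB.rfix a2,
      RgB.rfix g2, RgB.rr, ← RgB.ιc, ← conj_mul, ← conj_mul, ← conj_inv, ← hy, e1, yk, mul_inv_rev,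
      show k * ι (sg Q u g') * ι (sg Q e w) * ((ι (sg Q u g'))⁻¹ * k⁻¹) =
        k * (ι (sg Q u g') * ι (sg Q e w) * (ι (sg Q u g'))⁻¹) * k⁻¹ by group, RgB.ιc, kc,
      mul_inv_cancel_right] at e2
    have e3 := h.inj e2
    rw [sg_add og o', ← sg_inv u g]
    change _ * _ = _ * _
    rw [mul_assoc, mul_inv_eq_iff_eq_mul.1 e3]
    group
  have e1 : ι (sg Q u g') = ι (sg Q u (g + δ • e)) := by
    have := h.toRp.eq_one (x := ι (sg Q u (g + g')) * ι (sg Q u (δ • e))) (mul_mem ⟨_, rfl⟩ ⟨_, rfl⟩) hδ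
    rw [sg_add og o', map_mul, mul_assoc, mul_eq_one_iff_eq_inv', ← map_inv, sg_inv,
      ← eq_mul_inv_iff_mul_eq, ← map_inv, sg_inv] at this
    rw [this, sg_add og (oe.smul δ), map_mul]
  rw [e1] at yk
  rcases h.inv (mem_cent.2 (hk ▸ yt.mul_right (h.tc _).inv_right)) m k2 with rfl | rfl
  · refine ⟨δ, fun w w1 => ?_⟩
    rcases RgB.eq01 hq (𝐟 w e) with c | c
    · rw [c, mul_zero, zero_smul, add_zero, act w w1 (by rw [polar_comm, c])]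
    have w2 : 𝐟 u (w + g) = 0 := by rw [polar_add_right, w1, g1, add_zero]
    have w3 : 𝐟 e (w + g) = 0 := by rw [polar_add_right, polar_comm, c, g3]; linear_combination two
    have e2 : w = w + g + g := by rw [add_assoc, add_self' F, add_zero]
    rw [c, mul_one]
    conv_lhs => rw [e2, sg_add ⟨ue.l, w2⟩ og, map_mul, ← conj_mul, act _ w2 w3, ← hy, yk, one_mul,
      ← map_mul, ← sg_add ⟨ue.l, (RgB.rpol a1 _).trans w2⟩ (og.add (oe.smul δ)), map_add, RgB.rfix g2,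
      add_assoc, ← add_assoc g, add_self' F, zero_add]
  exfalso
  obtain ⟨l, l1, l2⟩ := h.toDm.trans2 hu (ti2_iff.2 ⟨⟨ue.l, g0, g1⟩, u0, fun c e => by
    rw [e, polar_smul_right', polar_comm, ue.p, mul_zero] at g3; exact zero_ne_one g3⟩)
  have lz : ι l * ζ ι u e 1 * (ι l)⁻¹ = ι (sg Q u g) := by rw [ζ_one, RgB.ιc, conj_sg, l1, l2]
  have lt : ι l * x * k * (ι l * x)⁻¹ = k * ι (sg Q u g) := by
    rw [← lz, ζ_one, ← mul_assoc, ← mul_assoc, kc, mul_assoc (ι l) k, ← h1]; group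
  rcases RgB.eq01 hq δ with rfl | rfl
  · refine R.not_conj₂ (ι l * x) (x * ι l) 1 ?_
    rw [zero_smul, add_zero] at yk
    rw [lt, ← yk, hy, ← lz]; group
  · refine R.not_conj₂ (x * (ι l * x)) (ι l) 1 ?_
    rw [one_smul, sg_add og oe, map_mul] at yk
    rw [show x * (ι l * x) * k * (x * (ι l * x))⁻¹ = x * (ι l * x * k * (ι l * x)⁻¹) * x⁻¹ by group, lt,
      ← conj_mul, h1, ← hy, yk, lz, mul_assoc, ← mul_assoc (ι _) k, ← kc, mul_assoc k, ← mul_assoc k, k2,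
      one_mul, ← mul_assoc, ((sg_comm u e g).map ι).eq, mul_assoc, sq, mul_one]

/-- `x` from `R.tr_two`, `k` from `rg_act`.  If `k ∈ EG`: `R.rg0_of`.  Otherwise take `a ∈ ℓ^⊥`
non-singular, `c = k * refl a ∈ EG`, replace `x` by `ι(c)⁻¹ x` (`R.L_le`) and apply `rg_V`.  Take `w`
singular in `⟨u,e,a⟩^⊥ \ ⟨u,e,a⟩`.  For `p ∈ {e, w, e + w}` let `x_p = ι l x ι l⁻¹` with `l` fixing
`u, a` and `l e = p` (`Dm.witt`): `x_p t x_p⁻¹ = t ι(sg u p)` and `x_p` acts on `V_u` by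
`y ↦ refl a y + δ 𝐟 y p • p`.  `δ = 0`: `x_w x_{e+w}` centralizes `V_u` and sends `t` to `t z`.
`δ = 1`: `n = x_e x_w x_{e+w}` fixes `t` and acts as `refl a` followed by `sg e w`;
`x_e n ι(sg e w)` acts as `y ↦ y + 𝐟 y e • e`.  In both cases `rg_fin` applies. -/
theorem Su.rg0 (h : Su ι t) (hq : Nat.card F = 2) (hu : TI Q ![u, e])
    (hz : StdZ.Fz t (ζ ι u e) 𝐂[oc 𝐳[t]]) : StdZ.Rg0 t ((Qq Q u e).map ι) (ζ ι u e) := by
  have R := h.rt hu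
  obtain ⟨ue, u0, -⟩ := ti2_iff.1 hu
  have d10 := h.q2 hq
  obtain ⟨x, ⟨x0, -⟩, -, x1, x2⟩ := R.tr_two hz
  rw [ζ_one] at x1 x2
  obtain ⟨k, k1, k2⟩ := h.rg_act hq hu x1 (mul_inv_eq_iff_eq_mul.1 x2)
  by_cases hk : k ∈ EG Q
  · refine R.rg0_of (c := ι ⟨k, hk⟩) (by omega) x0 (by rw [ζ_one, x1])
      ⟨⟨_, rfl⟩, mem_cent.2 (by
        rw [ζ_one]; exact Commute.map (Subtype.ext k1.symm.eq : Commute (sg Q u e) ⟨k, hk⟩) ι)⟩ ?_
    rintro _ ⟨v, hv, rfl⟩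
    exact ⟨0, by rw [R.zero, mul_one, k2 v hv, RgB.ιc, ← cE_oO']⟩
  obtain ⟨a, a0, a1, a2⟩ := RgB.ns h.toDm hu
  obtain ⟨c, hc⟩ : ∃ c : EG Q, c.1 = k * refl Q a :=
    ⟨⟨_, h.toDm.mul_mem hk (h.toDm.refl_notMem a0)⟩, rfl⟩
  have c1 : ∀ g, c⁻¹ * cE (SS.oO Q k) g * c⁻¹⁻¹ = cE (SS.oO Q (refl Q a)) g := fun g => Subtype.ext (by
    rw [coe_mul, coe_mul, coe_inv, coe_inv, coe_inv, cE_oO, cE_oO, hc, mul_inv_rev, refl_inv, mul_inv_rev,
      refl_inv]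
    group)
  have x3 : ∀ g ∈ Qq Q u e, ι c⁻¹ * x * ι g * (ι c⁻¹ * x)⁻¹ = ι (cE (SS.oO Q (refl Q a)) g) :=
    fun g hg => by rw [← c1, ← RgB.ιc, ← k2 g hg]; group
  have x4 : ι c⁻¹ * x * t * (ι c⁻¹ * x)⁻¹ = t * ι (sg Q u e) := by
    have e1 := x3 _ (RtB.mu ue (RtB.ep ue))
    rw [RgB.cEs, RgB.rfix a1, RgB.rfix a2] at e1
    calc _ = ι c⁻¹ * (x * t * x⁻¹) * (ι c⁻¹)⁻¹ := by group
      _ = ι c⁻¹ * t * (ι c⁻¹)⁻¹ * (ι c⁻¹ * x * ι (sg Q u e) * (ι c⁻¹ * x)⁻¹) := by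
        rw [x1]; conv_lhs => rw [← x2]
        group
      _ = _ := by rw [e1, ← (h.tc _).eq, mul_inv_cancel_right]
  obtain ⟨δ, hδ⟩ := h.rg_V hq hu a0 a1 a2 x4 x3
  have T : RgB.Tv ι t u a e δ (ι c⁻¹ * x) := ⟨mul_mem (R.L_le ⟨_, rfl⟩) x0, x4, hδ⟩
  obtain ⟨w, w1, w2, w0⟩ := exists_sing (Q := Q) (U := Submodule.span F {u, e, a})
    (W := perp Q (Submodule.span F {u, e, a})) (by
      have := finrank_perp h.nd (Submodule.span F {u, e, a})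
      have := OuA.span3 (F := F) u e a
      have := Submodule.finrank_mono (inf_le_left : Submodule.span F {u, e, a} ⊓
        perp Q (Submodule.span F {u, e, a}) ≤ _)
      omega)
  obtain ⟨uw, ew, aw⟩ := mem_perp3.1 w1
  have wa := (polar_comm Q _ _).trans aw
  have le : Submodule.span F {u, a} ≤ Submodule.span F {u, e, a} := Submodule.span_mono (by
    rintro _ (rfl | rfl) <;> simp)
  have uew : 𝐟 u (e + w) = 0 := by rw [polar_add_right, ue.p, uw, add_zero]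
  have ewa : 𝐟 (e + w) a = 0 := by rw [polar_add_left, a2, wa, add_zero]
  obtain ⟨l, l0, l1, l2⟩ := RgB.wit h.toDm hu a0 a1 a2 w0 uw wa fun m => w2 (le m)
  obtain ⟨l', l0', l1', l2'⟩ := RgB.wit h.toDm hu a0 a1 a2 (p := e + w)
    (by rw [Q_add, ue.r, w0, ew]; simp) uew ewa fun m => w2
      ((Submodule.add_mem_iff_right _ (Submodule.subset_span (by simp))).1 (le m))
  have T1 := T.conj h hu l1 l2
  have T2 := T.conj h hu l1' l2'
  rw [l0] at T1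
  rw [l0'] at T2
  generalize ι l * (ι c⁻¹ * x) * (ι l)⁻¹ = p at T1
  generalize ι l' * (ι c⁻¹ * x) * (ι l')⁻¹ = p' at T2
  have ow : Ok Q e (δ • w) := Ok.smul ⟨ue.r, ew⟩ δ
  refine h.rg_fin (x := p * (p' * ι (sg Q e (δ • w)))) hq hu
    (mul_mem T1.cO (mul_mem T2.cO (R.L_le ⟨_, rfl⟩))) ?_ fun y y1 y2 => mul_inv_eq_iff_eq_mul.1 ?_
  · calc _ = p * (p' * (ι (sg Q e (δ • w)) * t * (ι (sg Q e (δ • w)))⁻¹) * p'⁻¹) * p⁻¹ := by group
      _ = _ := by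
        rw [← (h.tc _).eq, mul_inv_cancel_right, T2.tr, ← conj_mul, T1.tr, T1.act _ uew, RgB.rfix ewa,
          polar_add_left, ew, f_self, add_zero, mul_zero, zero_smul, add_zero, mul_assoc, ← map_mul,
          ← sg_add ⟨ue.l, uw⟩ ⟨ue.l, uew⟩, add_comm e, ← add_assoc, add_self' F, zero_add]
  have ye := (polar_comm Q _ _).trans y2
  have s1 : (sg Q e (δ • w)).1.1 y = y + (δ * 𝐟 y w) • e := by
    rw [sg_apply_perp ow ye, polar_smul_right']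
  have s2 : (refl Q a).1 (y + (δ * 𝐟 y w) • e) + (δ * 𝐟 (y + (δ * 𝐟 y w) • e) (e + w)) • (e + w) =
      (refl Q a).1 y + (δ * 𝐟 y w) • w := by
    rw [map_add, map_smul, RgB.rfix a2, polar_add_left, polar_smul_left', polar_add_right,
      polar_add_right, ye, f_self, ew]
    linear_combination (norm := module) (δ * 𝐟 y w) • add_self' F e
  have s3 : (refl Q a).1 ((refl Q a).1 y + (δ * 𝐟 y w) • w) +
      (δ * 𝐟 ((refl Q a).1 y + (δ * 𝐟 y w) • w) w) • w = y := by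
    rw [map_add, map_smul, RgB.rfix wa, RgB.rr, polar_add_left, polar_smul_left', f_self,
      polar_comm Q ((refl Q a).1 y) w, RgB.rpol wa, polar_comm Q w]
    linear_combination (norm := module) (δ * 𝐟 y w) • add_self' F w
  calc _ = p * (p' * (ι (sg Q e (δ • w)) * ι (sg Q u y) * (ι (sg Q e (δ • w)))⁻¹) * p'⁻¹) * p⁻¹ := by
        group
    _ = _ := by
      rw [RgB.ιc, conj_sg, sg_fix ue.p (by rw [polar_smul_right', uw, mul_zero]), s1,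
        T2.act _ (by rw [polar_add_right, polar_smul_right', y1, ue.p]; simp), s2,
        T1.act _ (by rw [polar_add_right, polar_smul_right', RgB.rpol a1, y1, uw]; simp), s3]

end Cfsg.Agent.StdO
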