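import Cfsg.Agent.StdO.ClC
import Cfsg.Agent.StdO.RgB
import Cfsg.Agent.StdO.DpB
import Cfsg.Agent.StdZ.Zero

/-! Steps 0 and 1: the doubling of the root elements. -/

set_option autoImplicit false
set_option linter.unusedSectionVars false
set_option linter.unusedVariables false

namespace Cfsg.Agent.StdO

open Subgroup Module QuadraticMap Cfsg.Agent.Class.Orth Cfsg.Agent.KSG Cfsg.Agent.PLocal.Amb
  Cfsg.Agent.Lyons
open Cfsg.Agent.StdL (cjh)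
open scoped commutatorElement

variable {F V : Type*} [Field F] [Finite F] [CharP F 2] [AddCommGroup V] [Module F V]
  [FiniteDimensional F V] {Q : QuadraticForm F V} {G : Type*} [Group G] [Finite G]
  {ι : EG Q →* G} {t : G}

local notation "𝐟" => polar Q

open Classical in
/-- transport of `x` along the conjugacy class of the root element `z₀` -/
noncomputable def C0.cc (ι : EG Q →* G) (z₀ : EG Q) (x : G) (z : EG Q) : G :=
  if hz : ∃ g, g * z₀ * g⁻¹ = z then ι hz.choose * x * (ι hz.choose)⁻¹ else 1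

namespace C0

variable {z₀ z : EG Q} {x : G} {u e : V}

theorem cc_conj (hc : ∀ g ∈ 𝐳[z₀], Commute (ι g) x) (g : EG Q) :
    cc ι z₀ x (g * z₀ * g⁻¹) = ι g * x * (ι g)⁻¹ := by
  have hz : ∃ k, k * z₀ * k⁻¹ = g * z₀ * g⁻¹ := ⟨g, rfl⟩
  rw [cc, dif_pos hz]
  have h1 := hz.choose_spec
  generalize hz.choose = k at h1
  have h2 : g⁻¹ * k ∈ 𝐳[z₀] := by
    refine mem_centralizer_singleton_iff.2 ?_
    calc g⁻¹ * k * z₀ = g⁻¹ * (k * z₀ * k⁻¹) * k := by group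
      _ = z₀ * (g⁻¹ * k) := by rw [h1]; group
  have h3 := (hc _ h2).eq
  rw [map_mul, map_inv] at h3
  calc ι k * x * (ι k)⁻¹ = ι g * ((ι g)⁻¹ * ι k * x) * (ι k)⁻¹ := by group
    _ = ι g * x * (ι g)⁻¹ := by rw [h3]; group

theorem cc_not (hz : ¬ ∃ g, g * z₀ * g⁻¹ = z) : cc ι z₀ x z = 1 := by
  rw [cc, dif_neg hz]

theorem cc_one (h0 : z₀ ≠ 1) : cc ι z₀ x 1 = 1 :=
  cc_not fun ⟨g, hg⟩ => h0 (by
    calc z₀ = g⁻¹ * (g * z₀ * g⁻¹) * g := by group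
      _ = 1 := by rw [hg]; group)

theorem cc_eqv (hc : ∀ g ∈ 𝐳[z₀], Commute (ι g) x) (g z : EG Q) :
    ι g * cc ι z₀ x z * (ι g)⁻¹ = cc ι z₀ x (g * z * g⁻¹) := by
  by_cases hz : ∃ k, k * z₀ * k⁻¹ = z
  · obtain ⟨k, rfl⟩ := hz
    rw [show g * (k * z₀ * k⁻¹) * g⁻¹ = g * k * z₀ * (g * k)⁻¹ by group, cc_conj hc, cc_conj hc,
      map_mul]
    group
  · rw [cc_not hz, cc_not]
    · group
    · rintro ⟨k, hk⟩
      exact hz ⟨g⁻¹ * k, by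
        calc g⁻¹ * k * z₀ * (g⁻¹ * k)⁻¹ = g⁻¹ * (k * z₀ * k⁻¹) * g := by group
          _ = z := by rw [hk]; group⟩

theorem ti_l {v w : V} (h : TI Q ![u, v, w]) : TI Q ![u, v] := by
  obtain ⟨h1, -, -, h4⟩ := ti3_iff.1 h
  refine ti2_iff.2 ⟨h1, fun h0 => ?_, fun a ha => ?_⟩
  · exact one_ne_zero (h4 1 0 0 (by simp [h0])).1
  · exact one_ne_zero (h4 a 1 0 (by simp [ha, add_self' F])).2.1

theorem ti_r {v w : V} (h : TI Q ![u, v, w]) : TI Q ![u, w] := by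
  obtain ⟨-, h1, -, h4⟩ := ti3_iff.1 h
  refine ti2_iff.2 ⟨h1, fun h0 => ?_, fun a ha => ?_⟩
  · exact one_ne_zero (h4 1 0 0 (by simp [h0])).1
  · exact one_ne_zero (h4 a 0 1 (by simp [ha, add_self' F])).2.2

theorem sg_smul_one (hQ : ND Q) {v : V} (h : TS2 Q u v) (h1 : sg Q u v = 1) (a : F) :
    sg Q u (a • v) = 1 := by
  by_cases h0 : u = 0
  · rw [h0, sg_zero_left]
  · obtain ⟨r, rfl⟩ := (sg_eq_one hQ (ok_of h) h0).1 h1
    rw [smul_smul, sg_self h.l]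

theorem dz (h : Su ι t) (hn : StdZ.NI t ⊤) (hu : TI Q ![u, e]) : StdZ.Ko t ι.range ∧
    ∃ Zh, StdZ.Dz t ((PP Q u e).map ι) Zh (ζ ι u e) 0 := by
  have R := h.rt hu
  have hz := R.fz (R.s0 (h.z0 hu)) hn
  have h2 : 1 < Nat.card F := Finite.one_lt_card
  have hq : StdZ.Rg t ι.range ((PP Q u e).map ι) ((Qq Q u e).map ι) (ζ ι u e) := by
    by_cases hq : Nat.card F = 2
    · exact Or.inr (Or.inr (Or.inr (h.rg0 hq hu hz)))
    · exact Or.inl (by omega)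
  obtain ⟨hk, Zh, l, hd, hl⟩ := R.exists_dz hz hq
  refine ⟨hk, Zh, ?_⟩
  by_cases hq : Nat.card F = 2
  · rwa [hl hq] at hd
  · obtain ⟨m, hm⟩ := h.col hu hq
    rwa [R.l_eq_zero hk hd hm (by omega)] at hd

end C0

open C0 in
/-- `(u, e)` from `ext1`, `ext2`; `R = rt`, `R.fz (R.s0 z0) hn`, `Rg` by `rg0` or `2 < q`,
`R.exists_dz`; `l = 0` (`l_eq_zero` with `col`).  `x ∈ Zh` with `x t x⁻¹ = t ζ 1` is centralized by
`ι 𝐳[sg u e]` (`Dz.cP` if `q > 2`, `exists_pr` and `Pr.good` if `q = 2`).  `c z = ι g x ι g⁻¹` if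
`z = g (sg u e) g⁻¹` (`conj_root`), `c z = 1` for non-roots.  `line`: trivial if `sg u' v' = 1`; else
conjugate to `(u, e)` (`trans2`); `c (sg u (a e)) ∈ Zh` (`g` with `g u = u`, `g e = a e` normalizes
`Z`, `Dz.nrm`), `Dz.fix`.  `com2`: `c (sg u' v') = d u' v'`, `Pr.com`.  `cn`: `Rp.fratt`, `Dz.nrm`,
`Zh ≤ G0` (`Dz.tr`, `Dz.fix`), and `n (ι g x ι g⁻¹) n⁻¹ = ι g' (n x n⁻¹) ι g'⁻¹`. -/
theorem Su.fa0 (h : Su ι t) (hn : StdZ.NI t ⊤) : ∃ c, Fa0 ι t c := by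
  have hD : Dm Q := h.toRp.toDm
  have hQ := hD.nd
  obtain ⟨u, u0, qu⟩ := hD.ext1
  obtain ⟨e, hu⟩ := hD.ext2 qu u0
  have R := h.rt hu
  obtain ⟨hk, Zh, hd⟩ := dz h hn hu
  obtain ⟨x, hx, h1⟩ := hd.sur 1
  have x2 : x * x = 1 := by rw [hd.sq x hx 1 h1, zero_mul, R.zero]
  rw [ζ_one] at h1
  have hp : Nat.card F = 2 → ∃ d, Pr ι t d ∧ d u e = x := fun hq => h.exists_pr hq hk hu hd hx h1
  have hc : ∀ g ∈ 𝐳[sg Q u e], Commute (ι g) x := by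
    intro g hg
    by_cases hq : Nat.card F = 2
    · obtain ⟨d, H, rfl⟩ := hp hq
      exact H.good hu hg
    · exact mem_centralizer_iff.1 (hd.cP hx) (ι g) (mem_map_of_mem ι (by rwa [PP, if_neg hq]))
  have r0 : IsRoot (sg Q u e).1 := (root_iff hQ).2 ⟨u, e, hu, rfl⟩
  have c1 : cc ι (sg Q u e) x 1 = 1 := cc_one (RtA.sg_ne hQ hu)
  have tc : ∀ g, ι g * t * (ι g)⁻¹ = t := fun g => by rw [← (h.tc g).eq]; group
  have tr : ∀ z : EG Q, IsRoot z.1 →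
      cc ι (sg Q u e) x z * t * (cc ι (sg Q u e) x z)⁻¹ = t * ι z := by
    intro z hz
    obtain ⟨g, rfl⟩ := hD.conj_root r0 hz
    rw [cc_conj hc, map_mul, map_mul, map_inv]
    calc ι g * x * (ι g)⁻¹ * t * (ι g * x * (ι g)⁻¹)⁻¹
        = ι g * (x * (ι g⁻¹ * t * (ι g⁻¹)⁻¹) * x⁻¹) * (ι g)⁻¹ := by rw [map_inv]; group
      _ = ι g * t * (ι g)⁻¹ * (ι g * ι (sg Q u e) * (ι g)⁻¹) := by rw [tc, h1]; group
      _ = _ := by rw [tc]
  have hy : ∀ a : F, cc ι (sg Q u e) x (sg Q u (a • e)) ∈ Zh ∧ cc ι (sg Q u e) x (sg Q u (a • e)) *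
      t * (cc ι (sg Q u e) x (sg Q u (a • e)))⁻¹ = t * ζ ι u e a := by
    intro a
    by_cases ha : a = 0
    · rw [ha, R.zero, zero_smul, sg_zero, c1]
      exact ⟨one_mem _, by group⟩
    refine ⟨?_, tr _ (hu.root hQ ha)⟩
    obtain ⟨k, hk', e1⟩ := R.exists_conj one_ne_zero ha
    obtain ⟨⟨g, rfl⟩, hP⟩ := mem_inf.1 hk'
    have e2 : g * sg Q u e * g⁻¹ = sg Q u (a • e) := h.inj (by
      rw [map_mul, map_mul, map_inv, ← ζ_one, e1]; rfl)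
    rw [← e2, cc_conj hc]
    exact conj_mem_of_mem_normalizer (hd.nrm _ (h.tL ⟨g, rfl⟩) (R.nz (R.NPQ hP))) hx
  have LG : ι.range ≤ G0 ι (cc ι (sg Q u e) x) := le_sup_left
  have cG : ∀ z : EG Q, IsRoot z.1 → cc ι (sg Q u e) x z ∈ G0 ι (cc ι (sg Q u e) x) :=
    fun z hz => mem_sup_right (subset_closure ⟨z, hz, rfl⟩)
  have ZG : Zh ≤ G0 ι (cc ι (sg Q u e) x) := by
    intro y hy'
    obtain ⟨a, ha⟩ := hd.tr y hy'
    obtain ⟨m1, m2⟩ := hy a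
    have m3 := R.tr_mul (inv_mem (hd.cP m1)) (R.tr_inv (hd.cP m1) m2) ha
    rw [CharTwo.add_self_eq_zero] at m3
    obtain ⟨b, hb⟩ := hd.fix _ (mul_mem (inv_mem m1) hy') (R.cent_of_tr m3)
    rw [inv_mul_eq_iff_eq_mul] at hb
    rw [hb]
    refine mul_mem ?_ (LG (R.ζL b))
    by_cases h0 : a = 0
    · rw [h0, zero_smul, sg_zero, c1]; exact one_mem _
    · exact cG _ (hu.root hQ h0)
  refine ⟨cc ι (sg Q u e) x,
    { toSu := h
      ko := hk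
      c1 := c1
      eqv := fun g z _ => cc_eqv hc g z
      sq := fun z hz => ?_
      tr := tr
      cO := fun z hz => ?_
      line := fun u' v' ts a b => ?_
      com2 := fun hq u' v w h3 => ?_
      cn := fun n hn' => ?_ }⟩
  · obtain ⟨g, rfl⟩ := hD.conj_root r0 hz
    rw [cc_conj hc]
    calc ι g * x * (ι g)⁻¹ * (ι g * x * (ι g)⁻¹) = ι g * (x * x) * (ι g)⁻¹ := by group
      _ = 1 := by rw [x2]; group
  · obtain ⟨g, rfl⟩ := hD.conj_root r0 hz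
    rw [cc_conj hc]
    have := R.L_le ⟨g, rfl⟩
    exact mul_mem (mul_mem this (hd.cO hx)) (inv_mem this)
  · rcases root_or hQ ts with h0 | ti
    · refine ⟨0, ?_⟩
      simp only [sg_smul_one hQ ts h0, c1, map_one]
    obtain ⟨g, rfl, rfl⟩ := hD.trans2 hu ti
    obtain ⟨m1, m2⟩ := hy a
    obtain ⟨n1, n2⟩ := hy b
    obtain ⟨p1, p2⟩ := hy (a + b)
    have m3 := R.tr_mul (inv_mem (hd.cP p1)) (R.tr_inv (hd.cP p1) p2) (R.tr_mul (hd.cP m1) m2 n2)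
    rw [CharTwo.add_self_eq_zero] at m3
    obtain ⟨r, hr⟩ := hd.fix _ (mul_mem (inv_mem p1) (mul_mem m1 n1)) (R.cent_of_tr m3)
    rw [inv_mul_eq_iff_eq_mul] at hr
    have e1 : ∀ s : F, sg Q (g.1.1 u) (s • g.1.1 e) = g * sg Q u (s • e) * g⁻¹ := fun s => by
      rw [conj_sg, map_smul]
    refine ⟨r, ?_⟩
    simp only [e1, ← cc_eqv hc, map_mul, map_inv]
    rw [conj_mul, conj_mul, hr]; rfl
  · obtain ⟨d, H, hdx⟩ := hp hq
    have e1 : ∀ u' v', TI Q ![u', v'] → cc ι (sg Q u e) x (sg Q u' v') = d u' v' := by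
      intro u' v' ti
      obtain ⟨g, rfl, rfl⟩ := hD.trans2 hu ti
      rw [← conj_sg, cc_conj hc, ← hdx, H.eqv g u e hu]
    rw [e1 _ _ (ti_l h3), e1 _ _ (ti_r h3)]
    exact H.com h3
  · have nL := h.nrm hn'
    have nx : n * x * n⁻¹ ∈ G0 ι (cc ι (sg Q u e) x) := by
      obtain ⟨g, hg⟩ := h.toRp.fratt hu nL
      have m1 := ZG (conj_mem_of_mem_normalizer (hd.nrm _ (mul_mem (h.tL ⟨g, rfl⟩) hn') hg) hx)
      have m2 := LG ⟨g, rfl⟩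
      rw [show n * x * n⁻¹ = (ι g)⁻¹ * (ι g * n * x * (ι g * n)⁻¹) * ι g by group]
      exact mul_mem (mul_mem (inv_mem m2) m1) m2
    refine mem_normalizer_of_cj_le (map_le_iff_le_comap.2 (sup_le (fun y hy' => ?_)
      ((closure_le _).2 ?_)))
    · exact LG (conj_mem_of_mem_normalizer nL hy')
    · rintro _ ⟨z, hz, rfl⟩
      obtain ⟨g, rfl⟩ := hD.conj_root r0 hz
      rw [cc_conj hc]
      have m2 := LG (conj_mem_of_mem_normalizer nL ⟨g, rfl⟩)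
      change n * (ι g * x * (ι g)⁻¹) * n⁻¹ ∈ G0 ι (cc ι (sg Q u e) x)
      rw [show n * (ι g * x * (ι g)⁻¹) * n⁻¹ =
        n * ι g * n⁻¹ * (n * x * n⁻¹) * (n * ι g * n⁻¹)⁻¹ by group]
      exact mul_mem (mul_mem m2 nx) (inv_mem m2)

end Cfsg.Agent.StdO
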