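import Cfsg.Agent.StdO.RtA
import Cfsg.Agent.StdO.Rig

/-! Step 0, the class `c₂` of `sg u v`, `v` non-singular. -/

set_option autoImplicit false
set_option linter.unusedSectionVars false
set_option linter.unusedVariables false

namespace Cfsg.Agent.StdO

open Subgroup Module QuadraticMap Cfsg.Agent.Class.Orth Cfsg.Agent.KSG Cfsg.Agent.PLocal.Amb
  Cfsg.Agent.Lyons
open Cfsg.Agent.StdL (cjh)
open scoped commutatorElement

variable {F V : Type*} [Field F] [Finite F] [CharP F 2] [AddCommGroup V] [Module F V]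
  [FiniteDimensional F V] {Q : QuadraticForm F V} {G : Type*} [Group G] [Finite G]
  {ι : EG Q →* G} {t : G}

local notation "𝐟" => polar Q

variable {u e v : V}

theorem ClA.li3 {x : V} (h : TI Q ![u, x]) (hv : Q v ≠ 0) : LinearIndependent F ![u, v, x] := by
  obtain ⟨o, h0, ne⟩ := ti2_iff.1 h
  refine Fintype.linearIndependent_iff.2 fun c hc => ?_
  simp only [Fin.sum_univ_three, Matrix.cons_val_zero, Matrix.cons_val_one, Matrix.cons_val] at hc
  have e1 : c 1 • v = (-c 0) • u + (-c 2) • x := by linear_combination (norm := module) hc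
  have e2 := congrArg Q e1
  rw [Q_add, Q_smul, Q_smul, Q_smul, polar_smul_left', polar_smul_right', o.l, o.r, o.p] at e2
  have c1 : c 1 = 0 := by simpa [hv] using e2
  have c2 : c 2 = 0 := by_contra fun r => ne (-((c 2)⁻¹ * c 0)) (smul_right_injective V r (by
    rw [c1] at hc
    simp only [smul_smul, mul_neg, mul_inv_cancel_left₀ r]
    linear_combination (norm := module) hc))
  have c0 : c 0 = 0 := by simpa [c1, c2, h0] using hc
  intro i
  fin_cases i
  exacts [c0, c1, c2]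

theorem ClA.witt (hd : Dm Q) {u' x x' v' : V} (h : TI Q ![u, x]) (h' : TI Q ![u', x']) (hv : Q v ≠ 0)
    (e : Q v = Q v') (h1 : 𝐟 u v = 0) (h2 : 𝐟 x v = 0) (h1' : 𝐟 u' v' = 0) (h2' : 𝐟 x' v' = 0) :
    ∃ g : EG Q, g.1.1 u = u' ∧ g.1.1 v = v' ∧ g.1.1 x = x' := by
  obtain ⟨o, -⟩ := ti2_iff.1 h
  obtain ⟨o', -⟩ := ti2_iff.1 h'
  obtain ⟨g, hg⟩ := hd.witt (ClA.li3 h hv) (ClA.li3 h' (e ▸ hv)) (fun i => by
    fin_cases i <;> simp [o.l, o.r, o'.l, o'.r, e]) (fun i j => by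
    fin_cases i <;> fin_cases j <;> simp [two_zero F, polar_comm Q v, polar_comm Q v', polar_comm Q x u,
      polar_comm Q x' u', o.p, o'.p, h1, h2, h1', h2']) (by have := hd.d8; omega)
  exact ⟨g, hg 0, hg 1, hg 2⟩

variable (Q) in
/-- the `2`-group attached to `sg u v` -/
def ClA.U0 (u e v : V) : Subgroup (EG Q) := closure
  {g | (∃ y, 𝐟 u y = 0 ∧ g = sg Q u y) ∨ ∃ y ∈ perp Q (Submodule.span F {u, e, v}), g = sg Q e y}

theorem ClA.m1 {y : V} (h : 𝐟 u y = 0) : sg Q u y ∈ ClA.U0 Q u e v := subset_closure (.inl ⟨y, h, rfl⟩)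

theorem ClA.m2 {y : V} (h : y ∈ perp Q (Submodule.span F {u, e, v})) : sg Q e y ∈ ClA.U0 Q u e v :=
  subset_closure (.inr ⟨y, h, rfl⟩)

variable (Q) in
/-- a flag -/
def ClA.C (u e : V) : ℕ → Submodule F V
  | 0 => ⊥
  | 1 => Submodule.span F {u}
  | 2 => Submodule.span F {u, e}
  | 3 => perp Q (Submodule.span F {u, e})
  | 4 => perp Q (Submodule.span F {u})
  | _ => ⊤

theorem ClA.two (hu : TI Q ![u, e]) : IsPGroup 2 (ClA.U0 Q u e v) := by
  obtain ⟨o, -⟩ := ti2_iff.1 hu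
  have m1 : u ∈ Submodule.span F {u} := Submodule.mem_span_singleton_self u
  have m2 : u ∈ Submodule.span F {u, e} := Submodule.subset_span (by simp)
  have m3 : e ∈ Submodule.span F {u, e} := Submodule.subset_span (by simp)
  have m4 : u ∈ perp Q (Submodule.span F {u, e}) := mem_perp2''.2 ⟨f_self u, by rw [polar_comm, o.p]⟩
  have m5 : e ∈ perp Q (Submodule.span F {u, e}) := mem_perp2''.2 ⟨o.p, f_self e⟩
  have l1 : Submodule.span F {u} ≤ Submodule.span F {u, e} := Submodule.span_mono (by simp)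
  have l2 : Submodule.span F {u, e} ≤ perp Q (Submodule.span F {u, e}) :=
    Submodule.span_le.2 (by rintro _ (rfl | rfl); exacts [m4, m5])
  have l3 := perp_anti (Q := Q) l1
  have hm : ∀ i, ClA.C Q u e i ≤ ClA.C Q u e (i + 1) := fun i => by
    rcases i with _ | _ | _ | _ | _ | i
    exacts [bot_le, l1, l2, l3, le_top, le_top]
  have k : ∀ {s y : V}, Ok Q s y → ∀ x, (sg Q s y).1.1 x + x = (𝐟 x y + Q y * 𝐟 x s) • s + 𝐟 x s • y :=
    fun o x => by rw [sg_apply o, add_right_comm, add_right_comm x, add_self' F, zero_add]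
  have g1 : ∀ g ∈ {g | (∃ y, 𝐟 u y = 0 ∧ g = sg Q u y) ∨
      ∃ y ∈ perp Q (Submodule.span F {u, e, v}), g = sg Q e y}, ∀ i, ∀ x ∈ ClA.C Q u e (i + 1),
      g.1.1 x + x ∈ ClA.C Q u e i := by
    rintro _ (⟨y, hy, rfl⟩ | ⟨y, hy, rfl⟩) i x hx
    · rw [k ⟨o.l, hy⟩]
      have z : x ∈ perp Q (Submodule.span F {u}) → 𝐟 x u • y = 0 := fun r => by
        rw [polar_comm, mem_perp1.1 r, zero_smul]
      rcases i with _ | _ | _ | _ | _ | i
      · obtain ⟨a, rfl⟩ := Submodule.mem_span_singleton.1 hx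
        simp only [polar_smul_left', hy, f_self, mul_zero, add_zero, zero_smul]
        exact zero_mem _
      · rw [z (l3 (l2 hx)), add_zero]; exact Submodule.smul_mem _ _ m1
      · rw [z (l3 hx), add_zero]; exact Submodule.smul_mem _ _ m2
      · rw [z hx, add_zero]; exact Submodule.smul_mem _ _ m4
      · exact add_mem (Submodule.smul_mem _ _ (l3 m4)) (Submodule.smul_mem _ _ (mem_perp1.2 hy))
      · trivial
    · obtain ⟨y1, y2, -⟩ := mem_perp3.1 hy
      have y3 := mem_perp2''.2 ⟨y1, y2⟩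
      rw [k ⟨o.r, y2⟩]
      have z : x ∈ Submodule.span F {u, e} → (𝐟 x y + Q y * 𝐟 x e) • e + 𝐟 x e • y = 0 := fun r => by
        simp only [y3 x r, m5 x r, mul_zero, add_zero, zero_smul]
      have z' := add_mem (Submodule.smul_mem _ (𝐟 x y + Q y * 𝐟 x e) m5) (Submodule.smul_mem _ (𝐟 x e) y3)
      rcases i with _ | _ | _ | _ | _ | i
      · rw [z (l1 hx)]; exact zero_mem _
      · rw [z hx]; exact zero_mem _
      · rw [polar_comm Q x e, hx e m3, zero_smul, add_zero]; exact Submodule.smul_mem _ _ m3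
      · exact z'
      · exact l3 z'
      · trivial
  refine isPGroup_of_chain (ClA.C Q u e) 5 rfl rfl hm fun g hg => ?_
  induction hg using closure_induction'' with
  | mem g hg => exact g1 g hg
  | inv_mem g hg =>
    have : g⁻¹ = g := by rcases hg with ⟨y, -, rfl⟩ | ⟨y, -, rfl⟩ <;> exact sg_inv _ _
    rw [this]; exact g1 g hg
  | one => intro i x _; change x + x ∈ _; rw [add_self' F]; exact zero_mem _
  | mul g g' _ _ h h' =>
    intro i x hx
    have e1 : g'.1.1 x ∈ ClA.C Q u e (i + 1) := by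
      have := add_mem (hm i (h' i x hx)) hx
      rwa [add_assoc, add_self' F, add_zero] at this
    have := add_mem (h i _ e1) (h' i x hx)
    rwa [add_assoc, ← add_assoc (g'.1.1 x), add_self' F, zero_add] at this

theorem ClA.ln {Y : V → Prop} {B : Submodule F V} (hY : ∀ a ∈ B, ∀ b ∈ B, Y a ∨ Y b ∨ Y (a + b))
    (hq : Nat.card F = 2 → ∀ a ∈ B, Y a) {y : V} (hy : y ∈ B) : ∃ r : F, r ≠ 0 ∧ Y (r • y) := by
  by_cases e : Nat.card F = 2
  · exact ⟨1, one_ne_zero, hq e _ (B.smul_mem 1 hy)⟩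
  · exact half_line e hY hy

/-- an element centralising half of `VU u u^⊥` -/
theorem ClA.half (h : Rp ι) (hu : TI Q ![u, e]) {τ : G} (hn : τ ∈ 𝐍[ι.range])
    (hY : ∀ a ∈ perp Q (Submodule.span F {u}), ∀ b ∈ perp Q (Submodule.span F {u}),
      Commute τ (ι (sg Q u a)) ∨ Commute τ (ι (sg Q u b)) ∨ Commute τ (ι (sg Q u (a + b))))
    (hq : Nat.card F = 2 → ∀ a ∈ perp Q (Submodule.span F {u}), Commute τ (ι (sg Q u a))) :
    ∃ w, Ok Q u w ∧ τ * (ι (sg Q u w))⁻¹ ∈ 𝐂[ι.range] := by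
  obtain ⟨h1, h2⟩ := Rig.ts2 hu
  obtain ⟨o, h0, -⟩ := ti2_iff.1 hu
  have d8 := h.d8
  obtain ⟨x, hx, y, hy, oh⟩ := exists_hyp h.nd h1 (by omega)
  replace hx := (mem_perp2''.1 hx).1
  replace hy := (mem_perp2''.1 hy).1
  obtain ⟨r, r0, ex⟩ := ClA.ln hY hq (mem_perp1.2 hx)
  obtain ⟨r', r0', ey⟩ := ClA.ln hY hq (mem_perp1.2 hy)
  have t1 : TS2 Q u (r • x) := ⟨o.l, by rw [Q_smul, oh.left, mul_zero], by rw [polar_smul_right', hx, mul_zero]⟩
  have t2 : TS2 Q u (r' • y) :=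
    ⟨o.l, by rw [Q_smul, oh.right, mul_zero], by rw [polar_smul_right', hy, mul_zero]⟩
  have t3 : 𝐟 (r • x) (r' • y) ≠ 0 := by
    rw [polar_smul_left', polar_smul_right', oh.pol, mul_one]; exact mul_ne_zero r0 r0'
  obtain ⟨T, ac⟩ := h.semi hn h0 t1 t2 t3 ex ey
  obtain ⟨l, -, hl⟩ := fix_pt h.nd ac.c h0 t1 t2 t3 (h.fix ac ex) (h.fix ac ey)
  obtain ⟨k1, k2⟩ := half_fix hl hY hq ⟨x, mem_perp1.2 hx, y, mem_perp1.2 hy, fun r s d e => by
      have e1 := congrArg (𝐟 x) e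
      have e2 := congrArg (𝐟 y) e
      simp only [polar_add_right, polar_smul_right', f_self, polar_comm Q y x, oh.pol, polar_comm Q _ u,
        hx, hy, polar_zero_right, mul_zero, mul_one, add_zero, zero_add] at e1 e2
      exact ⟨e2, e1⟩⟩
    fun y hy e => (fix_sg h.nd ac.c h0 hl ⟨o.l, mem_perp1.1 hy⟩).1 (h.fix ac e)
  have l1 : l = 1 := by
    obtain ⟨r, e⟩ := k2 _ (add_mem (mem_perp1.2 hx) (mem_perp1.2 hy))
    have e1 := congrArg Q e
    rw [Q_smul, ac.q, Q_add _ (r • u), Q_smul, polar_smul_right', polar_comm Q _ u, polar_add_right, hx, hy,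
      o.l, Q_add, oh.left, oh.right, oh.pol] at e1
    have : (l + 1) ^ 2 = 0 := by
      simp only [zero_add, map_one] at e1
      linear_combination e1 + (l + 1) * two_zero F
    linear_combination (pow_eq_zero_iff two_ne_zero).1 this - two_zero F
  simp only [l1, one_smul] at hl k2
  obtain ⟨k, rfl⟩ := SS.exists_oO k1 ac.c
  obtain ⟨w, o', rfl⟩ := eq_eichler h.nd o.l h0 hl fun y a => k2 y (mem_perp1.2 a)
  exact ⟨w, o', Ac.inner (g := sg Q u w) ac⟩

theorem ClA.perp (hQ : ND Q) (hu : TI Q ![u, e]) {w y : V} (o : Ok Q u w) (y1 : 𝐟 u y = 0) (y2 : 𝐟 e y = 0)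
    (ny : y ∉ Submodule.span F {u, e}) (c : Commute (sg Q u w) (sg Q e y)) : 𝐟 w e = 0 ∧ 𝐟 w y = 0 := by
  obtain ⟨ue, h0, ne⟩ := ti2_iff.1 hu
  have c3 := conj_sg (sg Q e y) u w
  rw [← c.eq, mul_inv_cancel_right, sg_fix ue.p y1] at c3
  have o2 := o.map (sg Q e y)
  rw [sg_fix ue.p y1] at o2
  obtain ⟨a, ea⟩ := (sg_inj hQ o2 o h0).1 c3.symm
  refine perp_of_fix (U := Submodule.span F {u}) hQ ue.r y2 (by
    rwa [← Submodule.span_union]) (fun f => ?_) ?_
  · obtain ⟨a, f⟩ := Submodule.mem_span_singleton.1 f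
    exact ne a f.symm
  · rw [ea, add_right_comm, add_self' F, zero_add]
    exact Submodule.smul_mem _ _ (Submodule.mem_span_singleton_self u)

/-- `X s = ι (sg u (s v))`, `U = ι U₀`, `U₀ = VU u u^⊥ ⊔ VU e ⟨u,e,v⟩^⊥`. -/
theorem Su.cl_two (h : Su ι t) (hu : TI Q ![u, e]) (hv : Q v ≠ 0) (h1 : 𝐟 u v = 0) (h2 : 𝐟 e v = 0) :
    ∃ U X, StdZ.Cl t ι.range U (ζ ι u e) X ∧ X 1 = ι (sg Q u v) := by
  obtain ⟨o, h0, ne⟩ := ti2_iff.1 hu
  have ov : Ok Q u v := ⟨o.l, h1⟩
  have oe := ok_of o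
  have mv : v ∈ perp Q (Submodule.span F {u, e, v}) := mem_perp3.2 ⟨h1, h2, f_self v⟩
  have nv : v ∉ Submodule.span F {u, e} := fun r => hv ((Rig.ts2 hu).1 v r)
  have xz : ∀ a b : F, ι (sg Q u (a • v)) * ζ ι u e b = ι (sg Q u (a • v + b • e)) := fun a b => by
    rw [sg_add (ov.smul a) (oe.smul b), map_mul, ζ]
  have cz : ∀ {g : EG Q}, g.1.1 u = u → g.1.1 v = v → ι g ∈ ι.range ⊓ 𝐳[ι (sg Q u ((1 : F) • v))] :=
    fun a b => ⟨⟨_, rfl⟩, mem_centralizer_singleton_iff.2 (by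
      rw [one_smul]; exact ((comm_sg a b).map ι).eq)⟩
  refine ⟨(ClA.U0 Q u e v).map ι, fun a => ι (sg Q u (a • v)), ⟨fun a b => ?_, fun a b => ?_, fun a ha b => ?_,
    ?_, (ClA.two hu).map ι, ?_, fun a => ?_, fun τ hτ τ2 _ hY hq => ?_, fun hq => ?_⟩, by simp only [one_smul]⟩
  · rw [add_smul, sg_add (ov.smul a) (ov.smul b), map_mul]
  · exact ((sg_comm u _ _).map ι).eq
  · have o1 : Ok Q u (v + (a⁻¹ * b) • e) := ov.add (oe.smul _)
    obtain ⟨g, g1, g2, -⟩ := ClA.witt h.toDm hu (u' := a • u) (x' := e) (v' := v + (a⁻¹ * b) • e)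
      (ti2_iff.2 ⟨⟨by rw [Q_smul, o.l, mul_zero], o.r, by rw [polar_smul_left', o.p, mul_zero]⟩,
        smul_ne_zero ha h0, fun c r => ne (c * a) (by rw [r, smul_smul])⟩) hv
      (by rw [Q_add, Q_smul, o.r, polar_smul_right', polar_comm, h2]; simp) h1 h2
      (by rw [polar_smul_left', o1.p, mul_zero])
      (by rw [polar_add_right, h2, polar_smul_right', f_self]; simp)
    refine ⟨ι g, ⟨_, rfl⟩, ?_⟩
    rw [xz, one_smul, ← map_inv, ← map_mul, ← map_mul, conj_sg, g1, g2, sg_smul o1, smul_add, smul_smul,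
      mul_inv_cancel_left₀ ha]
  · refine map_le_iff_le_comap.2 ((closure_le _).2 ?_)
    rintro _ (⟨y, hy, rfl⟩ | ⟨y, hy, rfl⟩)
    · exact ⟨⟨_, rfl⟩, mem_centralizer_singleton_iff.2 ((sg_comm u _ _).map ι).eq⟩
    · obtain ⟨y1, -, y3⟩ := mem_perp3.1 hy
      exact cz (sg_fix o.p y1) (sg_fix (by rwa [polar_comm]) y3)
  · refine map_le_iff_le_comap.2 ((closure_le _).2 fun g hg => subset_closure
      ⟨mem_map_of_mem ι (subset_closure hg), ?_⟩)
    rcases hg with ⟨y, -, rfl⟩ | ⟨y, -, rfl⟩ <;> rw [← map_mul, sg_sq, map_one]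
  · obtain ⟨y, hy, ey⟩ := exists_perp h.nd nv a
    obtain ⟨y1, y2⟩ := mem_perp2''.1 hy
    have := commutator_mem_commutator (mem_map_of_mem ι (ClA.m2 mv))
      (mem_map_of_mem ι (ClA.m1 (e := e) (v := v) y1))
    rwa [← map_commutatorElement, cm_sg ⟨o.l, y1⟩ (sg_fix o.p h1),
      sg_apply_perp ⟨o.r, h2⟩ (by rwa [polar_comm]), add_right_comm, add_self' F, zero_add, polar_comm,
      ey] at this
  · have cm : ∀ {x : G}, x ∈ 𝐳[τ] → Commute τ x := fun r => (mem_centralizer_singleton_iff.1 r).symm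
    obtain ⟨w, ow, hw⟩ := ClA.half h.toRp hu (h.nrm hτ) (fun a ha b hb => by
      rw [sg_add ⟨o.l, mem_perp1.1 ha⟩ ⟨o.l, mem_perp1.1 hb⟩, map_mul]
      exact (hY _ (mem_map_of_mem ι (ClA.m1 (mem_perp1.1 ha))) _
        (mem_map_of_mem ι (ClA.m1 (mem_perp1.1 hb)))).imp cm (.imp cm cm))
      fun e a ha => cm (hq e (mem_map_of_mem ι (ClA.m1 (mem_perp1.1 ha))))
    have k : ∀ y ∈ perp Q (Submodule.span F {u, e, v}), y ∉ Submodule.span F {u, e} →
        𝐟 w e = 0 ∧ 𝐟 w y = 0 := fun y hy ny => by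
      obtain ⟨r, r0, c⟩ := ClA.ln (Y := fun y => Commute τ (ι (sg Q e y))) (fun a ha b hb => by
        rw [sg_add ⟨o.r, (mem_perp3.1 ha).2.1⟩ ⟨o.r, (mem_perp3.1 hb).2.1⟩, map_mul]
        exact (hY _ (mem_map_of_mem ι (ClA.m2 ha)) _ (mem_map_of_mem ι (ClA.m2 hb))).imp cm (.imp cm cm))
        (fun e a ha => cm (hq e (mem_map_of_mem ι (ClA.m2 ha)))) hy
      obtain ⟨y1, y2, -⟩ := mem_perp3.1 (Submodule.smul_mem _ r hy)
      have c1 : Commute (τ * (ι (sg Q u w))⁻¹) (ι (sg Q e (r • y))) := (hw _ ⟨_, rfl⟩).symm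
      have := ClA.perp h.nd hu ow y1 y2 (mt (Submodule.smul_mem_iff _ r0).1 ny)
        (h.comm_iff.1 (by simpa using c1.inv_left.mul_left c))
      rwa [polar_smul_right', mul_eq_zero, or_iff_right r0] at this
    have hm : w ∈ Submodule.span F {u, e, v} := by
      rw [← perp_perp h.nd (Submodule.span F {u, e, v})]
      intro y hy
      rw [polar_comm]
      by_cases ny : y ∈ Submodule.span F {u, e}
      · rw [polar_comm]
        exact mem_perp2''.2 ⟨ow.p, by rw [polar_comm]; exact (k v mv nv).1⟩ y ny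
      · exact (k y hy ny).2
    obtain ⟨c, b, a, rfl⟩ := Submodule.mem_span_triple.1 hm
    rw [show c • u + b • e + a • v = a • v + b • e + c • u by abel,
      sg_add_smul ((ov.smul a).add (oe.smul b)), ← xz] at hw
    have s1 : ι (sg Q u (a • v)) * ζ ι u e b ∈ ι.range := by rw [xz]; exact ⟨_, rfl⟩
    have s2 : ι (sg Q u (a • v)) * ζ ι u e b * (ι (sg Q u (a • v)) * ζ ι u e b) = 1 := by
      rw [xz, ← map_mul, sg_sq, map_one]
    refine ⟨a, b, ?_⟩
    generalize ι (sg Q u (a • v)) * ζ ι u e b = s at hw s1 s2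
    have s3 := hw s s1
    refine (h.inv (mul_mem hτ (inv_mem (h.tL s1))) hw ?_).imp (mul_inv_eq_one.1) (mul_inv_eq_iff_eq_mul.1)
    rw [inv_eq_of_mul_eq_one_right s2] at s3 ⊢
    rw [mul_assoc, s3, mul_assoc τ s, s2, mul_one, τ2]
  · have d := h.q2 hq
    have d1 := finrank_perp h.nd (Submodule.span F {u, e, v})
    have d2 : finrank F (Submodule.span F ({u, e, v} : Set V)) ≤ 3 := by
      classical
      refine (finrank_span_le_card ({u, e, v} : Set V)).trans ?_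
      rw [Set.toFinset_insert, Set.toFinset_insert, Set.toFinset_singleton]
      exact Finset.card_le_three
    have d3 := Submodule.finrank_mono (inf_le_left : Submodule.span F {u, e, v} ⊓
      perp Q (Submodule.span F {u, e, v}) ≤ _)
    obtain ⟨w, hw, nw, qw⟩ := exists_sing (Q := Q) (U := Submodule.span F {u, e, v})
      (W := perp Q (Submodule.span F {u, e, v})) (by omega)
    obtain ⟨w1, w2, w3⟩ := mem_perp3.1 hw
    have m1 : ∀ a : F, a • u ∈ Submodule.span F {u, e, v} := fun a =>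
      Submodule.smul_mem _ _ (Submodule.subset_span (by simp))
    have m2 : e ∈ Submodule.span F {u, e, v} := Submodule.subset_span (by simp)
    have ow : Ok Q u w := ⟨o.l, w1⟩
    obtain ⟨g, g1, g2, g3⟩ := ClA.witt h.toDm hu (ti2_iff.2 ⟨⟨o.l, qw, w1⟩, h0, fun a r => nw (r ▸ m1 a)⟩) hv
      rfl h1 h2 h1 (by rwa [polar_comm])
    obtain ⟨g', g1', g2', g3'⟩ := ClA.witt h.toDm hu (x' := e + w) (ti2_iff.2 ⟨⟨o.l,
      by rw [Q_add, o.r, qw, w2]; simp, (oe.add ow).p⟩, h0, fun a r => nw (by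
        have := m1 a
        rwa [← r, Submodule.add_mem_iff_right _ m2] at this)⟩) hv rfl h1 h2 h1
      (by rw [polar_add_left, h2, polar_comm, w3, add_zero])
    have e1 : ι g * ζ ι u e 1 * (ι g)⁻¹ = ι (sg Q u w) := by
      rw [ζ_one, ← map_inv, ← map_mul, ← map_mul, conj_sg, g1, g3]
    refine ⟨ι g, cz g1 g2, ι g', cz g1' g2', ?_, ?_, ?_⟩ <;> rw [e1, ζ_one]
    · intro r
      obtain ⟨a, r⟩ := (sg_inj h.nd ow oe h0).1 (h.inj r)
      exact nw (r ▸ add_mem m2 (m1 a))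
    · exact mem_centralizer_singleton_iff.2 ((sg_comm u _ _).map ι).eq
    · rw [← map_inv, ← map_mul, ← map_mul, conj_sg, g1', g3', sg_add oe ow, map_mul]

end Cfsg.Agent.StdO
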