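import Cfsg.Agent.StdO.RtA
import Cfsg.Agent.StdO.Ou

/-! Step 0, involutions `a = 1 + B` of rank at least four: the groups `X` and `U`.
`M = mov a = im B`, `M^⊥ = ker B` (`inv_fix`), `𝐟 x (B y)` symmetric (`inv_symm`). -/

set_option autoImplicit false
set_option linter.unusedSectionVars false
set_option linter.unusedVariables false

namespace Cfsg.Agent.StdO

open Subgroup Module QuadraticMap Cfsg.Agent.Class.Orth Cfsg.Agent.KSG Cfsg.Agent.PLocal.Amb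
  Cfsg.Agent.Lyons
open Cfsg.Agent.StdL (cjh)
open scoped commutatorElement

variable {F V : Type*} [Field F] [Finite F] [CharP F 2] [AddCommGroup V] [Module F V]
  [FiniteDimensional F V] {Q : QuadraticForm F V} {G : Type*} [Group G] [Finite G]
  {ι : EG Q →* G} {t : G}

local notation "𝐟" => polar Q

variable {a g : EG Q} {u e m gu ge gm x y : V} {κ : F}

/-- `B x` -/
def BB (a : EG Q) (x : V) : V := a.1.1 x + x

/-- `g = X(s) ζ(b)` -/
def IsX (a : EG Q) (u e : V) (κ s b : F) (g : OG Q) : Prop := ∀ x, g.1 x =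
  x + s • BB a x + ((s ^ 2 + s) * κ * 𝐟 u x + b * 𝐟 e x) • u + (b * 𝐟 u x) • e

/-- generators of `U` -/
def UG (a : EG Q) (u e gu ge : V) : Set (EG Q) :=
  {g | (∃ y, 𝐟 u y = 0 ∧ (∃ r : F, BB a y = r • u) ∧ g = sg Q u y) ∨
    (∃ y, 𝐟 u y = 0 ∧ 𝐟 e y = 0 ∧ (∃ r : F, BB a y = r • e) ∧ g = sg Q e y) ∨
    (∃ y, 𝐟 u y = 0 ∧ 𝐟 gu y = 0 ∧ g = sg Q u y * sg Q (BB a y) gu) ∨
    ∃ y, 𝐟 u y = 0 ∧ 𝐟 e y = 0 ∧ 𝐟 ge y = 0 ∧ g = sg Q e y * sg Q (BB a y) ge}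

/-- `B` as a linear map -/
def BL (a : EG Q) : V →ₗ[F] V := (a.1.1 : V →ₗ[F] V) + LinearMap.id

theorem BL_apply (a : EG Q) (x : V) : BL a x = BB a x := rfl

theorem BB_add (x y : V) : BB a (x + y) = BB a x + BB a y := map_add (BL a) x y

theorem BB_smul (c : F) (x : V) : BB a (c • x) = c • BB a x := map_smul (BL a) c x

theorem BB_app (a : EG Q) (x : V) : a.1.1 x = x + BB a x := by
  rw [BB, add_comm, add_assoc, add_self' F, add_zero]

theorem BB_of (h : a.1.1 x = x + y) : BB a x = y := by rw [BB, h, add_right_comm, add_self' F, zero_add]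

theorem BB_mem (x : V) : BB a x ∈ mov a.1 := ⟨x, by rw [movMap_apply, sub_eq' F, add_comm]; rfl⟩

theorem BB_Q (x : V) : Q (BB a x) = 𝐟 x (BB a x) := by
  rw [BB, Q_add, OG.map_Q, CharTwo.add_self_eq_zero, zero_add, polar_add_right, f_self, add_zero, polar_comm]

theorem aa_app (h : a * a = 1) (x : V) : a.1.1 (a.1.1 x) = x := congrArg (fun g : EG Q => g.1.1 x) h

theorem BB_BB (h : a * a = 1) (x : V) : BB a (BB a x) = 0 := by
  rw [BB, BB, map_add, aa_app h, add_comm x, add_self' F]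

theorem BB_sym (h : a * a = 1) (x y : V) : 𝐟 x (BB a y) = 𝐟 y (BB a x) := by
  rw [BB, BB, polar_add_right, polar_add_right, ← OG.map_polar a.1 x, aa_app h, polar_comm Q y, polar_comm Q y]

theorem BB_orth (h : a * a = 1) (x y : V) : 𝐟 (BB a x) (BB a y) = 0 := by
  rw [BB_sym h, BB_BB h, polar_zero_right]

theorem comm_a {z : V} {r : F} (o : Ok Q z y) (h1 : BB a z = 0) (h2 : BB a y = r • z) : Commute (sg Q z y) a :=
  (mul_inv_eq_iff_eq_mul.1 (by rw [conj_sg, BB_app, BB_app a y, h1, h2, add_zero, sg_add_smul o])).symm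

theorem inv3 (h : a * a = 1) {z gz : V} (o : Ok Q z y) (h1 : BB a gz = z) (h2 : 𝐟 z gz = 0) (h3 : 𝐟 gz y = 0)
    (h4 : Q (BB a y) = 0) : sg Q z y * sg Q (BB a y) gz * (sg Q z y * sg Q (BB a y) gz) = 1 ∧
      Commute (sg Q z y * sg Q (BB a y) gz) a := by
  have t : TS2 Q z (BB a y) := ⟨o.l, h4, h1 ▸ BB_orth h gz y⟩
  have c : Commute (sg Q (BB a y) gz) (sg Q z y) :=
    comm_sg (sg_fix t.p h2) (sg_fix (by rw [← BB_Q, h4]) (by rw [polar_comm, h3]))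
  refine ⟨by rw [c.mul_mul_mul_comm, sg_sq, sg_sq, one_mul], (mul_inv_eq_iff_eq_mul.1 ?_).symm⟩
  rw [← conj_mul, conj_sg, conj_sg, BB_app a z, BB_app a y, BB_app a (BB a y), BB_app a gz, h1, BB_BB h,
    show BB a z = 0 from h1 ▸ BB_BB h gz, add_zero, add_zero, sg_add o (ok_of t),
    sg_add ⟨h4, by rw [polar_comm, BB_sym h, h1, polar_comm, o.p]⟩ (ok_of t.symm), (sg_comm _ gz z).eq,
    ← sg_swap t, mul_assoc, ← mul_assoc (sg Q z (BB a y)), sg_sq, one_mul]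

/-- the flag -/
def Ch (a : EG Q) (u e : V) : ℕ → Submodule F V
  | 0 => ⊥
  | 1 => Submodule.span F {u}
  | 2 => Submodule.span F {u, e}
  | 3 => (perp Q (Submodule.span F {u, e})).map (BL a)
  | 4 => (perp Q (Submodule.span F {u})).map (BL a)
  | 5 => LinearMap.range (BL a)
  | 6 => perp Q (LinearMap.range (BL a))
  | 7 => perp Q ((perp Q (Submodule.span F {u})).map (BL a))
  | 8 => perp Q ((perp Q (Submodule.span F {u, e})).map (BL a))
  | 9 => perp Q (Submodule.span F {u, e})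
  | 10 => perp Q (Submodule.span F {u})
  | _ + 11 => ⊤

/-- trivial action on the factors of a chain -/
def Tr (C : ℕ → Submodule F V) (g : EG Q) : Prop := ∀ i, ∀ x ∈ C (i + 1), g.1.1 x + x ∈ C i

namespace ID

variable (hd : Dm Q) (h : ID a u e m gu ge gm κ)
include hd h

/-- `𝐟 u gu = Q u`, etc.; `u, e, m` are fixed by `a` -/
theorem bas : BB a gu = u ∧ BB a ge = e ∧ BB a gm = m ∧ BB a u = 0 ∧ BB a e = 0 ∧ BB a m = 0 ∧
    𝐟 u gu = 0 ∧ 𝐟 e ge = 0 ∧ 𝐟 m gm = 0 ∧ 𝐟 e gu = 0 ∧ 𝐟 m gu = 0 ∧ 𝐟 m ge = 1 := by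
  have e1 : BB a gu = u := BB_of h.bu
  have e2 : BB a ge = e := BB_of h.be
  have e3 : BB a gm = m := BB_of h.bm
  obtain ⟨t1, t2, -, -⟩ := ti3_iff.1 h.ti
  refine ⟨e1, e2, e3, e1 ▸ BB_BB h.aa gu, e2 ▸ BB_BB h.aa ge, e3 ▸ BB_BB h.aa gm, ?_, ?_, ?_, ?_, ?_, ?_⟩
  · rw [polar_comm, ← t1.l, ← e1, BB_Q]
  · rw [polar_comm, ← t1.r, ← e2, BB_Q]
  · rw [polar_comm, ← t2.r, ← e3, BB_Q]
  · rw [polar_comm, ← h.ue, ← e2, BB_sym h.aa, e1, polar_comm]
  · rw [polar_comm, ← h.um, ← e3, BB_sym h.aa, e1, polar_comm]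
  · rw [polar_comm, ← h.em, ← e3, BB_sym h.aa, e2, polar_comm]

omit hd in
theorem qB (x : V) : Q (BB a x) = κ * 𝐟 u x ^ 2 := h.q x

theorem uB (x : V) : 𝐟 u (BB a x) = 0 := (h.bas hd).1 ▸ BB_orth h.aa gu x

theorem eB (x : V) : 𝐟 e (BB a x) = 0 := (h.bas hd).2.1 ▸ BB_orth h.aa ge x

theorem X_zero' (b : F) : IsX a u e κ 0 b (sg Q u (b • e)).1 := fun x => by
  obtain ⟨t1, -⟩ := ti3_iff.1 h.ti
  rw [sg_apply ((ok_of t1).smul b), polar_smul_right', QuadraticMap.map_smul, t1.r, polar_comm Q x, polar_comm Q x]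
  match_scalars <;> ring

theorem Ch_le (i : ℕ) : Ch a u e i ≤ Ch a u e (i + 1) := by
  obtain ⟨e1, e2, -, -, -, -, p1, p2, -, p4, -⟩ := h.bas hd
  have l1 : Ch a u e 1 ≤ Ch a u e 2 := Submodule.span_mono (by simp)
  have l2 : Ch a u e 2 ≤ Ch a u e 3 := Submodule.span_le.2 (by
    rintro x (rfl | rfl)
    exacts [⟨gu, mem_perp2''.2 ⟨p1, p4⟩, e1⟩, ⟨ge, mem_perp2''.2 ⟨h.ue, p2⟩, e2⟩])
  have l3 : Ch a u e 3 ≤ Ch a u e 4 := Submodule.map_mono (perp_anti l1)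
  have l4 : Ch a u e 4 ≤ Ch a u e 5 := LinearMap.map_le_range
  match i with
  | 0 => exact bot_le
  | 1 => exact l1
  | 2 => exact l2
  | 3 => exact l3
  | 4 => exact l4
  | 5 => rintro _ ⟨x, rfl⟩ _ ⟨y, rfl⟩; exact BB_orth h.aa y x
  | 6 => exact perp_anti l4
  | 7 => exact perp_anti l3
  | 8 => exact perp_anti l2
  | 9 => exact perp_anti l1
  | _ + 10 => exact le_top

theorem Tr_of (hl : ∀ i ≤ 5, ∀ x ∈ Ch a u e (i + 1), g.1.1 x + x ∈ Ch a u e i) : Tr (Ch a u e) g := fun i => by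
  have k := fun j hj => triv_perp hd.nd (h.Ch_le hd j) (hl j hj)
  match i with
  | 0 | 1 | 2 | 3 | 4 | 5 => exact hl _ (by omega)
  | 6 => exact k 4 (by omega)
  | 7 => exact k 3 (by omega)
  | 8 => exact k 2 (by omega)
  | 9 => exact k 1 (by omega)
  | 10 => exact fun x _ => k 0 (by omega) x fun v hv => by rw [show v = 0 from hv, polar_zero_left]
  | _ + 11 => exact fun _ _ => trivial

/-- The map `x ↦ x + N x` with `N x ∈ M`, `N M = 0` is an involution; it is an isometry since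
`Q (N x) = 𝐟 x (N x)` (both sides are computed from `Q (B x) = 𝐟 x (B x) = κ 𝐟(u,x)²`).  For
`s = 0` it is `sg u (b e)`.  For `s ≠ 0`: if `N x = 0` then `B x ∈ ⟨u,e⟩`, so
`x ∈ ⟨gu, ge⟩ + M^⊥ ⊥ u, e` and `B x = 0`; hence `ker N = M^⊥`, `mov = M`, `Dm.mem_EG`. -/
theorem exists_X (s b : F) : ∃ g : EG Q, IsX a u e κ s b g.1 ∧ (s ≠ 0 → mov g.1 = mov a.1) := by
  by_cases hs : s = 0
  · subst hs
    exact ⟨_, X_zero' hd h b, fun e => absurd rfl e⟩
  obtain ⟨e1, e2, -, e4, e5, -, p1, p2, -, p4, -⟩ := h.bas hd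
  obtain ⟨t1, -⟩ := ti3_iff.1 h.ti
  let L : V →ₗ[F] V := LinearMap.id + s • BL a +
    (((s ^ 2 + s) * κ) • polarBilin Q u + b • polarBilin Q e).smulRight u + (b • polarBilin Q u).smulRight e
  have hL : ∀ x, L x = x + s • BB a x + ((s ^ 2 + s) * κ * 𝐟 u x + b * 𝐟 e x) • u + (b * 𝐟 u x) • e :=
    fun x => by simp [L, BL_apply]
  have h1 : Function.Involutive L := fun x => by
    rw [hL, hL x]
    simp only [BB_add, BB_smul, BB_BB h.aa, e4, e5, polar_add_right, polar_smul_right', uB hd h, eB hd h,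
      f_self, t1.p, t1.symm.p]
    match_scalars <;> grind
  have h2 : ∀ x, Q (L x) = Q x := fun x => by
    rw [hL]
    simp only [Q_add, QuadraticMap.map_smul, smul_eq_mul, polar_add_left, polar_smul_left', polar_smul_right',
      h.qB, ← BB_Q, polar_comm Q (BB a x), uB hd h, eB hd h, t1.l, t1.r, t1.p, polar_comm Q x u, polar_comm Q x e]
    grind
  let k : OG Q := ⟨LinearEquiv.ofInvolutive L h1, h2⟩
  have hk : IsX a u e κ s b k := hL
  have hm : mov k = mov a.1 := le_antisymm (by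
      rintro _ ⟨x, rfl⟩
      rw [movMap_apply, hk x, show x - (x + s • BB a x + ((s ^ 2 + s) * κ * 𝐟 u x + b * 𝐟 e x) • u +
        (b * 𝐟 u x) • e) = -(s • BB a x + ((s ^ 2 + s) * κ * 𝐟 u x + b * 𝐟 e x) • u + (b * 𝐟 u x) • e) by abel]
      exact neg_mem (add_mem (add_mem (Submodule.smul_mem _ _ (BB_mem x)) (Submodule.smul_mem _ _ (e1 ▸ BB_mem gu)))
        (Submodule.smul_mem _ _ (e2 ▸ BB_mem ge))))
    fun v hv => mem_mov_of_polar_fix hd.nd k fun x hx => polar_fix_of_mem_mov a.1 (by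
      have e0 := (hk x).symm.trans hx
      have f1 := congrArg (𝐟 gu) e0
      have f2 := congrArg (𝐟 ge) e0
      simp only [polar_add_right, polar_smul_right', BB_sym h.aa gu x, BB_sym h.aa ge x, e1, e2,
        polar_comm Q gu u, polar_comm Q gu e, polar_comm Q ge u, polar_comm Q ge e, p1, p2, p4, h.ue,
        polar_comm Q x u, polar_comm Q x e, mul_zero, add_zero, add_eq_left, mul_eq_zero, hs, false_or] at f1 f2
      simp only [f1, f2, mul_zero, add_zero, zero_smul, add_eq_left, smul_eq_zero, hs, false_or] at e0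
      rw [BB_app, e0, add_zero]) hv
  exact ⟨⟨k, hd.mem_EG.2 (hm ▸ hd.mem_EG.1 a.2)⟩, hk, fun _ => hm⟩

omit hd h in
theorem X_uniq {s b : F} {k k' : OG Q} (h1 : IsX a u e κ s b k) (h2 : IsX a u e κ s b k') :
    k = k' := OG.ext fun x => (h1 x).trans (h2 x).symm

theorem X_mul {s b s' b' : F} {k k' : OG Q} (h1 : IsX a u e κ s b k) (h2 : IsX a u e κ s' b' k') :
    IsX a u e κ (s + s') (b + b') (k * k') := fun x => by
  obtain ⟨-, -, -, e4, e5, -⟩ := h.bas hd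
  obtain ⟨t1, -⟩ := ti3_iff.1 h.ti
  rw [OG.mul_apply, h1, h2 x]
  simp only [BB_add, BB_smul, BB_BB h.aa, e4, e5, polar_add_right, polar_smul_right', uB hd h, eB hd h,
    f_self, t1.p, t1.symm.p]
  match_scalars <;> grind

theorem X_one : IsX a u e κ 1 0 a.1 := fun x => by
  rw [BB_app]
  match_scalars <;> grind

theorem X_zero (b : F) : IsX a u e κ 0 b (sg Q u (b • e)).1 := X_zero' hd h b

/-- `ND.isConj_iff_invol` (same `mov`); `ND.exists_fixed_nonsingular` and `exists_commutator_conj`,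
or `exists_commutator_conj_iff` with `M ⊓ M = M` of even dimension. -/
theorem X_conj {s b : F} (hs : s ≠ 0) (h1 : IsX a u e κ s b g.1) : ∃ l, l * a * l⁻¹ = g := by
  obtain ⟨k, h2, h3⟩ := h.exists_X hd s b
  have hm : mov g.1 = mov a.1 := X_uniq h1 h2 ▸ h3 hs
  have aa : a.1 * a.1 = 1 := congrArg Subtype.val h.aa
  have gg : g.1 * g.1 = 1 := by
    have e1 := h.X_mul hd h1 h1
    have e2 := h.X_zero hd 0
    rw [CharTwo.add_self_eq_zero, CharTwo.add_self_eq_zero] at e1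
    rw [zero_smul, sg_zero] at e2
    exact X_uniq e1 e2
  have c : IsConj a.1 g.1 := (hd.nd.isConj_iff_invol (two_zero F) aa gg).2 (by rw [hm]; exact ⟨rfl, Iff.rfl⟩)
  obtain ⟨l, hl, e1⟩ : ∃ l ∈ commutator (OG Q), l * a.1 * l⁻¹ = g.1 := by
    by_cases c0 : 2 * finrank F (mov a.1) = finrank F V ∧ TS Q (mov a.1)
    · exact (exists_commutator_conj_iff hd.nd hd.reflGen (two_zero F) c c0.1 c0.2).2 (by
        rw [hm, inf_idem]; exact hd.mem_EG.1 a.2)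
    · exact exists_commutator_conj hd.nd hd.reflGen (two_zero F) c
        (hd.nd.exists_fixed_nonsingular (two_zero F) aa c0)
  exact ⟨⟨l, hd.comm_eq ▸ hl⟩, Subtype.ext e1⟩

/-- Third type: `x' = B y` is singular, `sg x' gu` fixes `u` and `y`, so the two factors commute;
`a` multiplies both factors by `sg u x' = sg x' u`. -/
theorem UG_inv (hg : g ∈ UG a u e gu ge) : g * g = 1 ∧ Commute g a := by
  obtain ⟨e1, e2, -, e4, e5, -, p1, p2, -⟩ := h.bas hd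
  obtain ⟨t1, -⟩ := ti3_iff.1 h.ti
  rcases hg with ⟨y, h1, ⟨r, h2⟩, rfl⟩ | ⟨y, -, h1, ⟨r, h2⟩, rfl⟩ | ⟨y, h1, h2, rfl⟩ | ⟨y, h0, h1, h2, rfl⟩
  · exact ⟨sg_sq _ _, comm_a ⟨t1.l, h1⟩ e4 h2⟩
  · exact ⟨sg_sq _ _, comm_a ⟨t1.r, h1⟩ e5 h2⟩
  · exact inv3 h.aa ⟨t1.l, h1⟩ e1 p1 h2 (by rw [h.qB, h1]; ring)
  · exact inv3 h.aa ⟨t1.r, h1⟩ e2 p2 h2 (by rw [h.qB, h0]; ring)

/-- `isPGroup_of_chain` for
`0 ≤ ⟨u⟩ ≤ ⟨u,e⟩ ≤ M₁ = B ⟨u,e⟩^⊥ ≤ M₂ = B u^⊥ ≤ M ≤ M^⊥ ≤ M₂^⊥ ≤ M₁^⊥ ≤ ⟨u,e⟩^⊥ ≤ u^⊥ ≤ V`;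
the upper half follows from the lower half by `triv_perp`.  Each factor `sg u y` (`y ⊥ u`),
`sg e y` (`y ⊥ u, e`), `sg (B y) gu` (fixes `M₂`, moves `M^⊥` by `B y ∈ M₂`), `sg (B y) ge`
(`B y ∈ M₁`, fixes `M₁`, moves `M^⊥` by `B y`) acts trivially on all factors. -/
theorem UG_two : IsPGroup 2 (closure (UG a u e gu ge)) := by
  obtain ⟨e1, e2, -, -, -, -, p1, p2, -, p4, -⟩ := h.bas hd
  obtain ⟨t1, -⟩ := ti3_iff.1 h.ti
  have hm := Ch_le hd h
  have mono := monotone_nat_of_le_succ hm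
  have mul : ∀ {g k : EG Q}, Tr (Ch a u e) g → Tr (Ch a u e) k → Tr (Ch a u e) (g * k) :=
    fun {g k} h1 h2 i x hx => by
      have e0 := h2 i x hx
      have := add_mem (h1 i _ (add_mem hx (hm i e0))) e0
      rwa [show x + (k.1.1 x + x) = k.1.1 x by rw [add_comm, add_assoc, add_self' F, add_zero], add_assoc,
        ← add_assoc (k.1.1 x), add_self' F, zero_add] at this
  have key : ∀ {z w : V} (j : ℕ), j ≤ 5 → Ok Q z w → z ∈ Ch a u e j → (∀ x ∈ Ch a u e j, 𝐟 x w = 0) →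
      Tr (Ch a u e) (sg Q z w) := fun {z w} j hj o hz hw => Tr_of hd h fun i hi x hx => by
    have hx' : x ∈ perp Q (Ch a u e 5) := mono (show i + 1 ≤ 6 by omega) hx
    rw [sg_apply_perp o (by rw [polar_comm]; exact hx' z (mono hj hz)), add_right_comm, add_self' F, zero_add]
    by_cases c : j ≤ i
    · exact Submodule.smul_mem _ _ (mono c hz)
    · rw [hw x (mono (show i + 1 ≤ j by omega) hx), zero_smul]; exact zero_mem _
  have k1 : ∀ y, 𝐟 u y = 0 → Tr (Ch a u e) (sg Q u y) := fun y hy =>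
    key 1 (by omega) ⟨t1.l, hy⟩ (Submodule.mem_span_singleton_self u) fun x hx => mem_perp1.2 hy x hx
  have k2 : ∀ y, 𝐟 u y = 0 → 𝐟 e y = 0 → Tr (Ch a u e) (sg Q e y) := fun y hy hy' =>
    key 2 (by omega) ⟨t1.r, hy'⟩ (Submodule.subset_span (by simp)) fun x hx => mem_perp2''.2 ⟨hy, hy'⟩ x hx
  have gen : ∀ g ∈ UG a u e gu ge, Tr (Ch a u e) g := by
    rintro g (⟨y, h1, -, rfl⟩ | ⟨y, h0, h1, -, rfl⟩ | ⟨y, h1, -, rfl⟩ | ⟨y, h0, h1, -, rfl⟩)
    · exact k1 y h1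
    · exact k2 y h0 h1
    · refine mul (k1 y h1) (key 4 (by omega) ⟨by rw [h.qB, h1]; ring, ?_⟩ ⟨y, mem_perp1.2 h1, rfl⟩ ?_)
      · rw [polar_comm, BB_sym h.aa, e1, polar_comm, h1]
      · rintro _ ⟨w, hw, rfl⟩
        rw [BL_apply, polar_comm, BB_sym h.aa, e1, polar_comm, mem_perp1.1 hw]
    · refine mul (k2 y h0 h1) (key 3 (by omega) ⟨by rw [h.qB, h0]; ring, ?_⟩ ⟨y, mem_perp2''.2 ⟨h0, h1⟩, rfl⟩ ?_)
      · rw [polar_comm, BB_sym h.aa, e2, polar_comm, h1]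
      · rintro _ ⟨w, hw, rfl⟩
        rw [BL_apply, polar_comm, BB_sym h.aa, e2, polar_comm, (mem_perp2''.1 hw).2]
  refine isPGroup_of_chain (Ch a u e) 11 rfl rfl hm fun g hg => ?_
  induction hg using closure_induction'' with
  | mem g hg => exact gen g hg
  | inv_mem g hg => rw [inv_eq_of_mul_eq_one_right (h.UG_inv hd hg).1]; exact gen g hg
  | one => intro i x _; rw [show (1 : EG Q).1.1 x = x from rfl, add_self' F]; exact zero_mem _
  | mul g k _ _ h1 h2 => exact mul h1 h2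

/-- `sg u (b e) = ⁅sg e ge, sg u (b m)⁆` -/
theorem z_mem (b : F) : sg Q u (b • e) ∈ ⁅closure (UG a u e gu ge), closure (UG a u e gu ge)⁆ := by
  obtain ⟨-, e2, -, -, -, e6, -, p2, -, -, -, p6⟩ := h.bas hd
  obtain ⟨t1, t2, t3, -⟩ := ti3_iff.1 h.ti
  have o := (ok_of t2).smul b
  have e0 := cm_sg (g := sg Q e ge) o (sg_fix t1.p h.ue)
  rw [sg_apply_perp ⟨t1.r, p2⟩ (by rw [polar_smul_left', polar_comm, t3, mul_zero]), polar_smul_left', p6, mul_one,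
    add_right_comm, add_self' F, zero_add] at e0
  rw [← e0]
  exact commutator_mem_commutator (subset_closure (Or.inr (Or.inl ⟨ge, h.ue, p2, ⟨1, by rw [e2, one_smul]⟩, rfl⟩)))
    (subset_closure (Or.inl ⟨_, o.p, ⟨0, by rw [BB_smul, e6, smul_zero, zero_smul]⟩, rfl⟩))

/-- `c' = sg m gm : e ↦ e + m`, `c = sg e ge * c' : e ↦ m`; both fix `u` and commute with `a` -/
theorem mv : ∃ c ∈ 𝐳[a], ∃ c' ∈ 𝐳[a], c * sg Q u e * c⁻¹ = sg Q u m ∧
    c' * sg Q u e * c'⁻¹ = sg Q u e * sg Q u m := by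
  obtain ⟨-, e2, e3, -, e5, e6, -, p2, p3, -, -, p6⟩ := h.bas hd
  obtain ⟨t1, t2, t3, -⟩ := ti3_iff.1 h.ti
  have c1 := comm_a (a := a) ⟨t2.r, p3⟩ e6 (r := 1) (by rw [e3, one_smul])
  have c2 := comm_a (a := a) ⟨t1.r, p2⟩ e5 (r := 1) (by rw [e2, one_smul])
  have f1 : sg Q m gm * sg Q u e * (sg Q m gm)⁻¹ = sg Q u (e + m) := by
    rw [conj_sg, sg_fix t2.p h.um, sg_apply_perp ⟨t2.r, p3⟩ t3, h.em, one_smul]
  refine ⟨_, mem_centralizer_singleton_iff.2 (c2.mul_left c1), _, mem_centralizer_singleton_iff.2 c1, ?_, by rw [f1, sg_add (ok_of t1) (ok_of t2)]⟩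
  rw [show ∀ a b c : EG Q, a * b * c * (a * b)⁻¹ = a * (b * c * b⁻¹) * a⁻¹ from fun a b c => by group, f1, conj_sg,
    sg_fix t1.p h.ue, sg_apply_perp ⟨t1.r, p2⟩ (by rw [polar_add_left, f_self, polar_comm, t3, add_zero]),
    polar_add_left, p2, p6, zero_add, one_smul, add_right_comm, add_self' F, zero_add]

end ID

end Cfsg.Agent.StdO
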