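import Cfsg.Agent.StdO.ClB
import Cfsg.Agent.StdO.ClA

/-! Step 0, involutions of rank at least four: rigidity and `StdZ.Cl`. -/

set_option autoImplicit false
set_option linter.unusedSectionVars false
set_option linter.unusedVariables false

namespace Cfsg.Agent.StdO

open Subgroup Module QuadraticMap Cfsg.Agent.Class.Orth Cfsg.Agent.KSG Cfsg.Agent.PLocal.Amb
  Cfsg.Agent.Lyons
open Cfsg.Agent.StdL (cjh)
open scoped commutatorElement

variable {F V : Type*} [Field F] [Finite F] [CharP F 2] [AddCommGroup V] [Module F V]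
  [FiniteDimensional F V] {Q : QuadraticForm F V} {G : Type*} [Group G] [Finite G]
  {ι : EG Q →* G} {t : G}

local notation "𝐟" => polar Q

variable {a : EG Q} {u e m gu ge gm : V} {κ : F}

namespace ClZ

/-- `{y ⊥ W | B y ∈ ⟨z⟩}` -/
def Bz (a : EG Q) (W : Set V) (z : V) : Submodule F V :=
  perp Q (Submodule.span F W) ⊓ (Submodule.span F {z}).comap (BL a)

theorem mem_Bu {y : V} : y ∈ Bz a {u} u ↔ 𝐟 u y = 0 ∧ ∃ r : F, BB a y = r • u :=
  and_congr mem_perp1 (Submodule.mem_span_singleton.trans (exists_congr fun _ => eq_comm))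

theorem mem_Be {y : V} : y ∈ Bz a {u, e} e ↔ (𝐟 u y = 0 ∧ 𝐟 e y = 0) ∧ ∃ r : F, BB a y = r • e :=
  and_congr mem_perp2'' (Submodule.mem_span_singleton.trans (exists_congr fun _ => eq_comm))

theorem gu_mem {y : V} (hy : y ∈ Bz a {u} u) : sg Q u y ∈ closure (UG a u e gu ge) :=
  subset_closure (.inl ⟨y, (mem_Bu.1 hy).1, (mem_Bu.1 hy).2, rfl⟩)

theorem ge_mem {y : V} (hy : y ∈ Bz a {u, e} e) : sg Q e y ∈ closure (UG a u e gu ge) :=
  subset_closure (.inr (.inl ⟨y, (mem_Be.1 hy).1.1, (mem_Be.1 hy).1.2, (mem_Be.1 hy).2, rfl⟩))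

variable {Y : EG Q → Prop} {U : Subgroup (EG Q)}

theorem half (h1 : ∀ x ∈ U, ∀ y ∈ U, Y x ∨ Y y ∨ Y (x * y)) {z : V} {B : Submodule F V}
    (hB : ∀ y ∈ B, Ok Q z y) (hU : ∀ y ∈ B, sg Q z y ∈ U) :
    ∀ x ∈ B, ∀ y ∈ B, Y (sg Q z x) ∨ Y (sg Q z y) ∨ Y (sg Q z (x + y)) := fun x hx y hy => by
  rw [sg_add (hB x hx) (hB y hy)]
  exact h1 _ (hU x hx) _ (hU y hy)

theorem line (h1 : ∀ x ∈ U, ∀ y ∈ U, Y x ∨ Y y ∨ Y (x * y)) (h2 : Nat.card F = 2 → ∀ x ∈ U, Y x)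
    {S : F → EG Q} (hS : ∀ r, S r ∈ U) (ha : ∀ r s, S (r + s) = S r * S s) :
    ∃ r, r ≠ 0 ∧ Y (S r) := by
  obtain ⟨r, r0, hr⟩ := ClA.ln (V := F) (Y := fun r => Y (S r)) (B := (⊤ : Submodule F F))
    (fun r _ s _ => by rw [ha]; exact h1 _ (hS r) _ (hS s)) (fun e r _ => h2 e _ (hS r))
    (Submodule.mem_top (x := 1))
  exact ⟨r, r0, by simpa using hr⟩

theorem okE (h : ID a u e m gu ge gm κ) : ∀ y ∈ Bz a {u, e} e, Ok Q e y := fun _ hy =>
  ⟨(ti3_iff.1 h.ti).1.r, (mem_Be.1 hy).1.2⟩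

theorem okU (h : ID a u e m gu ge gm κ) : ∀ y ∈ Bz a {u} u, Ok Q u y := fun _ hy =>
  ⟨(ti3_iff.1 h.ti).1.l, (mem_Bu.1 hy).1⟩

theorem mems (hd : Dm Q) (h : ID a u e m gu ge gm κ) : u ∈ Bz a {u, e} e ∧ m ∈ Bz a {u, e} e ∧
    ge ∈ Bz a {u, e} e ∧ e ∈ Bz a {u} u ∧ m ∈ Bz a {u} u ∧ gu ∈ Bz a {u} u := by
  obtain ⟨e1, e2, -, e4, e5, e6, p1, p2, -⟩ := h.bas hd
  obtain ⟨t1, t2, t3, -⟩ := ti3_iff.1 h.ti
  exact ⟨mem_Be.2 ⟨⟨f_self u, t1.p'⟩, 0, by rw [e4, zero_smul]⟩,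
    mem_Be.2 ⟨⟨t2.p, t3⟩, 0, by rw [e6, zero_smul]⟩,
    mem_Be.2 ⟨⟨h.ue, p2⟩, 1, by rw [e2, one_smul]⟩, mem_Bu.2 ⟨t1.p, 0, by rw [e5, zero_smul]⟩,
    mem_Bu.2 ⟨t2.p, 0, by rw [e6, zero_smul]⟩, mem_Bu.2 ⟨p1, 1, by rw [e1, one_smul]⟩⟩

theorem two (hd : Dm Q) (h : ID a u e m gu ge gm κ)
    (h1 : ∀ x ∈ closure (UG a u e gu ge), ∀ y ∈ closure (UG a u e gu ge), Y x ∨ Y y ∨ Y (x * y))
    (h2 : Nat.card F = 2 → ∀ x ∈ closure (UG a u e gu ge), Y x) :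
    ∃ x y, TS2 Q e x ∧ TS2 Q e y ∧ 𝐟 x y ≠ 0 ∧ Y (sg Q e x) ∧ Y (sg Q e y) := by
  obtain ⟨-, -, -, -, -, -, -, p2, -, -, -, p6⟩ := h.bas hd
  obtain ⟨t1, t2, t3, -⟩ := ti3_iff.1 h.ti
  obtain ⟨-, m2, m3, -⟩ := mems hd h
  have k := fun y (hy : y ∈ Bz a {u, e} e) => ClA.ln (Y := fun y => Y (sg Q e y))
    (half h1 (okE h) fun _ => ge_mem) (fun c _ hy => h2 c _ (ge_mem hy)) hy
  obtain ⟨r, r0, k1⟩ := k m m2
  obtain ⟨s, s0, k2⟩ := k ge m3
  refine ⟨_, _, TS2.smul_right ⟨t1.r, t2.r, t3⟩ r, TS2.smul_right ⟨t1.r, h.qe, p2⟩ s, ?_, k1, k2⟩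
  rw [polar_smul_left', polar_smul_right', p6, mul_one]
  exact mul_ne_zero r0 s0

theorem cE_k (k : OG Q) {z y : V} (o : Ok Q z y) :
    cE (SS.oO Q k) (sg Q z y) = sg Q (k.1 z) (k.1 y) := cE_sg rfl o

/-- step (4) -/
theorem third (hQ : ND Q) (aa : a * a = 1) {k : OG Q} {z gz y : V} {α : F} (h0 : z ≠ 0)
    (o : Ok Q z y) (e1 : BB a gz = z) (p1 : 𝐟 z gz = 0) (p2 : 𝐟 gz y = 0) (q : Q (BB a y) = 0)
    (k1 : k.1 z = z) (k2 : k.1 gz = gz + α • z) (k3 : k.1 (BB a y) = BB a y)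
    (h1 : ∀ x ∈ U, ∀ y ∈ U, cE (SS.oO Q k) x = x ∨ cE (SS.oO Q k) y = y ∨
      cE (SS.oO Q k) (x * y) = x * y)
    (h2 : Nat.card F = 2 → ∀ x ∈ U, cE (SS.oO Q k) x = x)
    (hU : ∀ r : F, sg Q z (r • y) * sg Q (BB a (r • y)) gz ∈ U) :
    ∃ c : F, k.1 y = y + α • BB a y + c • z := by
  have t : TS2 Q z (BB a y) := ⟨o.l, q, e1 ▸ BB_orth aa gz y⟩
  have o2 : Ok Q (BB a y) gz := ⟨q, by rw [polar_comm, BB_sym aa, e1, polar_comm, o.p]⟩
  have c : ∀ r s : F, Commute (sg Q (BB a y) (r • gz)) (sg Q z (s • y)) := fun r s =>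
    comm_sg (sg_fix t.p (by rw [polar_smul_right', p1, mul_zero]))
      (sg_fix (by rw [polar_smul_left', ← BB_Q, q, mul_zero])
        (by rw [polar_smul_left', polar_smul_right', polar_comm, p2, mul_zero, mul_zero]))
  obtain ⟨r, r0, hr⟩ := line (Y := fun x => cE (SS.oO Q k) x = x) h1 h2
    (S := fun r => sg Q z (r • y) * sg Q (BB a y) (r • gz))
    (fun r => by simpa only [BB_smul, sg_smul o2] using hU r) fun r s => by
      simp only [add_smul]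
      rw [sg_add (o.smul r) (o.smul s), sg_add (o2.smul r) (o2.smul s),
        (c r s).symm.mul_mul_mul_comm]
  have o3 : Ok Q z (k.1 y) := ⟨o.l, by rw [← k1, OG.map_polar, o.p]⟩
  rw [map_mul, cE_k k (o.smul r), cE_k k (o2.smul r), k1, k3, map_smul, map_smul, k2, smul_add,
    smul_smul, add_comm (r • gz), sg_add ((ok_of t.symm).smul _) (o2.smul r), ← mul_assoc,
    mul_left_inj, ← sg_smul (ok_of t.symm), ← sg_swap (t.smul_right _),
    ← sg_add (o3.smul r) ((ok_of t).smul _),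
    sg_inj hQ ((o3.smul r).add ((ok_of t).smul _)) (o.smul r) h0] at hr
  obtain ⟨d, hd⟩ := hr
  refine ⟨r⁻¹ * d, smul_right_injective V r0 ?_⟩
  simp only [smul_add, smul_smul, mul_inv_cancel_left₀ r0]
  linear_combination (norm := module) hd - add_self' F ((r * α) • BB a y)

end ClZ

open ClZ

/-- `Y g` means that `T` fixes `g`; `T * T = 1` is not needed.
(1) `half_line` (or `q = 2`) on the lines `sg e (s ge)`, `sg e (s m)`, `fix_pt`: `T e = l e`.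
(2) `half_fix` for `B_e = {y ⊥ u, e | B y ∈ ⟨e⟩} ∋ u, m`: `σ = 1`, `l T y ≡ y` mod `e` on `B_e`.
From `l T ge = ge + r e`, `l T m = m + r' e` and `𝐟 ge m = 1`: `l² = 1`, `l = 1`.  `T = oO k`.
(3) `k u = u + r e`, and `k` fixes `sg u (s m)` for some `s ≠ 0`, so `k u ∈ ⟨u, m⟩`, `r = 0`.
`half_fix` for `B_u = {y ⊥ u | B y ∈ ⟨u⟩}`: `k y ≡ y` mod `u`.  On `M^⊥ ≤ B_u ⊓ B_e`, `k y = y`.
Put `B' x = k x + x ∈ M` (`triv_perp`); `k² = 1`, `B'` symmetric; `B' gu = α u`, `B' ge = α' e`.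
(4) Third generators along the line `s y` (`S(s y) S(s' y) = S((s+s') y)`): `k` conjugates
`sg u y * sg x' gu` to `sg u (y + B' y) * sg x' (gu + α u)`; `𝐟 (B' y) gu = α 𝐟 y u = 0`, so
`sg u (B' y + α B y) = 1`.  Hence `B'' = B' + α B` maps `u^⊥ = (u^⊥ ⊓ gu^⊥) + M^⊥` into `⟨u⟩`
(`gu ∉ M`, `exists_perp`).  `B'' ge = (α + α') e` gives `α' = α`.  Fourth generators: `B'' y ∈ ⟨e⟩`
for `y ⊥ u, e` (add a multiple of `m` to get `y ⊥ ge`), so `B''` vanishes on `⟨u,e⟩^⊥` and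
`B'' y = b 𝐟 e y • u` on `u^⊥` (`b u = B'' gm`).  (5) `k` and `X(α) ζ(b)` agree on `u^⊥`,
`eq_one_of_fix`. -/
theorem ID.rig (hd : Dm Q) (h : ID a u e m gu ge gm κ) {T : SS Q} (hc : T.c = 1)
    (h1 : ∀ x ∈ closure (UG a u e gu ge), ∀ y ∈ closure (UG a u e gu ge),
      cE T x = x ∨ cE T y = y ∨ cE T (x * y) = x * y)
    (h2 : Nat.card F = 2 → ∀ x ∈ closure (UG a u e gu ge), cE T x = x) :
    ∃ s b k, IsX a u e κ s b k ∧ T = SS.oO Q k := by
  obtain ⟨e1, e2, e3, e4, e5, e6, p1, p2, p3, p4, p5, p6⟩ := h.bas hd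
  obtain ⟨t1, t2, t3, li⟩ := ti3_iff.1 h.ti
  obtain ⟨m1, m2, m3, m4, m5, m6⟩ := mems hd h
  have u0 : u ≠ 0 := fun c => one_ne_zero (li 1 0 0 (by simp [c])).1
  have e0 : e ≠ 0 := fun c => one_ne_zero (li 0 1 0 (by simp [c])).2.1
  have hE := half (Y := fun x => cE T x = x) h1 (okE h) fun _ => ge_mem
  have hU := half (Y := fun x => cE T x = x) h1 (okU h) fun _ => gu_mem
  have qU : Nat.card F = 2 → ∀ y ∈ Bz a {u} u, cE T (sg Q u y) = sg Q u y :=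
    fun c _ hy => h2 c _ (gu_mem hy)
  obtain ⟨x, y, a1, a2, a3, a4, a5⟩ := two (Y := fun x => cE T x = x) hd h h1 h2
  obtain ⟨l, -, hl⟩ := fix_pt hd.nd hc e0 a1 a2 a3 a4 a5
  obtain ⟨k1, k2⟩ := half_fix hl hE (fun c _ hy => h2 c _ (ge_mem hy))
    ⟨u, m1, m, m2, fun r s d c => by
      have := li r d s (by rw [← c]; abel)
      exact ⟨this.1, this.2.2⟩⟩
    fun y hy c => (fix_sg hd.nd hc e0 hl (okE h y hy)).1 c
  obtain ⟨k, rfl⟩ := SS.exists_oO k1 hc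
  simp only [SS.oO_T] at hl k2
  have l1 : l = 1 := by
    obtain ⟨r, c1⟩ := k2 m m2
    obtain ⟨s, c2⟩ := k2 ge m3
    have c3 := congrArg₂ 𝐟 c1 c2
    simp only [polar_smul_left', polar_smul_right', OG.map_polar, polar_add_left, polar_add_right,
      p6, p2, f_self, polar_comm Q m e, t3, mul_zero, add_zero, mul_one] at c3
    have : (l + 1) ^ 2 = 0 := by linear_combination c3 + (l + 1) * two_zero F
    linear_combination (pow_eq_zero_iff two_ne_zero).1 this - two_zero F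
  simp only [l1, one_smul] at hl k2
  have ku : k.1 u = u := by
    obtain ⟨r, c1⟩ := k2 u m1
    obtain ⟨s, s0, c2⟩ := ClA.ln hU qU m5
    have o := (ok_of t2).smul s
    rw [cE_k k o] at c2
    obtain ⟨b, d, c3⟩ := Submodule.mem_span_pair.1 ((span_of_sg_eq hd.nd o
      (Rig.ok (SS.oO Q k) o) (fun c => by
        obtain ⟨b, c⟩ := (sg_eq_one hd.nd o u0).1 c
        exact s0 (li (-b) 0 s (by rw [c]; module)).2.2) c2.symm).ge
      (Submodule.subset_span (Set.mem_insert _ _)))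
    rw [SS.oO_T, c1] at c3
    rw [c1, (neg_eq_zero.1 (li (b - 1) (-r) (d * s) (by
      linear_combination (norm := module) c3)).2.1), zero_smul, add_zero]
  obtain ⟨-, k3⟩ := half_fix (T := SS.oO Q k) (l := 1) (l' := 1) (by rw [one_smul]; exact ku) hU qU
    ⟨e, m4, m, m5, fun r s d c => (li d r s (by rw [← c]; abel)).2⟩
    fun y hy c => (fix_sg hd.nd hc u0 (by rw [one_smul]; exact ku) (okU h y hy)).1 c
  simp only [SS.oO_T, one_smul] at k3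
  have pu : ∀ y, BB a y = 0 → 𝐟 u y = 0 := fun y c => by
    rw [← e1, polar_comm, BB_sym h.aa, c, polar_zero_right]
  have k4 : ∀ y, BB a y = 0 → k.1 y = y := fun y c => by
    have pe : 𝐟 e y = 0 := by rw [← e2, polar_comm, BB_sym h.aa, c, polar_zero_right]
    obtain ⟨r, c1⟩ := k3 y (mem_Bu.2 ⟨pu y c, 0, by rw [c, zero_smul]⟩)
    obtain ⟨s, c2⟩ := k2 y (mem_Be.2 ⟨⟨pu y c, pe⟩, 0, by rw [c, zero_smul]⟩)
    rw [c1, (li r (-s) 0 (by linear_combination (norm := module) c2 - c1)).1, zero_smul, add_zero]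
  obtain ⟨α, c1⟩ := k3 gu m6
  obtain ⟨α', c2⟩ := k2 ge m3
  have k5 : ∀ y, 𝐟 u y = 0 → ∃ c : F, k.1 y = y + α • BB a y + c • u := fun y hy => by
    obtain ⟨z, hz, c3⟩ := exists_perp hd.nd (U := LinearMap.range (BL a)) (x := gu) (by
      rintro ⟨x, c⟩
      exact u0 (by rw [← e1, ← c, BL_apply, BB_BB h.aa])) (𝐟 gu y)
    have bz : BB a z = 0 := hd.nd _ fun x => by
      rw [polar_comm, BB_sym h.aa, polar_comm]; exact hz _ ⟨x, rfl⟩
    have y1 : 𝐟 u (y + z) = 0 := by rw [polar_add_right, hy, pu z bz, add_zero]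
    have y2 : 𝐟 gu (y + z) = 0 := by rw [polar_add_right, c3, CharTwo.add_self_eq_zero]
    obtain ⟨c, c4⟩ := third hd.nd h.aa u0 ⟨t1.l, y1⟩ e1 p1 y2 (by rw [h.qB, y1]; ring) ku c1
      (k4 _ (BB_BB h.aa _)) h1 h2 fun r => subset_closure (.inr (.inr (.inl ⟨_,
        by rw [polar_smul_right', y1, mul_zero], by rw [polar_smul_right', y2, mul_zero], rfl⟩)))
    rw [map_add, k4 z bz, BB_add, bz, add_zero] at c4
    exact ⟨c, by linear_combination (norm := module) c4⟩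
  obtain rfl : α' = α := by
    obtain ⟨c, c3⟩ := k5 ge h.ue
    rw [e2] at c3
    exact sub_eq_zero.1 (li (-c) (α' - α) 0 (by linear_combination (norm := module) c3 - c2)).2.1
  have k6 : ∀ y, 𝐟 u y = 0 → 𝐟 e y = 0 → k.1 y = y + α' • BB a y := fun y hy hy' => by
    have y1 : 𝐟 u (y + 𝐟 ge y • m) = 0 := by
      rw [polar_add_right, hy, polar_smul_right', t2.p, mul_zero, add_zero]
    have y2 : 𝐟 e (y + 𝐟 ge y • m) = 0 := by
      rw [polar_add_right, hy', polar_smul_right', t3, mul_zero, add_zero]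
    have y3 : 𝐟 ge (y + 𝐟 ge y • m) = 0 := by
      rw [polar_add_right, polar_smul_right', polar_comm Q ge m, p6, mul_one,
        CharTwo.add_self_eq_zero]
    obtain ⟨c, c4⟩ := third hd.nd h.aa e0 ⟨t1.r, y2⟩ e2 p2 y3 (by rw [h.qB, y1]; ring) hl c2
      (k4 _ (BB_BB h.aa _)) h1 h2 fun r => subset_closure (.inr (.inr (.inr ⟨_,
        by rw [polar_smul_right', y1, mul_zero], by rw [polar_smul_right', y2, mul_zero],
        by rw [polar_smul_right', y3, mul_zero], rfl⟩)))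
    rw [map_add, map_smul, k4 m e6, BB_add, BB_smul, e6, smul_zero, add_zero] at c4
    obtain ⟨d, c5⟩ := k5 y hy
    rw [c5, (li d (-c) 0 (by linear_combination (norm := module) c4 - c5)).1, zero_smul, add_zero]
  obtain ⟨b, c3⟩ := k5 gm h.um
  obtain ⟨g, hg, -⟩ := h.exists_X hd α' b
  have k7 : g.1⁻¹ * k = 1 := eq_one_of_fix hd.nd t1.l u0 fun y hy => by
    have c4 := k6 (y + 𝐟 e y • gm)
      (by rw [polar_add_right, hy, polar_smul_right', h.um, mul_zero, add_zero])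
      (by rw [polar_add_right, polar_smul_right', h.em, mul_one, CharTwo.add_self_eq_zero])
    rw [map_add, map_smul, c3, BB_add, BB_smul] at c4
    have c5 : k.1 y = g.1.1 y := by
      rw [hg y, hy]
      linear_combination (norm := module) c4 - add_self' F ((b * 𝐟 e y) • u)
    rw [OG.mul_apply, c5, OG.inv_apply_apply]
  exact ⟨α', b, k, inv_mul_eq_one.1 k7 ▸ hg, rfl⟩

/-- `X s = ι g` with `IsX .. s 0 g`, `U = (closure UG).map ι`.  `zs`: `Rp.semi` for multiples of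
`sg e ge`, `sg e m` (`half_line`), `ID.rig`, `Ac.inner`, `Su.inv`. -/
theorem Su.cl_big (h : Su ι t) (hd : ID a u e m gu ge gm κ) :
    ∃ U X, StdZ.Cl t ι.range U (ζ ι u e) X ∧ X 1 = ι a := by
  have hD : Dm Q := h.toRp.toDm
  have := finite_EG (Q := Q)
  obtain ⟨t1, t2, -, li⟩ := ti3_iff.1 hd.ti
  have u0 : u ≠ 0 := fun c => one_ne_zero (li 1 0 0 (by simp [c])).1
  choose g hg _ using fun s => hd.exists_X hD s 0
  have g1 : g 1 = a := Subtype.ext (ID.X_uniq (hg 1) (hd.X_one hD))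
  have xz : ∀ s b, IsX a u e κ s b (g s * sg Q u (b • e)).1 := fun s b => by
    simpa only [add_zero, zero_add, coe_mul] using hd.X_mul hD (hg s) (hd.X_zero hD b)
  have cm : ∀ {τ x : G}, x ∈ 𝐳[τ] → Commute τ x := mem_cent.1
  refine ⟨(closure (UG a u e gu ge)).map ι, fun s => ι (g s), ⟨fun s r => ?_, fun s b => ?_,
    fun s hs b => ?_, ?_, (hd.UG_two hD).map ι, ?_, fun b => ?_, fun τ hτ τ2 _ hY hq => ?_,
    fun _ => ?_⟩, congrArg ι g1⟩
  · rw [← map_mul]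
    exact congrArg ι (Subtype.ext (ID.X_uniq (hg _)
      (by simpa only [add_zero, coe_mul] using hd.X_mul hD (hg s) (hg r))))
  · rw [ζ, ← map_mul, ← map_mul]
    exact congrArg ι (Subtype.ext (ID.X_uniq (xz s b)
      (by simpa only [add_zero, zero_add, coe_mul] using hd.X_mul hD (hd.X_zero hD b) (hg s))))
  · obtain ⟨l, hl⟩ := hd.X_conj hD hs (xz s b)
    exact ⟨ι l, ⟨l, rfl⟩, by rw [g1, ζ, ← map_inv, ← map_mul, ← map_mul, ← map_mul, hl]⟩
  · refine map_le_iff_le_comap.2 ((closure_le _).2 fun x hx => ⟨⟨x, rfl⟩, ?_⟩)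
    rw [g1]
    exact mem_cent.2 ((hd.UG_inv hD hx).2.symm.map ι)
  · refine map_le_iff_le_comap.2 ((closure_le _).2 fun x hx => subset_closure
      ⟨mem_map_of_mem ι (subset_closure hx), ?_⟩)
    rw [← map_mul, (hd.UG_inv hD hx).1, map_one]
  · rw [← map_commutator]
    exact mem_map_of_mem ι (hd.z_mem hD b)
  · have h1 : ∀ x ∈ closure (UG a u e gu ge), ∀ y ∈ closure (UG a u e gu ge),
        Commute τ (ι x) ∨ Commute τ (ι y) ∨ Commute τ (ι (x * y)) := fun x hx y hy => by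
      rw [map_mul]
      exact (hY _ (mem_map_of_mem ι hx) _ (mem_map_of_mem ι hy)).imp cm (.imp cm cm)
    have h2 : Nat.card F = 2 → ∀ x ∈ closure (UG a u e gu ge), Commute τ (ι x) :=
      fun c x hx => cm (hq c (mem_map_of_mem ι hx))
    obtain ⟨x, y, a1, a2, a3, a4, a5⟩ := two (Y := fun x => Commute τ (ι x)) hD hd h1 h2
    obtain ⟨T, ac⟩ := h.semi (h.nrm hτ)
      (fun c => one_ne_zero (li 0 1 0 (by simp [c])).2.1) a1 a2 a3 a4 a5
    obtain ⟨s, b, k, hk, rfl⟩ := hd.rig hD ac.c (fun x hx y hy =>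
      (h1 x hx y hy).imp (h.fix ac) (.imp (h.fix ac) (h.fix ac))) fun c x hx => h.fix ac (h2 c x hx)
    rw [ID.X_uniq hk (xz s b)] at ac
    have hw := ac.inner
    have s2 : g s * sg Q u (b • e) * (g s * sg Q u (b • e)) = 1 := by
      have c1 := hd.X_mul hD (xz s b) (xz s b)
      have c2 := hd.X_zero hD 0
      rw [CharTwo.add_self_eq_zero, CharTwo.add_self_eq_zero] at c1
      rw [zero_smul, sg_zero] at c2
      exact Subtype.ext (ID.X_uniq c1 c2)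
    refine ⟨s, b, ?_⟩
    rw [ζ, ← map_mul]
    generalize g s * sg Q u (b • e) = w at hw s2
    replace s2 : ι w * ι w = 1 := by rw [← map_mul, s2, map_one]
    have s3 := hw _ ⟨w, rfl⟩
    refine (h.inv (mul_mem hτ (inv_mem (h.tL ⟨w, rfl⟩))) hw ?_).imp mul_inv_eq_one.1
      mul_inv_eq_iff_eq_mul.1
    rw [inv_eq_of_mul_eq_one_right s2] at s3 ⊢
    rw [mul_assoc, s3, mul_assoc τ (ι w), s2, mul_one, τ2]
  · obtain ⟨c, hc, c', hc', e1, e2⟩ := hd.mv hD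
    have cz : ∀ {c : EG Q}, c ∈ 𝐳[a] → ι c ∈ ι.range ⊓ 𝐳[ι (g 1)] := fun hc =>
      ⟨⟨_, rfl⟩, g1 ▸ mem_cent.2 ((mem_cent.1 hc).map ι)⟩
    have e3 : ι c * ζ ι u e 1 * (ι c)⁻¹ = ι (sg Q u m) := by
      rw [ζ_one, ← map_inv, ← map_mul, ← map_mul, e1]
    refine ⟨ι c, cz hc, ι c', cz hc', ?_, ?_, ?_⟩ <;> rw [e3, ζ_one]
    · intro r
      obtain ⟨b, r⟩ := (sg_inj h.nd (ok_of t2) (ok_of t1) u0).1 (h.inj r)
      exact one_ne_zero (li (-b) (-1) 1 (by rw [r]; module)).2.2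
    · exact mem_cent.2 ((sg_comm u _ _).map ι)
    · rw [← map_inv, ← map_mul, ← map_mul, e2, map_mul]

end Cfsg.Agent.StdO
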