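import Cfsg.Agent.StdO.ClA
import Cfsg.Agent.StdO.ClZ

/-! Step 0: the classes of involutions. -/

set_option autoImplicit false
set_option linter.unusedSectionVars false
set_option linter.unusedVariables false

namespace Cfsg.Agent.StdO

open Subgroup Module QuadraticMap Cfsg.Agent.Class.Orth Cfsg.Agent.KSG Cfsg.Agent.PLocal.Amb
  Cfsg.Agent.Lyons
open Cfsg.Agent.StdL (cjh)
open scoped commutatorElement

variable {F V : Type*} [Field F] [Finite F] [CharP F 2] [AddCommGroup V] [Module F V]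
  [FiniteDimensional F V] {Q : QuadraticForm F V} {G : Type*} [Group G] [Finite G]
  {ι : EG Q →* G} {t : G}

local notation "𝐟" => polar Q

variable {a : EG Q} {u e m gu ge gm : V} {κ : F}

theorem ID.conj (h : ID a u e m gu ge gm κ) (g : EG Q) :
    ID (g * a * g⁻¹) (g.1.1 u) (g.1.1 e) (g.1.1 m) (g.1.1 gu) (g.1.1 ge) (g.1.1 gm) κ := by
  have e1 : ∀ x, (g * a * g⁻¹).1.1 (g.1.1 x) = g.1.1 (a.1.1 x) := fun x => by
    rw [RtA.cj_apply, RtA.inv_app]
  refine ⟨by rw [conj_mul, h.aa]; simp, ?_, by rw [e1, h.bu, map_add], by rw [e1, h.be, map_add],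
    by rw [e1, h.bm, map_add], by rw [OG.map_polar, h.ue], by rw [OG.map_polar, h.um],
    by rw [OG.map_polar, h.em], by rw [OG.map_Q, h.qe], fun x => ?_⟩
  · have := h.ti.map g.1
    convert this using 1
    ext i; fin_cases i <;> rfl
  · rw [← RtA.app_inv g x, e1, ← map_add, OG.map_Q, OG.map_polar, h.q]

theorem clc_mem (k : OG Q) {v : V} : v ∈ mov k ↔ ∃ x, k.1 x + x = v := by
  simp only [mem_mov, sub_eq' F, add_comm]

theorem clc_le (u v : V) : finrank F (Submodule.span F ({u, v} : Set V)) ≤ 2 := by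
  classical
  refine (finrank_span_le_card ({u, v} : Set V)).trans ?_
  simpa using Finset.card_le_two

theorem clc_axis (h : Dm Q) (h2 : a * a = 1) (h4 : 4 ≤ finrank F (mov a.1)) :
    ∃ (u gu : V) (κ : F), u ≠ 0 ∧ Q u = 0 ∧ a.1.1 gu + gu = u ∧ ∀ x, Q (a.1.1 x + x) = κ * 𝐟 u x ^ 2 := by
  have hk : a.1 * a.1 = 1 := congrArg Subtype.val h2
  obtain ⟨u, hu, hq⟩ := exists_axis h.nd hk
  by_cases h0 : u = 0
  · have : mov a.1 ≠ ⊥ := fun e => by rw [e, finrank_bot] at h4; omega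
    obtain ⟨v, hv, v0⟩ := (Submodule.ne_bot_iff _).1 this
    obtain ⟨gv, rfl⟩ := (clc_mem _).1 hv
    refine ⟨_, gv, 0, v0, ?_, rfl, fun x => ?_⟩ <;> rw [hq, h0] <;> simp
  obtain ⟨gu, hg⟩ := (clc_mem _).1 hu
  refine ⟨u, gu, 1, h0, by_contra fun hn => h.refl_notMem hn ?_, hg, fun x => by rw [hq, one_mul]⟩
  have e1 : Q u = 𝐟 u gu ^ 2 := by rw [← hq, hg]
  have e2 : Q u = 𝐟 u gu := by
    have := Q_sub_apply a.1 gu
    rwa [sub_eq' F, add_comm, hg, polar_comm] at this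
  have e3 : Q u = 1 := by
    rw [← e2] at e1
    exact mul_left_cancel₀ hn (by rw [mul_one, ← pow_two, ← e1])
  have hts : TS Q (mov (refl Q u * a.1)) := by
    rintro _ ⟨x, rfl⟩
    have p0 : 𝐟 (a.1.1 x + x) u = 0 := polar_mov_eq_zero (two_zero F) hk ((clc_mem _).2 ⟨x, rfl⟩) hu
    have p1 : 𝐟 (a.1.1 x) u = 𝐟 u x := by
      rw [polar_add_left] at p0
      rw [polar_comm Q u x]
      linear_combination p0 - 𝐟 x u * two_zero F
    rw [movMap_apply, sub_refl_mul_apply, sub_eq' F, add_comm x, Q_add, Q_smul, polar_smul_right', p0, hq,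
      p1, e3]
    simp only [inv_one, one_mul, mul_one, mul_zero, add_zero]
    linear_combination 𝐟 u x ^ 2 * two_zero F
  exact (mul_mem_cancel_right a.2).1 (h.mem_of_ts hts)

/-- `exists_axis` gives `u₀`.  If `u₀ = 0` take `κ = 0` and any `u ∈ M \ 0`.  Otherwise `κ = 1`,
`u = u₀ = B gu`, `Q u = (𝐟 u gu)² = 𝐟 gu u ∈ {0, 1}`; if `Q u = 1` then `a * refl u` has totally
singular `mov` (`x ↦ B x + 𝐟 x u • u`), so lies in `EG` (`mem_of_ts`), against `refl_notMem`.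
`B (u^⊥)` has dimension `≥ 3`: choose `ge₀ ⊥ u` with `e = B ge₀ ∉ ⟨u⟩`, `gm ⊥ u` with `𝐟 e gm = 1`
(`exists_perp`), `m = B gm`, `ge = ge₀ + Q ge₀ • m`.  Independence: pair with `ge`. -/
theorem Dm.exists_id (h : Dm Q) (h2 : a * a = 1) (h4 : 4 ≤ finrank F (mov a.1)) :
    ∃ u e m gu ge gm κ, ID a u e m gu ge gm κ := by
  have hk : a.1 * a.1 = 1 := congrArg Subtype.val h2
  obtain ⟨u, gu, κ, h0, qu, hg, hq⟩ := clc_axis h h2 h4
  have mm : ∀ x, a.1.1 x + x ∈ mov a.1 := fun x => (clc_mem _).2 ⟨x, rfl⟩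
  have pm : ∀ x ∈ mov a.1, ∀ y ∈ mov a.1, 𝐟 x y = 0 := fun x hx y hy =>
    polar_mov_eq_zero (two_zero F) hk hx hy
  have sol : ∀ x y : V, a.1.1 x + x = y → a.1.1 x = x + y := fun x y e => by
    rw [← e, add_comm (a.1.1 x), ← add_assoc, add_self' F, zero_add]
  obtain ⟨g0, p0, n0⟩ : ∃ g0, 𝐟 u g0 = 0 ∧ a.1.1 g0 + g0 ∉ Submodule.span F {u} := by
    by_contra hc
    push Not at hc
    obtain ⟨x0, hx0⟩ := h.nd.exists_polar_eq h0 1
    have le : mov a.1 ≤ Submodule.span F {u, a.1.1 x0 + x0} := by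
      intro v hv
      obtain ⟨x, rfl⟩ := (clc_mem _).1 hv
      have h1 := hc (x - 𝐟 u x • x0) (by rw [polar_sub_right, polar_smul_right', hx0]; ring)
      have e : a.1.1 x + x = (a.1.1 (x - 𝐟 u x • x0) + (x - 𝐟 u x • x0)) + 𝐟 u x • (a.1.1 x0 + x0) := by
        rw [map_sub, map_smul]; module
      rw [e]
      exact add_mem (Submodule.span_mono (by simp) h1)
        (Submodule.smul_mem _ _ (Submodule.subset_span (by simp)))
    have := (Submodule.finrank_mono le).trans (clc_le _ _)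
    omega
  obtain ⟨gm, hgm, pe⟩ := exists_perp h.nd n0 1
  rw [mem_perp1] at hgm
  obtain ⟨e, he⟩ : ∃ e, a.1.1 g0 + g0 = e := ⟨_, rfl⟩
  obtain ⟨m, hm⟩ : ∃ m, a.1.1 gm + gm = m := ⟨_, rfl⟩
  rw [he] at pe
  have um : u ∈ mov a.1 := hg ▸ mm _
  have em : e ∈ mov a.1 := he ▸ mm _
  have mm' : m ∈ mov a.1 := hm ▸ mm _
  have qe : Q e = 0 := by rw [← he, hq, p0]; simp
  have qm : Q m = 0 := by rw [← hm, hq, hgm]; simp
  have p1 : 𝐟 g0 m = 1 := by rw [← hm, inv_symm hk, he, polar_comm, pe]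
  have p2 : 𝐟 g0 e = 0 := by
    have := Q_sub_apply a.1 g0
    rw [sub_eq' F, add_comm, he] at this
    rw [← this, qe]
  have am : a.1.1 m = m := by
    rw [← hm, map_add, ← OG.mul_apply, hk, OG.one_apply, add_comm]
  refine ⟨u, e, m, gu, g0 + Q g0 • m, gm, κ, h2, ?_, sol _ _ hg, ?_, sol _ _ hm, ?_, hgm, pe, ?_, hq⟩
  · refine ti3_iff.2 ⟨⟨qu, qe, pm _ um _ em⟩, ⟨qu, qm, pm _ um _ mm'⟩, pm _ em _ mm', fun x y z hz => ?_⟩
    have e1 := congrArg (𝐟 g0) hz
    rw [polar_add_right, polar_add_right, polar_smul_right', polar_smul_right', polar_smul_right',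
      polar_comm Q g0 u, p0, p1, p2, polar_zero_right] at e1
    have z0 : z = 0 := by linear_combination e1
    rw [z0, zero_smul, add_zero] at hz
    have e2 := congrArg (𝐟 gm) hz
    rw [polar_add_right, polar_smul_right', polar_smul_right', polar_comm Q gm u, polar_comm Q gm e, hgm, pe,
      polar_zero_right] at e2
    have y0 : y = 0 := by linear_combination e2
    rw [y0, zero_smul, add_zero] at hz
    exact ⟨(smul_eq_zero.1 hz).resolve_right h0, y0, z0⟩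
  · rw [map_add, map_smul, am, sol _ _ he]; abel
  · rw [polar_add_right, polar_smul_right', p0, pm _ um _ mm']; simp
  · rw [Q_add, Q_smul, polar_smul_right', qm, p1]
    linear_combination Q g0 * two_zero F

theorem clc_two (h : Dm Q) {s : EG Q} (h2 : a * a = 1) (s2 : s * s = 1) (ha : finrank F (mov a.1) = 2)
    (hs : finrank F (mov s.1) = 2) (e : TS Q (mov s.1) ↔ TS Q (mov a.1)) : ∃ l : EG Q, l * s * l⁻¹ = a := by
  have hk : a.1 * a.1 = 1 := congrArg Subtype.val h2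
  have hk' : s.1 * s.1 = 1 := congrArg Subtype.val s2
  obtain ⟨l, hl, e⟩ := exists_commutator_conj h.nd h.reflGen (two_zero F)
    ((h.nd.isConj_iff_invol (two_zero F) hk' hk).2 ⟨hs.trans ha.symm, e⟩)
    (h.nd.exists_fixed_nonsingular (two_zero F) hk' fun c => by have := h.d8; omega)
  exact ⟨⟨l, h.comm_eq ▸ hl⟩, Subtype.ext e⟩

/-- The rank of `a` is even (`mem_EG`) and non-zero.  Rank two: conjugate to `sg u e` or to `sg u v`
(`v` non-singular in `⟨u,e⟩^⊥`) by `ND.isConj_iff_invol`, `exists_commutator_conj`,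
`ND.exists_fixed_nonsingular`; `cl_two`.  Rank `≥ 4`: `exists_id`, `trans2`, `ID.conj`, `cl_big`. -/
theorem Su.z0 (h : Su ι t) (hu : TI Q ![u, e]) : StdZ.Z0 t ι.range (ζ ι u e) := by
  have hd : Dm Q := h.toRp.toDm
  refine ⟨fun s h1 h2 => h.cm h1 h2, fun s h1 h2 h3 => Or.inl (h.ou h1 h2 h3), ?_⟩
  rintro _ ⟨a, rfl⟩ h1 h2
  have a2 : a * a = 1 := h.inj (by rw [map_mul, h1, map_one])
  have rk : ∀ g : EG Q, g ≠ 1 → finrank F (mov g.1) = 2 ∨ 4 ≤ finrank F (mov g.1) := fun g hg => by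
    have e1 := hd.mem_EG.1 g.2
    have e2 : finrank F (mov g.1) ≠ 0 := fun e =>
      hg (Subtype.ext (eq_one_of_mov_eq_bot (Submodule.finrank_eq_zero.1 e)))
    obtain ⟨r, hr⟩ := e1
    omega
  have cj : ∀ l s : EG Q, l * s * l⁻¹ = a → ι l * ι s * (ι l)⁻¹ = ι a := fun l s e => by
    rw [← e, map_mul, map_mul, map_inv]
  obtain ⟨t2, u0, -⟩ := ti2_iff.1 hu
  rcases rk a (fun e => h2 (by rw [e, map_one])) with r | r
  · by_cases ts : TS Q (mov a.1)
    · have e1 := mov_sg hd.nd (ok_of t2) (RtA.sg_ne hd.nd hu)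
      obtain ⟨l, hl⟩ := clc_two hd a2 (sg_sq u e) r (by rw [e1]; exact (Rig.ts2 hu).2)
        (iff_of_true (by rw [e1]; exact (Rig.ts2 hu).1) ts)
      exact Or.inl ⟨ι l, ⟨l, rfl⟩, by rw [ζ_one]; exact cj _ _ hl⟩
    · obtain ⟨v, hv, qv⟩ := hd.nd.exists_perp_nonsingular (U := Submodule.span F {u, e})
        (by rw [(Rig.ts2 hu).2]; have := hd.d8; omega)
      rw [mem_perp2''] at hv
      have ok : Ok Q u v := ⟨t2.l, hv.1⟩
      have n1 : sg Q u v ≠ 1 := fun c => by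
        obtain ⟨c, rfl⟩ := (sg_eq_one hd.nd ok u0).1 c
        exact qv (by rw [Q_smul, t2.l, mul_zero])
      have e1 := mov_sg hd.nd ok n1
      have e2 : finrank F (mov (sg Q u v).1) = 2 := (rk _ n1).resolve_right fun c => by
        rw [e1] at c
        have := c.trans (clc_le u v)
        omega
      obtain ⟨l, hl⟩ := clc_two hd a2 (sg_sq u v) r e2
        (iff_of_false (fun c => qv (c v (by rw [e1]; exact Submodule.subset_span (by simp)))) ts)
      obtain ⟨U, X, hc, hX⟩ := h.cl_two hu qv hv.1 hv.2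
      exact Or.inr ⟨ι l, ⟨l, rfl⟩, U, X, hc, by rw [hX]; exact cj _ _ hl⟩
  · obtain ⟨u', e', m, gu, ge, gm, κ, hid⟩ := hd.exists_id a2 r
    obtain ⟨t1, -, -, li⟩ := ti3_iff.1 hid.ti
    have ti : TI Q ![u', e'] := ti2_iff.2 ⟨t1, fun c => one_ne_zero (li 1 0 0 (by simp [c])).1,
      fun c e => one_ne_zero (li (-c) 1 0 (by simp [e])).2.1⟩
    obtain ⟨l, l1, l2⟩ := hd.trans2 ti hu
    have := hid.conj l
    rw [l1, l2] at this
    obtain ⟨U, X, hc, hX⟩ := h.cl_big this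
    exact Or.inr ⟨ι l⁻¹, ⟨_, rfl⟩, U, X, hc, by rw [hX]; exact cj _ _ (by group)⟩

end Cfsg.Agent.StdO
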