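import Cfsg.Agent.KSG.AutOrth13
import Cfsg.Agent.StdZ.Def0
import Cfsg.Agent.StdL.Defs

/-! Definitions for S3130 (standard subgroup `Ω^±_{2k}(2^n)`, cyclic Sylow in the centralizer).
`ι : EG Q →* G` is injective with image `L`, `t` is the involution of `C(L)`, `sg Q u w` is the
Siegel element `x ↦ x + f(x,w) u + f(x,u) (w + Q(w) u)` (`f = polar Q`, characteristic two). -/

set_option autoImplicit false

namespace Cfsg.Agent.StdO

open Subgroup Module QuadraticMap Cfsg.Agent.Class.Orth Cfsg.Agent.KSG Cfsg.Agent.PLocal.Amb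
  Cfsg.Agent.Lyons

variable {F V : Type*} [Field F] [AddCommGroup V] [Module F V] {G : Type*} [Group G]

section
variable (Q : QuadraticForm F V)

/-- the Siegel element -/
noncomputable def sg (u w : V) : EG Q := ⟨eichler Q u w, eichler_mem_EG u w⟩

/-- admissible parameters of a Siegel element -/
structure Ok (u w : V) : Prop where
  l : Q u = 0
  p : polar Q u w = 0

/-- independent vectors spanning a totally singular subspace -/
structure TI {n : ℕ} (v : Fin n → V) : Prop where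
  li : LinearIndependent F v
  q : ∀ i, Q (v i) = 0
  p : ∀ i j, polar Q (v i) (v j) = 0

/-- dimension hypotheses -/
structure Dm : Prop where
  nd : ND Q
  d8 : 8 ≤ finrank F V
  q2 : Nat.card F = 2 → 10 ≤ finrank F V

/-- `{sg u w | w ∈ Y}` -/
def VU (u : V) (Y : Submodule F V) : Subgroup (EG Q) := closure {g | ∃ w ∈ Y, g = sg Q u w}

/-- pointwise stabiliser -/
def Fx (U : Submodule F V) : Subgroup (EG Q) := (fixer Q U).subgroupOf (EG Q)

/-- the unipotent radical of the stabiliser of the line `⟨u, e⟩` -/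
def Qq (u e : V) : Subgroup (EG Q) :=
  VU Q u (perp Q (Submodule.span F {u, e})) ⊔ VU Q e (perp Q (Submodule.span F {u, e}))

open Classical in
/-- the perfect part of the centralizer of `sg u e` -/
noncomputable def PP (u e : V) : Subgroup (EG Q) :=
  if Nat.card F = 2 then Fx Q (Submodule.span F {u, e}) else 𝐳[sg Q u e]

end

variable {Q : QuadraticForm F V}

theorem cj_mem_EG (T : SS Q) {g : OG Q} (hg : g ∈ EG Q) : SS.cj Q T g ∈ EG Q :=
  EG_le (H := (EG Q).comap (SS.cj Q T).toMonoidHom) (fun u v hu hv => by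
    change SS.cj Q T _ ∈ EG Q
    rw [SS.cj_eichler T hu hv]; exact eichler_mem_EG _ _) hg

/-- conjugation by a semilinear similarity -/
noncomputable def cE (T : SS Q) : EG Q →* EG Q :=
  ((SS.cj Q T).toMonoidHom.comp (EG Q).subtype).codRestrict _ fun g => cj_mem_EG T g.2

/-- Siegel elements -/
def Sg (z : EG Q) : Prop := ∃ u w, Ok Q u w ∧ z = sg Q u w

/-- the root group of the line `⟨u, e⟩` -/
noncomputable def ζ (ι : EG Q →* G) (u e : V) (a : F) : G := ι (sg Q u (a • e))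

/-- `n` acts on the image of `ι` as the semilinear isometry `T` -/
structure Ac (ι : EG Q →* G) (n : G) (T : SS Q) : Prop where
  c : T.c = 1
  act : ∀ g, n * ι g * n⁻¹ = ι (cE T g)

/-- a faithful image of `Ω` -/
structure Rp (ι : EG Q →* G) : Prop extends Dm Q where
  inj : Function.Injective ι

/-- the standard set-up -/
structure Su (ι : EG Q →* G) (t : G) : Prop extends Rp ι where
  tt : t * t = 1
  t1 : t ≠ 1
  tL : ι.range ≤ 𝐳[t]
  nrm : 𝐳[t] ≤ 𝐍[ι.range]
  cyc : ∀ R : Subgroup G, R ≤ 𝐳[t] ⊓ 𝐂[ι.range] → IsPGroup 2 R → IsCyclic R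

/-- the data attached to an involution `a = 1 + B` of even rank at least four -/
structure ID (a : EG Q) (u e m gu ge gm : V) (κ : F) : Prop where
  aa : a * a = 1
  ti : TI Q ![u, e, m]
  bu : a.1.1 gu = gu + u
  be : a.1.1 ge = ge + e
  bm : a.1.1 gm = gm + m
  ue : polar Q u ge = 0
  um : polar Q u gm = 0
  em : polar Q e gm = 1
  qe : Q ge = 0
  q : ∀ x, Q (a.1.1 x + x) = κ * polar Q u x ^ 2

/-- the doubled group -/
def G0 (ι : EG Q →* G) (c : EG Q → G) : Subgroup G :=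
  ι.range ⊔ closure {x | ∃ z : EG Q, IsRoot z.1 ∧ x = c z}

/-- the doubling of the root elements -/
structure Fa0 (ι : EG Q →* G) (t : G) (c : EG Q → G) : Prop extends Su ι t where
  ko : StdZ.Ko t ι.range
  c1 : c 1 = 1
  eqv : ∀ g z : EG Q, IsRoot z.1 → ι g * c z * (ι g)⁻¹ = c (g * z * g⁻¹)
  sq : ∀ z : EG Q, IsRoot z.1 → c z * c z = 1
  tr : ∀ z : EG Q, IsRoot z.1 → c z * t * (c z)⁻¹ = t * ι z
  cO : ∀ z : EG Q, IsRoot z.1 → c z ∈ 𝐂[oc 𝐳[t]]
  line : ∀ u v, TS2 Q u v → ∀ a b : F, ∃ r : F, c (sg Q u (a • v)) * c (sg Q u (b • v)) =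
    c (sg Q u ((a + b) • v)) * ι (sg Q u (r • v))
  com2 : Nat.card F = 2 → ∀ u v w, TI Q ![u, v, w] → Commute (c (sg Q u v)) (c (sg Q u w))
  cn : 𝐳[t] ≤ 𝐍[G0 ι c]

/-- the doubling is additive on totally singular subspaces -/
structure Fa1 (ι : EG Q →* G) (t : G) (c : EG Q → G) : Prop extends Fa0 ι t c where
  com : ∀ u v w, TS2 Q u v → TS2 Q u w → Commute (c (sg Q u v)) (c (sg Q u w))
  add0 : ∀ u v w, TS2 Q u v → TS2 Q u w → polar Q v w = 0 →
    c (sg Q u (v + w)) = c (sg Q u v) * c (sg Q u w)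

/-- the doubling of all Siegel elements -/
structure Fam (ι : EG Q →* G) (t : G) (c : EG Q → G) : Prop extends Su ι t where
  ko : StdZ.Ko t ι.range
  eqv : ∀ g z : EG Q, Sg z → ι g * c z * (ι g)⁻¹ = c (g * z * g⁻¹)
  tr : ∀ z : EG Q, Sg z → c z * t * (c z)⁻¹ = t * ι z
  cO : ∀ z : EG Q, Sg z → c z ∈ 𝐂[oc 𝐳[t]]
  add : ∀ u v w, Ok Q u v → Ok Q u w → c (sg Q u (v + w)) = c (sg Q u v) * c (sg Q u w)
  cn : 𝐳[t] ≤ 𝐍[G0 ι c]

/-- `X(u, v + ε w)` -/
noncomputable def XX (ι : EG Q →* G) (c : EG Q → G) (u v w : V) : G :=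
  ι (sg Q u v) * c (sg Q u w)

/-- the action of `c (sg s w) = X(s, ε w)` on `X(u, ε y)`; `ε² = ε + d` -/
structure Act (ι : EG Q →* G) (t : G) (c : EG Q → G) (d : F) : Prop extends Fam ι t c where
  act : ∀ u s w y, TS2 Q u s → TS2 Q u w → TS2 Q s w → Ok Q u y →
    c (sg Q s w) * c (sg Q u y) * (c (sg Q s w))⁻¹ =
      XX ι c u (d • (polar Q y s • w + polar Q y w • s)) (y + (polar Q y s • w + polar Q y w • s))

/-- split case: `L` is the diagonal of `L₁ L₁^t`, `L₁ = r.range` -/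
structure Spl (ι : EG Q →* G) (t : G) (c : EG Q → G) (r : EG Q →* G) : Prop
    extends Fam ι t c where
  com : ∀ g h, Commute (r g) (t * r h * t⁻¹)
  dec : ∀ g, ι g = r g * (t * r g * t⁻¹)
  le : G0 ι c ≤ r.range ⊔ cj(t, r.range)

/-- field case: `G0` is `Ω(Q')`, `Q'` the form over `E = F(ε)`, and `t` acts as `T` -/
structure Fld (ι : EG Q →* G) (t : G) (c : EG Q → G) {E W : Type*} [Field E] [AddCommGroup W]
    [Module E W] {Q' : QuadraticForm E W} (j : F →+* E) (e : V → W) (ε : E) (R : EG Q' →* G)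
    (T : SS Q') : Prop extends Fam ι t c where
  card : Nat.card E = Nat.card F ^ 2
  rp : Rp R
  plus : Class.QF.IsPlus Q'
  desc : Desc T j e Q 1
  σε : T.σ ε = ε + 1
  TT : T * T = 1
  ac : Ac R t T
  ext : ∀ u w, Ok Q u w → R (sg Q' (e u) (e w)) = ι (sg Q u w)
  cv : ∀ u w, Ok Q u w → R (sg Q' (e u) (ε • e w)) = c (sg Q u w)
  range : R.range = G0 ι c

@[simp] theorem coe_sg (u w : V) : (sg Q u w).1 = eichler Q u w := rfl

theorem coe_cE (T : SS Q) (g : EG Q) : (cE T g).1 = SS.cj Q T g.1 := rfl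

theorem mem_Fx {U : Submodule F V} {g : EG Q} : g ∈ Fx Q U ↔ ∀ u ∈ U, g.1.1 u = u := Iff.rfl

theorem ok_of {u w : V} (h : TS2 Q u w) : Ok Q u w := ⟨h.l, h.p⟩

end Cfsg.Agent.StdO
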