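import Cfsg.Agent.StdO.Rig
import Cfsg.Agent.StdO.RtA

/-! The doubling is commutative on `V_u` and additive on totally singular subspaces. -/

set_option autoImplicit false
set_option linter.unusedSectionVars false
set_option linter.unusedVariables false

namespace Cfsg.Agent.StdO

open Subgroup Module QuadraticMap Cfsg.Agent.Class.Orth Cfsg.Agent.KSG Cfsg.Agent.PLocal.Amb
  Cfsg.Agent.Lyons
open Cfsg.Agent.StdL (cjh)
open scoped commutatorElement

variable {F V : Type*} [Field F] [Finite F] [CharP F 2] [AddCommGroup V] [Module F V]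
  [FiniteDimensional F V] {Q : QuadraticForm F V} {G : Type*} [Group G] [Finite G]
  {ι : EG Q →* G} {t : G}

local notation "𝐟" => polar Q

variable {u v w : V} {c : EG Q → G} {z g : EG Q}

namespace Dp1

theorem ti (hu : TI Q ![u, v, w]) (a b d d' : F) {v' w' : V} (e1 : v' = a • v + b • w)
    (e2 : w' = d • v + d' • w) (hd : a * d' + b * d ≠ 0) : TI Q ![u, v', w'] := by
  obtain ⟨h1, h2, h3, li⟩ := ti3_iff.1 hu
  have k : ∀ a b : F, TS2 Q u (a • v + b • w) := fun a b => ⟨h1.l, by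
    rw [Q_add, Q_smul, Q_smul, h1.r, h2.r, polar_smul_left', polar_smul_right', h3]; ring, by
    rw [polar_add_right, polar_smul_right', polar_smul_right', h1.p, h2.p]; ring⟩
  subst e1 e2
  refine ti3_iff.2 ⟨k _ _, k _ _, ?_, fun x y z e => ?_⟩
  · simp only [polar_add_left, polar_add_right, polar_smul_left', polar_smul_right', f_self, h3,
      polar_comm Q w v, mul_zero, add_zero]
  · obtain ⟨c1, c2, c3⟩ := li x (y * a + z * d) (y * b + z * d') (by
      linear_combination (norm := module) e)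
    exact ⟨c1, (mul_eq_zero.1 (by linear_combination d' * c2 + d * c3 - z * d * d' * two_zero F)).resolve_right hd,
      (mul_eq_zero.1 (by linear_combination b * c2 + a * c3 - y * a * b * two_zero F)).resolve_right hd⟩

theorem ok (hu : TI Q ![u, v, w]) (a b : F) : Ok Q u (a • v + b • w) :=
  ((ok_of (ti3_iff.1 hu).1).smul a).add ((ok_of (ti3_iff.1 hu).2.1).smul b)

theorem u0 (hu : TI Q ![u, v, w]) : u ≠ 0 := hu.li.ne_zero 0

theorem inj (hQ : ND Q) (hu : TI Q ![u, v, w]) {a b d d' : F}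
    (e : sg Q u (a • v + b • w) = sg Q u (d • v + d' • w)) : a = d ∧ b = d' := by
  obtain ⟨r, hr⟩ := (sg_inj hQ (ok hu _ _) (ok hu _ _) (u0 hu)).1 e
  obtain ⟨-, c2, c3⟩ := (ti3_iff.1 hu).2.2.2 (-r) (a - d) (b - d') (by
    linear_combination (norm := module) hr)
  exact ⟨sub_eq_zero.1 c2, sub_eq_zero.1 c3⟩

/-- `x` centralizes `ι V_u` and `⁅x, t⁆ = ι (sg u y)` -/
structure P (ι : EG Q →* G) (t : G) (u : V) (x : G) (y : V) : Prop where
  ok : Ok Q u y
  tr : x * t * x⁻¹ = t * ι (sg Q u y)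
  cm : ∀ y', Commute (ι (sg Q u y')) x

theorem P.mul {x x' : G} {y y' : V} (h : P ι t u x y) (h' : P ι t u x' y') :
    P ι t u (x * x') (y + y') := by
  refine ⟨h.ok.add h'.ok, ?_, fun z => (h.cm z).mul_right (h'.cm z)⟩
  rw [show x * x' * t * (x * x')⁻¹ = x * (x' * t * x'⁻¹) * x⁻¹ by group, h'.tr, sg_add h.ok h'.ok,
    map_mul, ← mul_assoc t, ← h.tr, mul_assoc (x * t), ← (h.cm y').inv_right.eq]
  group

theorem P.key (hs : Su ι t) {x : G} (h0 : u ≠ 0) (h : P ι t u x 0) : ∃ y, Ok Q u y ∧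
    x * (ι (sg Q u y))⁻¹ ∈ 𝐳[t] ∧ x * (ι (sg Q u y))⁻¹ ∈ 𝐂[ι.range] := by
  have e := h.tr
  rw [sg_zero, map_one, mul_one, mul_inv_eq_iff_eq_mul] at e
  have m : x ∈ 𝐳[t] := mem_cent.2 e.symm
  obtain ⟨y, o, k⟩ := hs.rv h.ok.l h0 (hs.nrm m) fun y _ => (h.cm y).symm
  exact ⟨y, o, mul_mem m (inv_mem (hs.tL ⟨_, rfl⟩)), k⟩

theorem cm_mul (x y z : G) : ⁅x * y, z⁆ = x * ⁅y, z⁆ * x⁻¹ * ⁅x, z⁆ := by
  simp only [commutatorElement_def]; group

theorem cm_left {x y z : G} (h : Commute z y) : ⁅x * z, y⁆ = ⁅x, y⁆ := by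
  rw [commutatorElement_def, commutatorElement_def, mul_assoc x, h.eq]; group

theorem cm_right {x y z : G} (h : Commute x z) : ⁅x, y * z⁆ = ⁅x, y⁆ := by
  rw [← commutatorElement_inv, cm_left h.symm, commutatorElement_inv]

end Dp1

open Dp1

namespace Fa0

variable (h : Fa0 ι t c)
include h

theorem cen (hz : IsRoot z.1) (e : Commute g z) : Commute (ι g) (c z) :=
  mul_inv_eq_iff_eq_mul.1 (by rw [h.eqv g z hz, e.eq, mul_inv_cancel_right])

/-- `c (sg u v)` is an involution (or `1`) centralizing `ι V_u` and `O`, `c t c⁻¹ = t ι(sg u v)` -/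
theorem bas (hv : TS2 Q u v) : c (sg Q u v) * c (sg Q u v) = 1 ∧ c (sg Q u v) ∈ 𝐂[oc 𝐳[t]] ∧
    c (sg Q u v) * t * (c (sg Q u v))⁻¹ = t * ι (sg Q u v) ∧
    (∀ y, Commute (ι (sg Q u y)) (c (sg Q u v))) ∧
    ∀ g : EG Q, ι g * c (sg Q u v) * (ι g)⁻¹ = c (sg Q (g.1.1 u) (g.1.1 v)) := by
  rcases root_or h.nd hv with e | e
  · simp only [← conj_sg, e, h.c1, map_one, mul_one, one_mul, inv_one, mul_inv_cancel,
      Commute.one_right, implies_true, and_self, and_true, true_and]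
    exact one_mem _
  · have r := (root_iff h.nd).2 ⟨u, v, e, rfl⟩
    exact ⟨h.sq _ r, h.cO _ r, h.tr _ r, fun y => h.cen r (sg_comm u y v),
      fun g => by rw [h.eqv g _ r, conj_sg]⟩

theorem dpP (hv : TS2 Q u v) : P ι t u (c (sg Q u v)) v :=
  ⟨ok_of hv, (h.bas hv).2.2.1, (h.bas hv).2.2.2.1⟩

theorem dp_inv (hv : TS2 Q u v) : (c (sg Q u v))⁻¹ = c (sg Q u v) :=
  inv_eq_of_mul_eq_one_right (h.bas hv).1

theorem dp_fix (hv : TS2 Q u v) (h1 : g.1.1 u = u) (h2 : g.1.1 v = v) :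
    Commute (ι g) (c (sg Q u v)) :=
  mul_inv_eq_iff_eq_mul.1 (by rw [(h.bas hv).2.2.2.2, h1, h2])

/-- `b = ⁅c (sg u v), c (sg u w)⁆` centralizes `t` and `ι V_u`; `rv`, `inv_K` (trivial if
`sg u v = 1`). -/
theorem cm (h0 : u ≠ 0) (hv : TS2 Q u v) (hw : TS2 Q u w) :
    ∃ y, Ok Q u y ∧ ⁅c (sg Q u v), c (sg Q u w)⁆ = ι (sg Q u y) := by
  by_cases e : sg Q u v = 1
  · exact ⟨0, ⟨hv.l, polar_zero_right Q u⟩, by
      rw [e, h.c1, commutatorElement_one_left, sg_zero, map_one]⟩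
  have p := (((h.dpP hv).mul (h.dpP hw)).mul (h.dpP hv)).mul (h.dpP hw)
  have e1 : ⁅c (sg Q u v), c (sg Q u w)⁆ =
      c (sg Q u v) * c (sg Q u w) * c (sg Q u v) * c (sg Q u w) := by
    rw [commutatorElement_def, h.dp_inv hv, h.dp_inv hw]
  rw [add_assoc, add_self' F, ← e1] at p
  obtain ⟨y, o, k1, k2⟩ := p.key h.toSu h0
  refine ⟨y, o, mul_inv_eq_one.1 (h.inv_K h.ko k1 k2 (h.bas hv).2.1 e (h.bas hv).2.2.1 ?_)⟩
  have i : (ι (sg Q u y))⁻¹ = ι (sg Q u y) := by rw [← map_inv, sg_inv]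
  rw [mul_inv_rev, inv_inv, i, (p.cm y).inv_right.eq, mul_assoc, mul_assoc,
    ((h.dpP hv).cm y).inv_right.eq, ← mul_assoc, ← mul_assoc, commutatorElement_inv,
    commutatorElement_def, commutatorElement_def, h.dp_inv hv]
  congr 1
  simp only [← mul_assoc, (h.bas hv).1, one_mul]

omit h in
/-- `sg v g` with `g ∈ π^⊥ \ ⟨u, v⟩` fixes `u, v, w`; `perp_of_fix` gives `y ⊥ π^⊥`. -/
theorem mem_pi (hd : Dm Q) (hu : TI Q ![u, v, w]) {y : V} (hy : Ok Q u y)
    (e : ∀ g : EG Q, g.1.1 u = u → g.1.1 v = v → g.1.1 w = w → Commute g (sg Q u y)) :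
    ∃ a b : F, sg Q u y = sg Q u (a • v + b • w) := by
  obtain ⟨uv, uw, vw, li⟩ := ti3_iff.1 hu
  have k : ∀ x ∈ perp Q (Submodule.span F {u, v, w}), x ∉ Submodule.span F {u, v} →
      𝐟 y v = 0 ∧ 𝐟 y x = 0 := fun x hx nx => by
    obtain ⟨x1, x2, x3⟩ := mem_perp3.1 hx
    have f1 : (sg Q v x).1.1 u = u := sg_fix uv.p x1
    have c3 := conj_sg (sg Q v x) u y
    rw [(e _ f1 (sg_fix (f_self v) x2) (sg_fix ((polar_comm Q _ _).trans vw) x3)).eq,
      mul_inv_cancel_right, f1] at c3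
    have o2 := hy.map (sg Q v x)
    rw [f1] at o2
    obtain ⟨a, ea⟩ := (sg_inj hd.nd o2 hy (u0 hu)).1 c3.symm
    refine perp_of_fix (U := Submodule.span F {u}) hd.nd uv.r x2 (by
      rwa [← Submodule.span_union]) (fun f => ?_) ?_
    · obtain ⟨a, f⟩ := Submodule.mem_span_singleton.1 f
      exact one_ne_zero (li (-a) 1 0 (by rw [← f]; module)).2.1
    · rw [ea, add_right_comm, add_self' F, zero_add]
      exact Submodule.smul_mem _ _ (Submodule.mem_span_singleton_self u)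
  have yv := (k w (mem_perp3.2 ⟨uw.p, vw, f_self w⟩) fun f => by
    obtain ⟨a, b, f⟩ := Submodule.mem_span_pair.1 f
    exact one_ne_zero (li (-a) (-b) 1 (by rw [← f]; module)).2.2).1
  have hw : y ∈ Submodule.span F {u, v, w} := (perp_perp hd.nd _).le fun x hx => by
    by_cases f : x ∈ Submodule.span F {u, v}
    · exact mem_perp2''.2 ⟨hy.p, by rwa [polar_comm]⟩ x f
    · rw [polar_comm]; exact (k x hx f).2
  obtain ⟨a, b, d, rfl⟩ := Submodule.mem_span_triple.1 hw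
  exact ⟨b, d, by rw [add_assoc, add_comm, sg_add_smul (ok hu b d)]⟩

/-- `q = 2`: `com2`.  `q > 2`: `b(v,w) = ι sg u (α v + β w)` (`cm`, `mem_pi`) with `α, β` independent
of the triple (`trans3`).  Commutators with `c (sg u w)` are central, so `line` gives
`b(a v, w) b(a' v, w) = b((a+a') v, w)`; with `a, a', a + a' ≠ 0` this gives `β = 0`; by symmetry
(`b(w,v) = b(v,w)⁻¹`) `α = 0`. -/
theorem com3 (hu : TI Q ![u, v, w]) : Commute (c (sg Q u v)) (c (sg Q u w)) := by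
  by_cases hq : Nat.card F = 2
  · exact h.com2 hq u v w hu
  obtain ⟨s, s0, s1⟩ : ∃ s : F, s ≠ 0 ∧ s ≠ 1 := by
    by_contra! k
    exact hq (Nat.card_eq_two_iff.2 ⟨0, 1, zero_ne_one, Set.eq_univ_of_forall fun s =>
      (em (s = 0)).imp_right (k s)⟩)
  have s2 : 1 + s ≠ 0 := fun k => s1 (by linear_combination k - two_zero F)
  obtain ⟨uv, uw, vw, li⟩ := ti3_iff.1 hu
  obtain ⟨y, o, e⟩ := h.cm (u0 hu) uv uw
  obtain ⟨α, β, e1⟩ := mem_pi h.toDm hu o fun g g1 g2 g3 => h.comm_iff.1 (by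
    have c1 := h.dp_fix uv g1 g2
    have c2 := h.dp_fix uw g1 g3
    rw [← e]
    exact ((c1.mul_right c2).mul_right c1.inv_right).mul_right c2.inv_right)
  rw [e1] at e
  have k : ∀ v' w', TI Q ![u, v', w'] →
      ⁅c (sg Q u v'), c (sg Q u w')⁆ = ι (sg Q u (α • v' + β • w')) := fun v' w' hu' => by
    obtain ⟨g, g1, g2, g3⟩ := h.trans3 hu hu'
    have c1 := (h.bas uv).2.2.2.2 g
    have c2 := (h.bas uw).2.2.2.2 g
    have c3 := conj_sg g u (α • v + β • w)
    rw [map_add, map_smul, map_smul] at c3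
    rw [g1, g2] at c1 c3
    rw [g1, g3] at c2
    rw [g3] at c3
    rw [← c1, ← c2, ← c3, map_mul, map_mul, map_inv, ← e, conjugate_commutatorElement]
  have k1 : ∀ a : F, a ≠ 0 → ⁅c (sg Q u (a • v)), c (sg Q u w)⁆ = ι (sg Q u ((α * a) • v + β • w)) :=
    fun a ha => by
      rw [k _ _ (ti hu a 0 0 1 (by module) (by module) (by simpa using ha)), smul_smul]
  have b0 : β = 0 := by
    obtain ⟨r, hr⟩ := h.line u v uv 1 s
    have c1 := congrArg (⁅·, c (sg Q u w)⁆) hr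
    simp only [cm_left ((h.dpP uw).cm _)] at c1
    rw [cm_mul, k1 _ s0, k1 _ one_ne_zero, k1 _ s2,
      ← ((h.dpP (uv.smul_right 1)).cm _).eq, mul_inv_cancel_right, ← map_mul,
      ← sg_add (ok hu _ _) (ok hu _ _), add_add_add_comm, ← add_smul, ← add_smul] at c1
    have := (inj h.nd hu (h.inj c1)).2
    linear_combination this
  have a0 : α = 0 := by
    have c1 := k w v (ti hu 0 1 1 0 (by module) (by module) (by simp))
    rw [← commutatorElement_inv, e, ← map_inv, sg_inv, add_comm (α • w)] at c1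
    rw [(inj h.nd hu (h.inj c1)).1, b0]
  rw [a0, b0, zero_smul, zero_smul, add_zero, sg_zero, map_one] at e
  exact commutatorElement_eq_one_iff_commute.1 e

/-- `r = c(v) c(w) c(v+w)` is a product of commuting involutions, centralizes `t` and `ι V_u`, so
`r = k ι (sg u y)` (`rv`), `k ∈ {1,t}`, `k = 1` as `c(v)` commutes with `r`.  `y ≡ α v + β w`
(`mem_pi`) and `r` is fixed by the elements fixing `u` with `(v,w) ↦ (w,v)`, `(v,w) ↦ (w,v+w)`
(`trans3`): `α = β = 0`. -/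
theorem add3 (hu : TI Q ![u, v, w]) : c (sg Q u (v + w)) = c (sg Q u v) * c (sg Q u w) := by
  obtain ⟨uv, uw, vw, li⟩ := ti3_iff.1 hu
  have t1 : TI Q ![u, v, v + w] := ti hu 1 0 1 1 (by module) (by module) (by simp)
  have t2 : TI Q ![u, w, v + w] := ti hu 0 1 1 1 (by module) (by module) (by simp)
  have us := (ti3_iff.1 t1).2.1
  have c1 := h.com3 hu
  have c2 := h.com3 t1
  have c3 := h.com3 t2
  have p := ((h.dpP uv).mul (h.dpP uw)).mul (h.dpP us)
  rw [add_self' F] at p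
  obtain ⟨y, o, k1, k2⟩ := p.key h.toSu (u0 hu)
  have i : (ι (sg Q u y))⁻¹ = ι (sg Q u y) := by rw [← map_inv, sg_inv]
  have r2 : c (sg Q u v) * c (sg Q u w) * c (sg Q u (v + w)) *
      (c (sg Q u v) * c (sg Q u w) * c (sg Q u (v + w))) = 1 := by
    rw [← pow_two, (c2.mul_left c3).mul_pow, c1.mul_pow, pow_two, pow_two, pow_two, (h.bas uv).1,
      (h.bas uw).1, (h.bas us).1, mul_one, mul_one]
  have e := mul_inv_eq_one.1 ((h.inv k1 k2 (by
    rw [← pow_two, (p.cm y).symm.inv_right.mul_pow, pow_two, r2, pow_two, i, ← map_mul, sg_sq,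
      map_one, mul_one])).resolve_right fun e => by
    have c4 : Commute (c (sg Q u v)) t := e ▸ (((Commute.refl _).mul_right c1).mul_right c2).mul_right
      ((h.dpP uv).cm y).symm.inv_right
    have c5 := (h.dpP uv).tr
    rw [c4.eq, mul_inv_cancel_right, left_eq_mul, ← map_one ι] at c5
    obtain ⟨a, ha⟩ := (sg_eq_one h.nd (ok_of uv) (u0 hu)).1 (h.inj c5)
    exact one_ne_zero (li (-a) 1 0 (by rw [ha]; module)).2.1)
  obtain ⟨α, β, e1⟩ := mem_pi h.toDm hu o fun g g1 g2 g3 => h.comm_iff.1 (by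
    rw [← e]
    exact ((h.dp_fix uv g1 g2).mul_right (h.dp_fix uw g1 g3)).mul_right
      (h.dp_fix us g1 (by rw [map_add, g2, g3])))
  rw [e1] at e
  obtain ⟨g, g1, g2, g3⟩ := h.trans3 hu t2
  have d1 := (h.bas uv).2.2.2.2 g
  have d2 := (h.bas uw).2.2.2.2 g
  have d3 := (h.bas us).2.2.2.2 g
  have d4 := conj_sg g u (α • v + β • w)
  rw [map_add, map_smul, map_smul, g1, g2, g3,
    show α • w + β • (v + w) = β • v + (α + β) • w by module] at d4
  rw [g1, g2] at d1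
  rw [g1, g3] at d2
  rw [map_add, g1, g2, g3, add_left_comm, add_self' F, add_zero] at d3
  have d5 : ι (sg Q u (β • v + (α + β) • w)) = ι (sg Q u (α • v + β • w)) := by
    rw [← d4, map_mul, map_mul, map_inv, ← e, ← _root_.conj_mul, ← _root_.conj_mul, d1, d2, d3,
      ← (c1.mul_right c2).eq, mul_assoc]
  obtain ⟨f1, f2⟩ := inj h.nd hu (h.inj d5)
  have a0 : α = 0 := by linear_combination f2
  rw [f1, a0, zero_smul, zero_smul, add_zero, sg_zero, map_one] at e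
  rw [← inv_eq_of_mul_eq_one_right e, mul_inv_rev, h.dp_inv uv, h.dp_inv uw, c1.eq]

/-- If `u, v, w` are dependent and `sg u v, sg u w ≠ 1`, then `w ≡ a v` mod `u`.  Take `s` with
`TI ![u, v, s]`: `c(v) c(a v) = c(v + s) c(s) c(a v) = c(v + s) c(a v + s)`, which is
`c((1 + a) v)` by `add3` if `a ≠ 1`. -/
theorem add0 (hv : TS2 Q u v) (hw : TS2 Q u w) (e : 𝐟 v w = 0) :
    c (sg Q u (v + w)) = c (sg Q u v) * c (sg Q u w) := by
  rcases root_or h.nd hv with e1 | e1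
  · rw [sg_add (ok_of hv) (ok_of hw), e1, h.c1, one_mul, one_mul]
  rcases root_or h.nd hw with e2 | e2
  · rw [sg_add (ok_of hv) (ok_of hw), e2, h.c1, mul_one, mul_one]
  by_cases m : w ∈ Submodule.span F {u, v}
  swap
  · exact h.add3 (RtA.ti3 e1 (mem_perp2''.2 ⟨hw.p, e⟩) hw.r m)
  obtain ⟨a, b, rfl⟩ := Submodule.mem_span_pair.1 m
  have b0 : b ≠ 0 := fun b0 => (ti2_iff.1 e2).2.2 a (by rw [b0, zero_smul, add_zero])
  have o := (ok_of hv).smul b
  rw [add_comm (a • u), ← add_assoc, sg_add_smul o, sg_add_smul ((ok_of hv).add o)]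
  by_cases b1 : b = 1
  · rw [b1, one_smul, add_self' F, sg_zero, h.c1, (h.bas hv).1]
  obtain ⟨s, hs⟩ := h.ext3 e1
  have d1 := h.add3 hs
  have d2 := h.add3 (ti hs 0 1 b 0 (v' := s) (w' := b • v) (by module) (by module) (by simpa using b0))
  have d3 := h.add3 (ti hs 1 1 b 1 (v' := v + s) (w' := s + b • v) (by module) (by module)
    fun k => b1 (by linear_combination k - two_zero F))
  rw [add_assoc, ← add_assoc s, add_self' F, zero_add] at d3
  rw [d3, d1, d2, mul_assoc, ← mul_assoc (c (sg Q u s)), (h.bas (ti3_iff.1 hs).2.1).1, one_mul]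

theorem com0 (hv : TS2 Q u v) (hw : TS2 Q u w) (e : 𝐟 v w = 0) :
    Commute (c (sg Q u v)) (c (sg Q u w)) :=
  (h.add0 hv hw e).symm.trans (by rw [add_comm, h.add0 hw hv (by rwa [polar_comm])])

omit h in
theorem dp_hyp (hd : Dm Q) (hv : TS2 Q u v) (hw : TS2 Q u w) (e : 𝐟 v w ≠ 0) :
    4 ≤ finrank F (perp Q (Submodule.span F {u, v, w})) ∧
    ∃ s ∈ perp Q (Submodule.span F {u, v, w}), ∃ s' ∈ perp Q (Submodule.span F {u, v, w}),
      IsHyp Q s s' := by
  have d1 := hd.nd.finrank_perp (Submodule.span F {u, v, w})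
  have d2 : finrank F (Submodule.span F ({u, v, w} : Set V)) ≤ 3 := by
    have := finrank_range_le_card (R := F) ![u, v, w]
    rwa [Set.finrank, show Set.range ![u, v, w] = {u, v, w} by ext; simp; tauto,
      Fintype.card_fin] at this
  have d3 : finrank F (Submodule.span F ({u} : Set V)) ≤ 1 := by
    simpa using finrank_span_le_card (R := F) ({u} : Set V)
  have d4 := Submodule.finrank_mono (inf_le_left (a := Submodule.span F ({u} : Set V))
    (b := perp Q (Submodule.span F {u, v, w})))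
  have d8 := hd.d8
  obtain ⟨s, s1, s2, s3⟩ := exists_sing (Q := Q) (U := Submodule.span F {u})
    (W := perp Q (Submodule.span F {u, v, w})) (by omega)
  obtain ⟨y, hy, h3⟩ := exists_perp hd.nd (x := s) (U := Submodule.span F {u, v, w}) (fun m => by
    obtain ⟨a, b, d, rfl⟩ := Submodule.mem_span_triple.1 m
    obtain ⟨-, c2, c3⟩ := mem_perp3.1 s1
    simp only [polar_add_right, polar_smul_right', f_self, hv.p', hw.p', polar_comm Q w v, mul_zero,
      zero_add, add_zero, mul_eq_zero, e, or_false] at c2 c3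
    refine s2 ?_
    rw [c2, c3, zero_smul, zero_smul, add_zero, add_zero]
    exact Submodule.smul_mem _ _ (Submodule.mem_span_singleton_self u)) 1
  exact ⟨by omega, s, s1, _, Submodule.sub_mem _ hy (Submodule.smul_mem _ _ s1),
    isHyp_of_polar_eq_one s3 h3⟩

theorem dp_mem (h0 : u ≠ 0) (hv : TS2 Q u v) (hw : TS2 Q u w) (e : 𝐟 v w ≠ 0) {y : V}
    (o : Ok Q u y) (hy : ⁅c (sg Q u v), c (sg Q u w)⁆ = ι (sg Q u y)) :
    y ∈ Submodule.span F {u, v, w} := by
  obtain ⟨d, s, s1, s', s2, hp⟩ := dp_hyp h.toDm hv hw e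
  refine mem_of_fix h.nd hv.l o.p d (singular_induction s1 s2 hp _
    (fun y a b => Submodule.subset_span ⟨a, b⟩) fun _ _ _ _ => add_mem) fun s hs x hx o' => ?_
  obtain ⟨a1, a2, a3⟩ := mem_perp3.1 hs
  obtain ⟨b1, b2, b3⟩ := mem_perp3.1 hx
  have g1 := sg_fix a1 b1
  have c1 := h.dp_fix hv g1 (sg_fix a2 b2)
  have c2 := h.dp_fix hw g1 (sg_fix a3 b3)
  have c3 : Commute (sg Q s x) (sg Q u y) := h.comm_iff.1 (by
    rw [← hy]
    exact ((c1.mul_right c2).mul_right c1.inv_right).mul_right c2.inv_right)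
  have c4 := conj_sg (sg Q s x) u y
  rw [c3.eq, mul_inv_cancel_right, g1] at c4
  have o2 := o.map (sg Q s x)
  rw [g1] at o2
  exact (sg_inj h.nd o2 o h0).1 c4.symm

/-- If `𝐟 v w = 0` use `add0`.  Otherwise `b(v,w) = ι sg u y` and `y ∈ ⟨u,v,w⟩` by `mem_of_fix`
(`⟨u,v,w⟩^⊥` is spanned by singular vectors: `singular_induction` with a hyperbolic pair; it is
`⟨u⟩ ⊥ W`, `W` non-degenerate of dimension `≥ 4`).  Take `s` singular in `⟨u,v,w⟩^⊥ \ ⟨u,v,w⟩`:
`b(v + s, w) = b(v, w)` (`add0`, commutation of `c(s)` with `c(w)`), so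
`y ∈ (⟨v,w⟩ ⊓ ⟨v+s,w⟩ ⊓ ⟨v,w+s⟩) + ⟨u⟩ = ⟨u⟩`. -/
theorem com (hv : TS2 Q u v) (hw : TS2 Q u w) : Commute (c (sg Q u v)) (c (sg Q u w)) := by
  by_cases e : 𝐟 v w = 0
  · exact h.com0 hv hw e
  by_cases h0 : u = 0
  · rw [h0, sg_zero_left, h.c1]; exact Commute.one_left _
  obtain ⟨y, o, hy⟩ := h.cm h0 hv hw
  obtain ⟨-, s, s1, s', s2, hp⟩ := dp_hyp h.toDm hv hw e
  obtain ⟨a1, a2, a3⟩ := mem_perp3.1 s1
  obtain ⟨b1, b2, b3⟩ := mem_perp3.1 s2
  have hs : TS2 Q u s := ⟨hv.l, hp.left, a1⟩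
  have k : ∀ v, TS2 Q u v → 𝐟 v s = 0 → TS2 Q u (v + s) := fun v hv a => ⟨hv.l, by
    rw [Q_add, hv.r, hp.left, a, add_zero, add_zero], ((ok_of hv).add (ok_of hs)).p⟩
  have m0 := mem_perp3.2 ⟨b1, b2, b3⟩ y (h.dp_mem h0 hv hw e o hy)
  obtain ⟨a, b, d, e1⟩ := Submodule.mem_span_triple.1 (h.dp_mem h0 (k v hv a2) hw
    (by rwa [polar_add_left, polar_comm Q s, a3, add_zero]) o
    (by rw [h.add0 hv hs a2, cm_left (h.com0 hw hs a3).symm, hy]))
  obtain ⟨a', b', d', e2⟩ := Submodule.mem_span_triple.1 (h.dp_mem h0 hv (k w hw a3)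
    (by rwa [polar_add_right, a2, add_zero]) o
    (by rw [h.add0 hw hs a3, cm_right (h.com0 hv hs a2), hy]))
  have f1 := e1 ▸ m0
  have f2 := e2 ▸ m0
  simp only [polar_add_left, polar_smul_left', b1, b2, b3, hp.pol, mul_zero, zero_add, add_zero,
    mul_one] at f1 f2
  rw [f1, zero_smul, add_zero] at e1
  rw [f2, zero_smul, add_zero] at e2
  have f3 := congrArg (𝐟 v) (e1.trans e2.symm)
  simp only [polar_add_right, polar_smul_right', hv.p', f_self, mul_zero, zero_add, mul_eq_zero, e,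
    or_false] at f3
  rw [← e1, f3, zero_smul, add_zero, sg_self hv.l, map_one] at hy
  exact commutatorElement_eq_one_iff_commute.1 hy

theorem fa1 : Fa1 ι t c := ⟨h, fun _ _ _ => h.com, fun _ _ _ => h.add0⟩

end Fa0

end Cfsg.Agent.StdO
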