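import Cfsg.Agent.StdO.RtB
import Cfsg.Agent.StdZ.One

/-! `q = 2`: the doubling indexed by ordered pairs, and commutation on planes. -/

set_option autoImplicit false
set_option linter.unusedSectionVars false
set_option linter.unusedVariables false

namespace Cfsg.Agent.StdO

open Subgroup Module QuadraticMap Cfsg.Agent.Class.Orth Cfsg.Agent.KSG Cfsg.Agent.PLocal.Amb
  Cfsg.Agent.Lyons
open Cfsg.Agent.StdL (cjh)
open scoped commutatorElement

variable {F V : Type*} [Field F] [Finite F] [CharP F 2] [AddCommGroup V] [Module F V]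
  [FiniteDimensional F V] {Q : QuadraticForm F V} {G : Type*} [Group G] [Finite G]
  {ι : EG Q →* G} {t : G}

local notation "𝐟" => polar Q

variable {u e v w : V} {x : G} {d : V → V → G}

/-- the doubling for ordered pairs -/
structure Pr (ι : EG Q →* G) (t : G) (d : V → V → G) : Prop extends Su ι t where
  two : Nat.card F = 2
  ko : StdZ.Ko t ι.range
  eqv : ∀ (g : EG Q) u v, TI Q ![u, v] → ι g * d u v * (ι g)⁻¹ = d (g.1.1 u) (g.1.1 v)
  sq : ∀ u v, TI Q ![u, v] → d u v * d u v = 1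
  tr : ∀ u v, TI Q ![u, v] → d u v * t * (d u v)⁻¹ = t * ι (sg Q u v)
  cO : ∀ u v, TI Q ![u, v] → d u v ∈ 𝐂[oc 𝐳[t]]
  alt : ∀ u v u' v', TI Q ![u, v] → TI Q ![u', v'] → sg Q u v = sg Q u' v' →
    d u' v' = d u v ∨ d u' v' = d u v * ι (sg Q u v)

namespace DpA

variable {y : V} {S : Submodule F V}

theorem two (hq : Nat.card F = 2) (a : F) : a = 0 ∨ a = 1 := by
  obtain ⟨b, -, e⟩ := (Nat.card_eq_two_iff' (0 : F)).1 hq
  exact or_iff_not_imp_left.2 fun h => (e a h).trans (e 1 one_ne_zero).symm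

theorem comp {k m : ℕ} {v : Fin k → V} (h : TI Q v) (f : Fin m → Fin k) (i : Function.Injective f)
    {v' : Fin m → V} (e : ∀ j, v' j = v (f j)) : TI Q v' := by
  obtain rfl : v' = v ∘ f := funext e
  exact ⟨h.li.comp f i, fun _ => h.q _, fun _ _ => h.p _ _⟩

theorem map2 (h : TI Q ![u, v]) (g : EG Q) : TI Q ![g.1.1 u, g.1.1 v] :=
  comp (h.map g.1) id Function.injective_id fun j => by fin_cases j <;> rfl

theorem t12 (h : TI Q ![u, v, w]) : TI Q ![u, v] :=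
  comp h ![0, 1] (by decide) fun j => by fin_cases j <;> rfl

theorem t13 (h : TI Q ![u, v, w]) : TI Q ![u, w] :=
  comp h ![0, 2] (by decide) fun j => by fin_cases j <;> rfl

theorem sw3 (h : TI Q ![u, v, w]) : TI Q ![u, w, v] :=
  comp h ![0, 2, 1] (by decide) fun j => by fin_cases j <;> rfl

theorem sw4 (h : TI Q ![u, v, w, y]) : TI Q ![u, v, y, w] :=
  comp h ![0, 1, 3, 2] (by decide) fun j => by fin_cases j <;> rfl

theorem t134 (h : TI Q ![u, v, w, y]) : TI Q ![u, w, y] :=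
  comp h ![0, 2, 3] (by decide) fun j => by fin_cases j <;> rfl

theorem t123 (h : TI Q ![u, v, w, y]) : TI Q ![u, v, w] :=
  comp h ![0, 1, 2] (by decide) fun j => by fin_cases j <;> rfl

theorem tsa (h1 : TS2 Q u v) (h2 : TS2 Q u w) (h3 : 𝐟 v w = 0) : TS2 Q u (v + w) :=
  ⟨h1.l, by simp [Q_add, h1.r, h2.r, h3], by simp [h1.p, h2.p]⟩

theorem ad3 (h : TI Q ![u, v, w]) : TI Q ![u, v, v + w] := by
  obtain ⟨h1, h2, h3, h4⟩ := ti3_iff.1 h
  refine ti3_iff.2 ⟨h1, tsa h1 h2 h3, by rw [polar_add_right, h3, f_self, add_zero], fun a b c e => ?_⟩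
  obtain ⟨k1, k2, k3⟩ := h4 a (b + c) c (by rw [← e]; module)
  exact ⟨k1, by simpa [k3] using k2, k3⟩

theorem ad4 (h : TI Q ![u, v, w, y]) : TI Q ![u, v + w, y] := by
  obtain ⟨h1, h2, h3, h4, h5, h6, h7⟩ := ti4_iff.1 h
  refine ti3_iff.2 ⟨tsa h1 h2 h4, h3, by simp [h5, h6], fun a b c e => ?_⟩
  obtain ⟨k1, k2, -, k3⟩ := h7 a b b c (by rw [← e]; module)
  exact ⟨k1, k2, k3⟩

theorem fxS (hS : TS Q S) {a b : V} (ha : a ∈ S) (hb : b ∈ S) : sg Q a b ∈ Fx Q S :=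
  fun _ hc => sg_fix (TS2.of_ts hS hc ha).p (TS2.of_ts hS hc hb).p

theorem cmS (hS : TS Q S) {g : EG Q} (hg : g ∈ Fx Q S) {a b : V} (ha : a ∈ S) (hb : b ∈ S) :
    Commute g (sg Q a b) := comm_sg (hg a ha) (hg b hb)

theorem mem3 (u v w : V) : u ∈ Submodule.span F {u, v, w} ∧ v ∈ Submodule.span F {u, v, w} ∧
    w ∈ Submodule.span F {u, v, w} := by
  refine ⟨?_, ?_, ?_⟩ <;> exact Submodule.subset_span (by simp)

theorem isq (u w : V) : ι (sg Q u w) * ι (sg Q u w) = 1 := by rw [← map_mul, sg_sq, map_one]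

theorem trm {a b z z' : G} (h1 : a * t * a⁻¹ = t * z) (h2 : b * t * b⁻¹ = t * z') (c : Commute z' a) :
    a * b * t * (a * b)⁻¹ = t * (z * z') := by
  rw [show a * b * t * (a * b)⁻¹ = a * (b * t * b⁻¹) * a⁻¹ by group, h2, ← mul_assoc t, ← h1,
    mul_assoc _ a⁻¹, ← c.inv_right.eq]
  group

theorem cjc (g a b : G) : g * ⁅a, b⁆ * g⁻¹ = ⁅g * a * g⁻¹, g * b * g⁻¹⁆ := conjugate_commutatorElement ..

theorem memz {b : G} (h : b * t * b⁻¹ = t * 1) : b ∈ 𝐳[t] :=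
  mem_centralizer_singleton_iff.2 (mul_inv_eq_iff_eq_mul.1 (h.trans (mul_one t)))

/-- the rigidity step: an element centralizing `t` and `ι (Fx π)` -/
theorem rig (h : Pr ι t d) (hu : TI Q ![u, v, w]) {b : G} (hb : b ∈ 𝐳[t])
    (hc : ∀ g ∈ Fx Q (Submodule.span F {u, v, w}), Commute b (ι g)) :
    ∃ (α β γ : F) (l : EG Q) (k : G), l = sg Q u (α • v + β • w) * sg Q v (γ • w) ∧
      l ∈ Fx Q (Submodule.span F {u, v, w}) ∧ ι l * ι l = 1 ∧ k ∈ 𝐳[t] ∧ k ∈ 𝐂[ι.range] ∧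
      b = k * ι l := by
  obtain ⟨α, β, γ, e⟩ := h.ru3 (h.q2 h.two) hu (h.nrm hb) hc
  obtain ⟨m1, m2, m3⟩ := mem3 (F := F) u v w
  have hS := (Rig.ts3 hu).1
  have a1 := fxS hS m1 (add_mem (Submodule.smul_mem _ α m2) (Submodule.smul_mem _ β m3))
  refine ⟨α, β, γ, _, _, rfl, mul_mem a1 (fxS hS m2 (Submodule.smul_mem _ γ m3)), ?_,
    mul_mem hb (inv_mem (h.tL ⟨_, rfl⟩)), e, (inv_mul_cancel_right _ _).symm⟩
  rw [← map_mul, (cmS hS a1 m2 (Submodule.smul_mem _ γ m3)).symm.mul_mul_mul_comm, sg_sq, sg_sq]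
  simp

end DpA

open DpA

/-- `d u' v' = ι g x ι g⁻¹` for `g (u, e) = (u', v')` (`trans2`); well defined since `x` centralizes
`ι (Fx ℓ)`.  `alt`: `ι 𝐳[sg u e]` normalizes `Zh` (`Dz.nrm`), and two elements of `Zh` with the same
translation differ by `ζ a` (`Dz.fix`), `a ∈ {0, 1}`. -/
theorem Su.exists_pr (h : Su ι t) (hq : Nat.card F = 2) (hk : StdZ.Ko t ι.range) (hu : TI Q ![u, e])
    {Zh : Subgroup G} (hd : StdZ.Dz t ((PP Q u e).map ι) Zh (ζ ι u e) 0) (hx : x ∈ Zh)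
    (h1 : x * t * x⁻¹ = t * ι (sg Q u e)) : ∃ d, Pr ι t d ∧ d u e = x := by
  choose! γ g1 g2 using fun (u' v' : V) (k : TI Q ![u', v']) => h.trans2 hu k
  have ts := (ti2_iff.1 hu).1
  have cx : ∀ g : EG Q, g.1.1 u = u → g.1.1 e = e → ι g * x * (ι g)⁻¹ = x := fun g a b =>
    mul_inv_eq_iff_eq_mul.2 (hd.cP hx _ (mem_map_of_mem ι (Fx_le_PP ts (mem_Fx2.2 ⟨a, b⟩))))
  have kd : ∀ (g : EG Q) u' v', TI Q ![u', v'] → g.1.1 u = u' → g.1.1 e = v' →
      ι (γ u' v') * x * (ι (γ u' v'))⁻¹ = ι g * x * (ι g)⁻¹ := fun g u' v' k a b => by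
    conv_lhs => rw [← cx ((γ u' v')⁻¹ * g)
      ((congrArg _ (a.trans (g1 u' v' k).symm)).trans (RtA.inv_app _ _))
      ((congrArg _ (b.trans (g2 u' v' k).symm)).trans (RtA.inv_app _ _))]
    simp [mul_assoc]
  have cz : ∀ u' v', TI Q ![u', v'] → γ u' v' * sg Q u e * (γ u' v')⁻¹ = sg Q u' v' := fun u' v' k => by
    rw [conj_sg, g1 u' v' k, g2 u' v' k]
  have tr : ∀ g, ι g * x * (ι g)⁻¹ * t * (ι g * x * (ι g)⁻¹)⁻¹ = t * ι (g * sg Q u e * g⁻¹) := fun g => by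
    rw [mul_assoc _ _ t, ← (h.tc g).inv_right.eq, map_mul, map_mul, map_inv, ← mul_assoc t,
      ← mul_assoc t, (h.tc g).eq, mul_assoc (ι g) t, ← h1]
    group
  refine ⟨fun u' v' => ι (γ u' v') * x * (ι (γ u' v'))⁻¹, ⟨h, hq, hk, fun g u' v' k => ?_,
    fun u' v' k => ?_, fun u' v' k => ?_, fun u' v' k => ?_, fun u1 v1 u2 v2 k1 k2 e' => ?_⟩, ?_⟩
  · rw [kd (g * γ u' v') _ _ (map2 k g) (congrArg _ (g1 u' v' k)) (congrArg _ (g2 u' v' k))]
    simp [mul_assoc]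
  · rw [conj_mul, hd.sq x hx 1 (by rwa [ζ_one])]
    simp [ζ, sg_zero]
  · rw [tr, cz u' v' k]
  · have := le_centralizer_iff.1 hk.1 ⟨γ u' v', rfl⟩
    exact mul_mem (mul_mem this (hd.cO hx)) (inv_mem this)
  · have c : (γ u1 v1)⁻¹ * γ u2 v2 * sg Q u e * ((γ u1 v1)⁻¹ * γ u2 v2)⁻¹ = sg Q u e := by
      rw [mul_inv_rev, mul_assoc, mul_assoc, ← mul_assoc (sg Q u _), ← mul_assoc (γ u2 v2),
        ← mul_assoc (γ u2 v2), cz u2 v2 k2, ← e', ← cz u1 v1 k1]
      group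
    have c1 := tr ((γ u1 v1)⁻¹ * γ u2 v2)
    have c2 := (mem_normalizer_iff.1 (hd.nrm _ (h.tL ⟨(γ u1 v1)⁻¹ * γ u2 v2, rfl⟩) fun a => ⟨a, by
      rw [ζ, ← map_inv, ← map_mul, ← map_mul,
        (comm_root_smul h.nd hu (mul_inv_eq_iff_eq_mul.1 c) a).eq, mul_inv_cancel_right]⟩) x).1 hx
    rw [c, ← h1] at c1
    obtain ⟨a, c3⟩ := hd.fix _ (mul_mem (inv_mem hx) c2) (memz (by
      rw [mul_inv_rev, mul_assoc x⁻¹, mul_assoc x⁻¹, ← mul_assoc _ _ x⁻¹⁻¹, c1]; group))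
    rw [inv_mul_eq_iff_eq_mul, map_mul, map_inv, mul_inv_rev, mul_assoc, mul_assoc, inv_mul_eq_iff_eq_mul,
      ← mul_assoc, ← mul_assoc, mul_inv_eq_iff_eq_mul] at c3
    rcases two hq a with rfl | rfl
    · left; simpa [ζ, sg_zero] using c3
    · right; rw [c3, ζ_one, ← cz u1 v1 k1]; simp [mul_assoc]
  · exact cx _ (g1 u e hu) (g2 u e hu)

theorem Pr.fix (h : Pr ι t d) (hu : TI Q ![u, v]) {g : EG Q} (h1 : g.1.1 u = u) (h2 : g.1.1 v = v) :
    Commute (ι g) (d u v) := by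
  have := h.eqv g u v hu
  rwa [h1, h2, mul_inv_eq_iff_eq_mul] at this

/-- `b = ⁅d u v, d u w⁆` centralizes `t` (`t d t = d z`, and `z, z' ∈ Λ²π` commute with both) and
`ι (Fx π)`; `ru3`: `b = k ι(λ)`, `λ = sg u (α v + β w) * sg v (γ w)`; `d u v` inverts `b` and
centralizes `ι λ`, `inv_K`: `k = 1`.  `b` does not change if a factor is multiplied by `z` or `z'`,
so (`alt`) it is fixed by `sg u g` with `g ⊥ u, w`, `𝐟 g v = 1` (`v ↦ v + u`): `γ = 0` (`lam3_inj`).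
An element fixing `u` and swapping `v, w` (`trans3`) inverts `b`, `b² = 1`: `α = β`. -/
theorem Pr.cm (h : Pr ι t d) (hu : TI Q ![u, v, w]) :
    ∃ α : F, ⁅d u v, d u w⁆ = ι (sg Q u (α • (v + w))) := by
  have hv := t12 hu
  have hw := t13 hu
  obtain ⟨m1, m2, m3⟩ := mem3 (F := F) u v w
  have hS := (Rig.ts3 hu).1
  have f1 : ∀ g ∈ Fx Q (Submodule.span F {u, v, w}), Commute (ι g) (d u v) := fun g hg =>
    h.fix hv (hg u m1) (hg v m2)
  have f2 : ∀ g ∈ Fx Q (Submodule.span F {u, v, w}), Commute (ι g) (d u w) := fun g hg =>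
    h.fix hw (hg u m1) (hg w m3)
  have z1 := fxS hS m1 m2
  have z2 := fxS hS m1 m3
  have i1 := inv_eq_of_mul_eq_one_right (h.sq u v hv)
  have i2 := inv_eq_of_mul_eq_one_right (h.sq u w hw)
  have c12 := (f1 _ z2)
  have t1 := trm (h.tr u v hv) (h.tr u w hw) c12
  have t2 := trm t1 t1 (((f1 _ z1).mul_right (f2 _ z1)).mul_left (c12.mul_right (f2 _ z2)))
  rw [((sg_comm u w v).map ι).mul_mul_mul_comm, isq, isq, one_mul] at t2
  have eb : ⁅d u v, d u w⁆ = d u v * d u w * (d u v * d u w) := by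
    rw [commutatorElement_def, i1, i2, mul_assoc]
  rw [← eb] at t2
  have fb : ∀ g ∈ Fx Q (Submodule.span F {u, v, w}), Commute ⁅d u v, d u w⁆ (ι g) := fun g hg =>
    eb ▸ (((f1 g hg).mul_right (f2 g hg)).mul_right ((f1 g hg).mul_right (f2 g hg))).symm
  obtain ⟨α, β, γ, l, k, el, l1, l2, k1, k2, e⟩ := rig h hu (memz t2) fb
  have ib : d u v * ⁅d u v, d u w⁆ * (d u v)⁻¹ = ⁅d u v, d u w⁆⁻¹ := by
    simp only [commutatorElement_def, mul_inv_rev, i1, i2, mul_assoc]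
    rw [← mul_assoc, h.sq u v hv, one_mul]
  have k0 : k = 1 := h.inv_K h.ko k1 k2 (h.cO u v hv) (RtA.sg_ne h.nd hv) (h.tr u v hv) (by
    rw [eq_mul_inv_of_mul_eq e.symm, mul_inv_rev, inv_inv, ← conj_mul, ← (fb l l1).inv_left.eq,
      inv_eq_of_mul_eq_one_right l2, ← (f1 l l1).eq, mul_inv_cancel_right, ib])
  rw [k0, one_mul, el] at e
  obtain ⟨ts1, ts2, p, li⟩ := ti3_iff.1 hu
  have o1 := (ok_of ts1).smul α
  have o2 := (ok_of ts2).smul β
  obtain rfl : γ = 0 := by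
    obtain ⟨g, hg⟩ := exists_dual h.nd hu.li ![0, 1, 0]
    have o : Ok Q u g := ⟨ts1.l, hg 0⟩
    have s1 : (sg Q u g).1.1 u = u := sg_fix (f_self u) (hg 0)
    have s2 : (sg Q u g).1.1 v = v + (1 : F) • u := by
      rw [sg_apply_perp o ts1.p', show 𝐟 v g = 1 from hg 1]
    have s3 : (sg Q u g).1.1 w = w := sg_fix ts2.p' (hg 2)
    have a := h.eqv (sg Q u g) u v hv
    have a' := map2 hv (sg Q u g)
    rw [s1, s2] at a a'
    have b : ι (sg Q u g) * ⁅d u v, d u w⁆ * (ι (sg Q u g))⁻¹ = ⁅d u v, d u w⁆ := by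
      rw [cjc, a, (h.fix hw s1 s3).eq, mul_inv_cancel_right]
      rcases h.alt _ _ _ _ hv a' (sg_add_smul (ok_of ts1) 1).symm with r | r <;> rw [r]
      rw [commutatorElement_def, commutatorElement_def, mul_assoc (d u v), (f2 _ z1).eq]
      group
    rw [e, ← map_inv, ← map_mul, ← map_mul, h.inj.eq_iff, ← conj_mul, (sg_comm u _ _).eq,
      mul_inv_cancel_right, mul_right_inj, conj_sg, map_smul, s2, s3, one_smul, sg_add_left
        ((TS2.of_ts hS m2 m3).smul_right γ) (ts2.smul_right γ) ts1.p', mul_eq_left] at b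
    exact RtB.ne h.nd hw b
  rw [zero_smul, sg_zero, mul_one] at e
  obtain ⟨g, g1, g2, g3⟩ := h.trans3 hu (sw3 hu)
  have b := cjc (ι g) (d u v) (d u w)
  rw [h.eqv g u v hv, h.eqv g u w hw, g1, g2, g3, ← commutatorElement_inv (d u v) (d u w), e,
    inv_eq_of_mul_eq_one_right (isq (Q := Q) (ι := ι) u (α • v + β • w)), ← map_inv, ← map_mul, ← map_mul, h.inj.eq_iff, conj_sg, g1,
    map_add, map_smul, map_smul, g2, g3, sg_inj h.nd (((ok_of ts2).smul α).add ((ok_of ts1).smul β))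
      (o1.add o2) (ti2_iff.1 hv).2.1] at b
  obtain ⟨a, b⟩ := b
  obtain rfl := sub_eq_zero.1 (li a (α - β) (β - α) (by linear_combination (norm := module) -b)).2.1
  exact ⟨α, by rw [e, smul_add]⟩

/-- Suppose `α = 1` for one, hence (`trans3`) for all triples.  `M = ⟨u,v₁,v₂,v₃⟩` (`ext4`),
`g v = d u v * t` for `v ∈ ⟨v₁,v₂,v₃⟩ \ 0`.  `(g v)² = z_v = ι (sg u v)`, the `g v` commute with each
other and with `ι Λ²M`.  `r(v,v') = g v * g v' * g (v+v')` centralizes `t` and `ι (Fx π)`, so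
`r = k ι(λ)`, `k⁴ = 1`, `tw_K`, and `k ≠ t` as `g v` commutes with `r`, `ι λ`.  `λ` is fixed by the
elements fixing `u` and permuting `v, v', v + v'` (`trans3`, `eqv`), so `r = ι (sg v (γ v'))` with
`γ` independent of the triple.  `g₁ g₂ g₃ = r(v₁,v₂) z_{v₁+v₂} r(v₁+v₂,v₃) (g (v₁+v₂+v₃))⁻¹`; the
same for `g₁ g₃ g₂`; `sg_add_left`, `sg_swap` give `sg u (v₁+v₂) = sg u (v₁+v₃)`, false. -/
theorem Pr.com (h : Pr ι t d) (hu : TI Q ![u, v, w]) : Commute (d u v) (d u w) := by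
  by_contra nc
  obtain ⟨α, e0⟩ := h.cm hu
  obtain rfl : α = 1 := (DpA.two h.two α).resolve_left fun k => nc (commutatorElement_eq_one_iff_commute.1
    (by rw [e0, k, zero_smul, sg_zero, map_one]))
  rw [one_smul] at e0
  have all : ∀ a b, TI Q ![u, a, b] → ⁅d u a, d u b⁆ = ι (sg Q u a) * ι (sg Q u b) := fun a b k => by
    obtain ⟨g, g1, g2, g3⟩ := h.trans3 hu k
    have := cjc (ι g) (d u v) (d u w)
    rw [h.eqv g u v (t12 hu), h.eqv g u w (t13 hu), g1, g2, g3, e0, ← map_inv, ← map_mul, ← map_mul,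
      conj_sg, g1, map_add, g2, g3, sg_add (ok_of (ti3_iff.1 k).1) (ok_of (ti3_iff.1 k).2.1)] at this
    rw [← this, map_mul]
  have tt := inv_eq_of_mul_eq_one_right h.tt
  have td : ∀ a, TI Q ![u, a] → t * d u a * t = ι (sg Q u a) * d u a := fun a k => by
    have := h.tr u a k
    rw [inv_eq_of_mul_eq_one_right (h.sq u a k)] at this
    rw [← mul_one (_ * t), ← h.sq u a k, ← mul_assoc, mul_assoc t, mul_assoc t, this, ← mul_assoc t,
      h.tt, one_mul]
  have gs : ∀ a, TI Q ![u, a] → d u a * t * (d u a * t) = ι (sg Q u a) := fun a k => by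
    rw [show d u a * t * (d u a * t) = d u a * (t * d u a * t) by group, td a k,
      (h.fix k (sg_fix (f_self u) (ti2_iff.1 k).1.p) (sg_fix (ti2_iff.1 k).1.p' (f_self a))).eq,
      ← mul_assoc, h.sq u a k, one_mul]
  have gf : ∀ a, TI Q ![u, a] → ∀ g : EG Q, g.1.1 u = u → g.1.1 a = a → Commute (ι g) (d u a * t) :=
    fun a k g a1 a2 => (h.fix k a1 a2).mul_right (h.tc g).symm
  have gt : ∀ a, TI Q ![u, a] → d u a * t * t * (d u a * t)⁻¹ = t * ι (sg Q u a) := fun a k => by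
    rw [← h.tr u a k]; group
  have ge : ∀ a, TI Q ![u, a] → ∀ g : EG Q, g.1.1 u = u →
      ι g * (d u a * t) * (ι g)⁻¹ = d u (g.1.1 a) * t := fun a k g a1 => by
    rw [← conj_mul, h.eqv g u a k, a1, ← (h.tc g).eq, mul_inv_cancel_right]
  have gc : ∀ a b, TI Q ![u, a, b] → Commute (d u a * t) (d u b * t) := fun a b k => by
    obtain ⟨m1, m2, m3⟩ := mem3 (F := F) u a b
    have hS := (Rig.ts3 k).1
    have c1 := h.fix (t12 k) (fxS hS m1 m3 u m1) (fxS hS m1 m3 a m2)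
    have c2 := h.fix (t13 k) (fxS hS m1 m2 u m1) (fxS hS m1 m2 b m3)
    have := all a b k
    rw [commutatorElement_def, mul_assoc, ← mul_inv_rev, mul_inv_eq_iff_eq_mul] at this
    change _ = _
    rw [show d u a * t * (d u b * t) = d u a * (t * d u b * t) by group, td b (t13 k),
      show d u b * t * (d u a * t) = d u b * (t * d u a * t) by group, td a (t12 k), ← mul_assoc,
      ← c1.eq, mul_assoc, this, ((sg_comm u a b).map ι).eq, ← mul_assoc, ← mul_assoc, ← mul_assoc,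
      isq, one_mul, c2.eq, mul_assoc]
  obtain ⟨γ, hr⟩ : ∃ γ : F, d u v * t * (d u w * t) * (d u (v + w) * t) = ι (sg Q v (γ • w)) := by
    obtain ⟨m1, m2, m3⟩ := mem3 (F := F) u v w
    have hS := (Rig.ts3 hu).1
    obtain ⟨ts1, ts2, p, li⟩ := ti3_iff.1 hu
    have hv := t12 hu
    have hw := t13 hu
    have h3 := ad3 hu
    have h4 : TI Q ![u, w, v + w] := add_comm w v ▸ ad3 (sw3 hu)
    have hs := t13 h3
    have f1 := fun g (hg : g ∈ Fx Q (Submodule.span F {u, v, w})) => gf v hv g (hg u m1) (hg v m2)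
    have f2 := fun g (hg : g ∈ Fx Q (Submodule.span F {u, v, w})) => gf w hw g (hg u m1) (hg w m3)
    have f3 := fun g (hg : g ∈ Fx Q (Submodule.span F {u, v, w})) =>
      gf _ hs g (hg u m1) (hg _ (add_mem m2 m3))
    have z3 := fxS hS m1 (add_mem m2 m3)
    have zz : ι (sg Q u v) * ι (sg Q u w) * ι (sg Q u (v + w)) = 1 := by
      rw [← map_mul, ← sg_add (ok_of ts1) (ok_of ts2), isq]
    have t1 := trm (trm (gt v hv) (gt w hw) (f1 _ (fxS hS m1 m3))) (gt _ hs)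
      ((f1 _ z3).mul_right (f2 _ z3))
    rw [zz] at t1
    have fb := fun g hg => (((f1 g hg).mul_right (f2 g hg)).mul_right (f3 g hg)).symm
    obtain ⟨α, β, γ, l, k, el, l1, l2, k1, k2, e⟩ := rig h hu (memz t1) fb
    have c12 := gc v w hu
    have c13 := gc _ _ h3
    have c23 := gc _ _ h4
    have ek := eq_mul_inv_of_mul_eq e.symm
    rcases h.inv k1 k2 (by
      rw [ek, (fb l l1).inv_right.symm.mul_mul_mul_comm, ← mul_inv_rev, l2,
        (c13.mul_left c23).symm.mul_mul_mul_comm, c12.symm.mul_mul_mul_comm, gs v hv, gs w hw, gs _ hs,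
        zz, inv_one, mul_one]) with rfl | k0
    swap
    · have : Commute (d u v * t) k := ek ▸
        (((Commute.refl _).mul_right c12).mul_right c13).mul_right (f1 l l1).symm.inv_right
      have k3 := gt v hv
      rw [k0] at this
      rw [this.eq, mul_inv_cancel_right, left_eq_mul, ← map_one ι, h.inj.eq_iff] at k3
      exact absurd k3 (RtA.sg_ne h.nd hv)
    rw [one_mul, el] at e
    have key : ∀ a b, TI Q ![u, a, b] → d u a * t * (d u b * t) * (d u (a + b) * t) =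
        d u v * t * (d u w * t) * (d u (v + w) * t) → sg Q u (α • a + β • b) * sg Q a (γ • b) =
        sg Q u (α • v + β • w) * sg Q v (γ • w) := fun a b k r => by
      obtain ⟨g, g1, g2, g3⟩ := h.trans3 hu k
      apply h.inj
      rw [← e, ← r, ← g2, ← g3, ← map_add, ← ge v hv g g1, ← ge w hw g g1, ← ge _ hs g g1, conj_mul,
        conj_mul, e, ← map_inv, ← map_mul, ← map_mul, ← conj_mul, conj_sg, conj_sg, g1, map_add,
        map_smul, map_smul, map_smul]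
    have tv := TS2.of_ts hS m2 m3
    have o1 := ok_of ts1
    have o2 := ok_of ts2
    have u0 := (ti2_iff.1 hv).2.1
    have k1 := key w v (sw3 hu) (by rw [c12.eq, add_comm w])
    have k2 := key v (v + w) h3 (by
      rw [← add_assoc, add_self' F, zero_add, mul_assoc, ← c23.eq, ← mul_assoc])
    rw [← sg_smul (ok_of tv.symm), sg_swap (tv.symm.smul_left γ), mul_left_inj,
      sg_inj h.nd ((o2.smul α).add (o1.smul β)) ((o1.smul α).add (o2.smul β)) u0] at k1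
    rw [smul_add γ, add_comm (γ • v), ← sg_add_smul ((ok_of tv).smul γ) γ, mul_left_inj,
      sg_inj h.nd ((o1.smul α).add ((o1.add o2).smul β)) ((o1.smul α).add (o2.smul β)) u0] at k2
    obtain ⟨a, k1⟩ := k1
    obtain ⟨b, k2⟩ := k2
    obtain rfl := sub_eq_zero.1 (li a (α - β) (β - α) (by linear_combination (norm := module) -k1)).2.1
    obtain rfl := neg_eq_zero.1 (li b (-α) 0 (by linear_combination (norm := module) -k2)).2.1
    exact ⟨γ, by simpa [sg_zero] using e⟩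
  have hr' : ∀ a b, TI Q ![u, a, b] →
      d u a * t * (d u b * t) * (d u (a + b) * t) = ι (sg Q a (γ • b)) := fun a b k => by
    obtain ⟨g, g1, g2, g3⟩ := h.trans3 hu k
    rw [← g2, ← g3, ← map_add, ← ge v (t12 hu) g g1, ← ge w (t13 hu) g g1, ← ge _ (t13 (ad3 hu)) g g1,
      conj_mul, conj_mul, hr, ← map_inv, ← map_mul, ← map_mul, conj_sg, map_smul]
  have fin : ∀ a b c, TI Q ![u, a, b, c] → d u a * t * (d u b * t) * (d u c * t) * (d u (a + b + c) * t) =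
      ι (sg Q a (γ • b) * (sg Q u (a + b))⁻¹ * sg Q (a + b) (γ • c)) := fun a b c k => by
    rw [map_mul, map_mul, map_inv, ← hr' a b (t123 k), ← hr' _ c (ad4 k), ← gs _ (t12 (ad4 k))]
    group
  obtain ⟨y, k⟩ := h.ext4 h.two hu
  have e1 := fin v w y k
  have e2 := fin v y w (sw4 k)
  obtain ⟨s1, s2, s3, p1, p2, p3, li⟩ := ti4_iff.1 k
  have vw : TS2 Q v w := ⟨s1.r, s2.r, p1⟩
  have vy : TS2 Q v y := ⟨s1.r, s3.r, p2⟩
  have wy : TS2 Q w y := ⟨s2.r, s3.r, p3⟩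
  rw [mul_assoc (d u v * t), ← (gc w y (t134 k)).eq, ← mul_assoc (d u v * t), add_right_comm, e1,
    h.inj.eq_iff,
    sg_add_left (vy.smul_right γ) (wy.smul_right γ) p1, sg_add_left (vw.smul_right γ)
      (wy.symm.smul_right γ) p2, ← sg_smul (ok_of wy.symm), sg_swap (wy.symm.smul_left γ),
    ← mul_assoc, ← mul_assoc, mul_left_inj, sg_inv, sg_inv] at e2
  have q : ∀ a b : V, TS2 Q u a → TS2 Q a b → TS2 Q u b → ∀ c, TS2 Q a c → TS2 Q u c → 𝐟 c b = 0 →
      Commute (sg Q a (γ • b)) (sg Q u (a + c)) := fun a b a1 a2 a3 c a4 a5 a6 =>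
    comm_sg (sg_fix a1.p (a3.smul_right γ).p) (sg_fix (by rw [polar_add_left, f_self, a4.p', add_zero])
      (by rw [polar_smul_right', polar_add_left, a2.p, a6, add_zero, mul_zero]))
  rw [(q v w s1 vw s2 w vw s2 (f_self w)).eq, (q v y s1 vy s3 y vy s3 (f_self y)).eq, mul_assoc,
    mul_assoc, (sg_comm v _ _).eq, mul_left_inj, sg_inj h.nd (ok_of (tsa s1 s2 p1))
      (ok_of (tsa s1 s3 p2)) (ti2_iff.1 (t12 hu)).2.1] at e2
  obtain ⟨a, e2⟩ := e2
  exact one_ne_zero (li a 0 (-1) 1 (by linear_combination (norm := module) -e2)).2.2.2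

end Cfsg.Agent.StdO
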