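import Cfsg.Agent.StdO.EDef
import Cfsg.Agent.Class.Orth.StdOrder
import Cfsg.Agent.Class.Orth.Plane
import Cfsg.Agent.Class.Orth.TypeCount
import Cfsg.Agent.StdO.RtA

/-! Elementary abelian `2`-subgroups of `C(t)` are small. -/

set_option autoImplicit false
set_option linter.unusedSectionVars false
set_option linter.unusedVariables false

namespace Cfsg.Agent.StdO

open Subgroup Module QuadraticMap Cfsg.Agent.Class.Orth Cfsg.Agent.KSG Cfsg.Agent.PLocal.Amb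
  Cfsg.Agent.Lyons
open Cfsg.Agent.StdL (cjh El)
open scoped commutatorElement

variable {F V : Type*} [Field F] [Finite F] [CharP F 2] [AddCommGroup V] [Module F V]
  [FiniteDimensional F V] {Q : QuadraticForm F V} {G : Type*} [Group G] [Finite G]

local notation "𝐟" => polar Q


variable {ι : EG Q →* G} {t : G} {k : ℕ}

namespace EA

theorem aut_eq {σ τ : F ≃+* F} (h1 : ∀ e, σ (σ e) = e) (h2 : ∀ e, τ (τ e) = e)
    (h3 : ∃ e, σ e ≠ e) (h4 : ∃ e, τ e ≠ e) : σ = τ := by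
  classical
  let _ := ZMod.algebra F 2
  let a (σ : F ≃+* F) : F ≃ₐ[ZMod 2] F :=
    AlgEquiv.ofRingEquiv (f := σ) fun x => congrArg (fun f : ZMod 2 →+* F => f x)
      (RingHom.ext_zmod ((σ : F →+* F).comp (algebraMap _ _)) (algebraMap _ _))
  have key : ∀ σ : F ≃+* F, (∀ e, σ (σ e) = e) → (∃ e, σ e ≠ e) → orderOf (a σ) = 2 :=
    fun σ b1 ⟨e, b2⟩ => orderOf_eq_prime (AlgEquiv.ext fun e => by rw [pow_two]; exact b1 e)
      fun b3 => b2 (congrArg (fun f : F ≃ₐ[ZMod 2] F => f e) b3)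
  have := Fintype.ofFinite (F ≃ₐ[ZMod 2] F)
  have h := IsCyclic.card_orderOf_eq_totient (α := F ≃ₐ[ZMod 2] F) (d := 2)
    ((key σ h1 h3).symm.dvd.trans orderOf_dvd_card)
  rw [Nat.totient_two, Finset.card_eq_one] at h
  obtain ⟨c, hc⟩ := h
  have b1 : a σ ∈ ({c} : Finset _) := hc ▸ by simpa using key σ h1 h3
  have b2 : a τ ∈ ({c} : Finset _) := hc ▸ by simpa using key τ h2 h4
  have b3 := (Finset.mem_singleton.1 b1).trans (Finset.mem_singleton.1 b2).symm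
  exact RingEquiv.ext fun e => congrArg (fun f : F ≃ₐ[ZMod 2] F => f e) b3

theorem rel_mul {H K : Subgroup G} (h : H ≤ K) : H.relIndex K * Nat.card H = Nat.card K := by
  rw [← (H.subgroupOf K).index_mul_card, Nat.card_congr (subgroupOfEquivOfLe h).toEquiv]
  rfl

theorem half {H K : Subgroup G} (h : H ≤ K)
    (e : ∀ a ∈ K, ∀ b ∈ K, a ∉ H → b ∉ H → a * b ∈ H) : Nat.card K ≤ 2 * Nat.card H := by
  have h1 : H.relIndex K ∣ 2 := by
    rw [relIndex_dvd_two_iff]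
    by_cases c : ∃ a ∈ K, a ∉ H
    · obtain ⟨a, ha, ha'⟩ := c
      exact ⟨a, ha, fun b hb => (em (b ∈ H)).symm.imp_left fun c => e b hb a ha c ha'⟩
    · push Not at c
      exact ⟨1, one_mem _, fun b hb => .inr (c b hb)⟩
  rw [← rel_mul h]
  exact Nat.mul_le_mul_right _ (Nat.le_of_dvd two_pos h1)

theorem two_mul (h : Dm Q) : Nat.card (OG Q) = 2 * Nat.card (EG Q) := by
  have : Nontrivial V := Module.nontrivial_of_finrank_pos (R := F) (by have := h.d8; omega)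
  obtain ⟨v, hv⟩ := h.nd.exists_Q_ne_zero
  have h1 : (EG Q).index = 2 := by
    rw [index_eq_two_iff]
    refine ⟨refl Q v, fun b => ?_⟩
    by_cases c : b ∈ EG Q
    · exact .inr ⟨c, fun d => h.refl_notMem hv ((mul_mem_cancel_left c).1 d)⟩
    · exact .inl ⟨h.mul_mem c (h.refl_notMem hv), c⟩
  rw [← h1, index_mul_card]

theorem even_card : Even (Nat.card F) := by
  have := Fintype.ofFinite F
  rw [Nat.card_eq_fintype_card, Nat.even_iff]
  exact FiniteField.even_card_of_char_two (ringChar.eq F 2)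

theorem idx1 {u : V} {Y : Submodule F V} (o : ∀ y ∈ Y, Ok Q u y) {B S : Subgroup (EG Q)}
    (hS : ∀ y ∈ Y, sg Q u y ∈ S) : Nat.card F ^ finrank F Y ≤
      B.relIndex S * Nat.card F ^ finrank F (Submodule.span F {y | y ∈ Y ∧ sg Q u y ∈ B}) := by
  have : Finite V := Module.finite_of_finite F
  have : Finite (EG Q) := finite_EG
  let φ : Multiplicative Y →* EG Q := MonoidHom.mk' (fun y => sg Q u (y.toAdd : Y))
    fun a b => sg_add (o _ a.toAdd.2) (o _ b.toAdd.2)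
  have h1 : (B.comap φ).index ≤ B.relIndex S := by
    rw [index_comap]
    refine relIndex_le_of_le_right ?_ index_ne_zero_of_finite
    rintro _ ⟨y, rfl⟩
    exact hS _ y.toAdd.2
  have h2 : Nat.card (B.comap φ) ≤ Nat.card (Submodule.span F {y | y ∈ Y ∧ sg Q u y ∈ B}) :=
    Nat.card_le_card_of_injective
      (fun y => ⟨(y.1.toAdd : Y), Submodule.subset_span ⟨y.1.toAdd.2, y.2⟩⟩)
      fun a b e => Subtype.ext (Multiplicative.toAdd.injective (Subtype.ext (Subtype.mk.inj e)))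
  rw [← Module.natCard_eq_pow_finrank, ← Module.natCard_eq_pow_finrank,
    ← Nat.card_congr (Multiplicative.toAdd (α := Y)), ← (B.comap φ).index_mul_card]
  exact Nat.mul_le_mul h1 h2

/-- elements acting linearly -/
def B1 (ι : EG Q →* G) (B : Subgroup G) : Subgroup G where
  carrier := {n | n ∈ B ∧ ∃ T, Ac ι n T ∧ T.σ = 1}
  one_mem' := ⟨one_mem _, 1, ac_one (one_mem _), rfl⟩
  mul_mem' := fun ⟨a1, T, a2, a3⟩ ⟨b1, T', b2, b3⟩ =>
    ⟨mul_mem a1 b1, T * T', a2.mul b2, by rw [SS.mul_σ, a3, b3, mul_one]⟩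
  inv_mem' := fun ⟨a1, T, a2, a3⟩ => ⟨inv_mem a1, T⁻¹, a2.inv, by rw [SS.inv_σ, a3, inv_one]⟩

/-- elements acting as inner automorphisms -/
def B2 (ι : EG Q →* G) (B : Subgroup G) : Subgroup G where
  carrier := {n | n ∈ B ∧ ∃ g : EG Q, Ac ι n (SS.oO Q g.1)}
  one_mem' := ⟨one_mem _, 1, ac_one (one_mem _)⟩
  mul_mem' := fun ⟨a1, g, a2⟩ ⟨b1, g', b2⟩ =>
    ⟨mul_mem a1 b1, g * g', by rw [Subgroup.coe_mul, map_mul]; exact a2.mul b2⟩
  inv_mem' := fun ⟨a1, g, a2⟩ => ⟨inv_mem a1, g⁻¹, by rw [Subgroup.coe_inv, map_inv]; exact a2.inv⟩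

theorem core (h : Su ι t) {B : Subgroup G} (hB : B ≤ 𝐳[t]) (hE : El B)
    (ha : ∀ n ∈ B, ∃ T, Ac ι n T) : Nat.card B ≤ 8 * Nat.card ↥(B ⊓ ι.range) ∧
      (Nat.card F = 2 → Nat.card B ≤ 4 * Nat.card ↥(B ⊓ ι.range)) := by
  have sq : ∀ n ∈ B, ∀ T, Ac ι n T → ∀ x, T.σ (T.σ x) = x := fun n hn T hT x => by
    have h1 := hT.mul hT
    rw [hE n hn] at h1
    exact congrArg (fun T : SS Q => T.σ x) (h.toRp.uniq h1 (ac_one (one_mem _)))
  have ne : ∀ σ : RingAut F, σ ≠ 1 → ∃ x, σ x ≠ x := fun σ hσ => by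
    by_contra c
    push Not at c
    exact hσ (RingEquiv.ext c)
  have h1 : Nat.card B ≤ 2 * Nat.card (B1 ι B) := half (fun _ hn => hn.1) fun a a1 b b1 a2 b2 => by
    obtain ⟨T, hT⟩ := ha a a1
    obtain ⟨T', hT'⟩ := ha b b1
    have e : T.σ = T'.σ := aut_eq (sq a a1 T hT) (sq b b1 T' hT')
      (ne _ fun c => a2 ⟨a1, T, hT, c⟩) (ne _ fun c => b2 ⟨b1, T', hT', c⟩)
    refine ⟨mul_mem a1 b1, T * T', hT.mul hT', RingEquiv.ext fun x => ?_⟩
    rw [SS.mul_σ, ← e]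
    exact sq a a1 T hT x
  have h1' : Nat.card F = 2 → Nat.card B ≤ Nat.card (B1 ι B) := fun hq => by
    refine card_le_of_le fun a a1 => ?_
    obtain ⟨T, hT⟩ := ha a a1
    refine ⟨a1, T, hT, RingEquiv.ext fun x => ?_⟩
    obtain ⟨y, -, hy⟩ := (Nat.card_eq_two_iff' (0 : F)).1 hq
    by_cases c : x = 0
    · rw [c, map_zero, map_zero]
    · rw [(hy x c).trans (hy 1 one_ne_zero).symm, map_one, map_one]
  have h2 : Nat.card (B1 ι B) ≤ 2 * Nat.card (B2 ι B) :=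
    half (fun _ ⟨a1, g, a2⟩ => ⟨a1, _, a2, rfl⟩) fun a ⟨a1, T, a2, a3⟩ b ⟨b1, T', b2, b3⟩ a4 b4 => by
      obtain ⟨g, rfl⟩ := SS.exists_oO a3 a2.c
      obtain ⟨g', rfl⟩ := SS.exists_oO b3 b2.c
      refine ⟨mul_mem a1 b1, ⟨g * g', h.toRp.toDm.mul_mem (fun c => a4 ⟨a1, ⟨g, c⟩, a2⟩)
        fun c => b4 ⟨b1, ⟨g', c⟩, b2⟩⟩, ?_⟩
      rw [map_mul]
      exact a2.mul b2
  have key : ∀ a ∈ B2 ι B, a ∉ B ⊓ ι.range → ∃ g, a = t * ι g := fun a ⟨a1, g, a2⟩ a3 => by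
    have c1 := a2.inner
    have c2 : a * (ι g)⁻¹ ∈ 𝐳[t] := mul_mem (hB a1) (inv_mem (h.tL ⟨g, rfl⟩))
    have c3 : Commute (ι g) (a * (ι g)⁻¹) := c1 _ ⟨g, rfl⟩
    have c4 : a * (ι g)⁻¹ * (a * (ι g)⁻¹) = (ι g)⁻¹ * (ι g)⁻¹ := by
      have e2 : a * (ι g)⁻¹ * (a * (ι g)⁻¹) * (ι g * ι g) = a * a := by
        rw [show a * (ι g)⁻¹ * (a * (ι g)⁻¹) * (ι g * ι g) =
          a * (ι g)⁻¹ * ((a * (ι g)⁻¹) * ι g) * ι g by group, ← c3.eq]
        group
      rw [hE a a1] at e2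
      rw [eq_inv_of_mul_eq_one_left e2, _root_.mul_inv_rev]
    have c5 : a * (ι g)⁻¹ * (a * (ι g)⁻¹) = 1 := h.toRp.eq_one
      (c4 ▸ mul_mem (inv_mem ⟨g, rfl⟩) (inv_mem ⟨g, rfl⟩)) (mul_mem c1 c1)
    rcases h.inv c2 c1 c5 with c | c
    · exact absurd ⟨a1, g, (mul_inv_eq_one.1 c).symm⟩ a3
    · exact ⟨g, mul_inv_eq_iff_eq_mul.1 c⟩
  have h3 : Nat.card (B2 ι B) ≤ 2 * Nat.card ↥(B ⊓ ι.range) :=
    half (fun _ ⟨a1, g, a2⟩ => ⟨a1, g, a2 ▸ ac_self ι g⟩) fun a a1 b b1 a2 b2 => by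
      obtain ⟨g, e⟩ := key a a1 a2
      obtain ⟨g', e'⟩ := key b b1 b2
      refine ⟨mul_mem a1.1 b1.1, g * g', ?_⟩
      rw [e, e', map_mul, (h.tc g).eq, mul_assoc, ← mul_assoc t, h.tt, one_mul]
  exact ⟨by omega, fun hq => by have := h1' hq; omega⟩

end EA

open EA


/-- `IsPlus.exists_equiv` / `exists_equiv_minus` (see `exists_desc_even` in `KSG/AutOrth11`),
`card_OG_congr`, `card_OG_plusQF`, `card_OG_minusQF(_of)`; `EG Q` has index two (`Dm.mul_mem`,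
`Dm.refl_notMem`). -/
theorem Dm.card_EG (h : Dm Q) (hk : finrank F V = 2 * (k + 1)) :
    (Class.QF.IsPlus Q ∧ Nat.card (EG Q) = Nat.card F ^ ((k + 1) * k) * (Nat.card F ^ (k + 1) - 1) *
      ∏ i ∈ Finset.range k, (Nat.card F ^ (2 * (i + 1)) - 1)) ∨
    (¬ Class.QF.IsPlus Q ∧ Nat.card (EG Q) = Nat.card F ^ ((k + 1) * k) * (Nat.card F ^ (k + 1) + 1) *
      ∏ i ∈ Finset.range k, (Nat.card F ^ (2 * (i + 1)) - 1)) := by
  have h2 := two_mul h
  by_cases hp : Class.QF.IsPlus Q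
  · obtain ⟨e, he⟩ := h.nd.exists_equiv_plusQF hp hk
    rw [card_OG_congr e he, card_OG_plusQF, mul_assoc, mul_assoc] at h2
    exact .inl ⟨hp, by rw [mul_assoc]; omega⟩
  · obtain ⟨a, ha⟩ := Class.QF.exists_aniso (F := F)
    obtain ⟨e, he⟩ := h.nd.exists_equiv_minusQF hp (k := k) hk ha
    rw [card_OG_congr e he, card_OG_minusQF ha, mul_assoc, mul_assoc] at h2
    exact .inr ⟨hp, by rw [mul_assoc]; omega⟩

/-- the other factors in `card_EG` are odd -/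
theorem Dm.card_two (h : Dm Q) (hk : finrank F V = 2 * (k + 1)) {S : Subgroup (EG Q)}
    (hS : IsPGroup 2 S) : Nat.card S ≤ Nat.card F ^ ((k + 1) * k) := by
  have : Finite (EG Q) := finite_EG
  have ev : ∀ m, Even (Nat.card F ^ (m + 1)) := fun m => (even_card (F := F)).pow_of_ne_zero m.succ_ne_zero
  have od : ∀ m, Odd (Nat.card F ^ (m + 1) - 1) := fun m =>
    Nat.Even.sub_odd (Nat.one_le_pow _ _ Nat.card_pos) (ev m) odd_one
  have o2 : Odd (∏ i ∈ Finset.range k, (Nat.card F ^ (2 * (i + 1)) - 1)) :=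
    Finset.prod_induction _ Odd (fun _ _ => Odd.mul) odd_one fun i _ => od (2 * i + 1)
  obtain ⟨m, hm⟩ := hS.exists_card_eq
  have key : ∀ r, Odd r → Nat.card (EG Q) = Nat.card F ^ ((k + 1) * k) * r →
      Nat.card S ≤ Nat.card F ^ ((k + 1) * k) := fun r hr e => by
    have h1 := S.card_subgroup_dvd_card
    rw [e, hm] at h1
    rw [hm]
    exact Nat.le_of_dvd (pow_pos Nat.card_pos _)
      (((Nat.coprime_two_left.2 hr).pow_left m).dvd_of_dvd_mul_right h1)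
  rcases h.card_EG hk with ⟨-, e⟩ | ⟨-, e⟩
  · exact key _ ((od k).mul o2) (e.trans (mul_assoc _ _ _))
  · exact key _ ((ev k).add_one.mul o2) (e.trans (mul_assoc _ _ _))

/-- Take `TI Q ![u, e]`, `Y = ⟨u, e⟩^⊥` (dimension `n - 2`).  `VU e Y` normalises `VU u u^⊥`
(`conj_sg`), both have exponent two, so their join is a `2`-group; conjugating `u, e` by an element
of `EG Q` we may assume that it lies in `S`.  `A₁ = {v ∈ Y | sg u v ∈ B}`, `A₂ = {w ∈ Y | sg e w ∈ B}`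
are additive subgroups of index at most `i = B.relIndex S` in `Y` (comap along the homomorphism
`v ↦ sg u v`).  For `v ∈ A₁`, `w ∈ A₂`: `1 = ⁅sg e w, sg u v⁆ = sg u (𝐟 v w • e)` (`cm_sg`,
`sg_apply_perp`), so `𝐟 v w = 0`.  So `span A₁ ≤ (span A₂)^⊥`, `|A₁| |A₂| ≤ q ^ n`, and
`q ^ (2 (n - 2)) ≤ i ^ 2 q ^ n`. -/
theorem Dm.idx (h : Dm Q) {B S : Subgroup (EG Q)} (hS : IsSyl 2 S ⊤) (hB : B ≤ S)
    (hc : ∀ a ∈ B, ∀ b ∈ B, Commute a b) :
    Nat.card F ^ (finrank F V - 4) ≤ B.relIndex S ^ 2 := by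
  have : Finite (EG Q) := finite_EG
  obtain ⟨u₀, h0, h1⟩ := h.ext1
  obtain ⟨e₀, h2⟩ := h.ext2 h1 h0
  obtain ⟨g, -, hg⟩ := hS.exists_cj_le (isPGroup_Qq h.nd h2) le_top
  obtain ⟨u, e, hu, m⟩ : ∃ u e, TI Q ![u, e] ∧ ∀ y ∈ perp Q (Submodule.span F {u, e}),
      sg Q u y ∈ S ∧ sg Q e y ∈ S := by
    obtain ⟨t, t1, t2⟩ := ti2_iff.1 h2
    refine ⟨g.1.1 u₀, g.1.1 e₀, ?_, fun y hy => ?_⟩
    · have := h2.map g.1
      convert this using 1
      ext i; fin_cases i <;> rfl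
    · obtain ⟨y, rfl⟩ : ∃ y', g.1.1 y' = y := ⟨_, RtA.app_inv g y⟩
      rw [mem_perp2'', OG.map_polar, OG.map_polar, ← mem_perp2''] at hy
      rw [← conj_sg, ← conj_sg]
      exact ⟨hg (conj_mem_cj g (mem_sup_left (subset_closure ⟨y, hy, rfl⟩))),
        hg (conj_mem_cj g (mem_sup_right (subset_closure ⟨y, hy, rfl⟩)))⟩
  obtain ⟨t, t1, t2⟩ := ti2_iff.1 hu
  have i1 := idx1 (B := B) (fun y hy => RtA.oku t hy) fun y hy => (m y hy).1
  have i2 := idx1 (B := B) (fun y hy => RtA.oke t hy) fun y hy => (m y hy).2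
  have d1 := finrank_perp h.nd (Submodule.span F {u, e})
  rw [(Rig.ts2 hu).2] at d1
  have le : Submodule.span F {y | y ∈ perp Q (Submodule.span F {u, e}) ∧ sg Q u y ∈ B} ≤
      perp Q (Submodule.span F {y | y ∈ perp Q (Submodule.span F {u, e}) ∧ sg Q e y ∈ B}) := by
    rw [Submodule.span_le]
    rintro v ⟨v1, v2⟩
    refine mem_perp_span.2 fun w ⟨w1, w2⟩ => ?_
    have c := cm_Qq t v1 (zero_mem _) (zero_mem _) w1
    rw [sg_zero, sg_zero, mul_one, one_mul, polar_zero_left, add_zero,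
      commutatorElement_eq_one_iff_commute.2 (hc _ v2 _ w2)] at c
    obtain ⟨a, ha⟩ := (sg_eq_one h.nd ((ok_of t).smul _) t1).1 c.symm
    by_contra c'
    rw [polar_comm] at c'
    exact t2 ((𝐟 v w)⁻¹ * a) (by rw [mul_smul, ← ha, smul_smul, inv_mul_cancel₀ c', one_smul])
  have d2 := Submodule.finrank_mono le
  have d3 := finrank_perp h.nd
    (Submodule.span F {y | y ∈ perp Q (Submodule.span F {u, e}) ∧ sg Q e y ∈ B})
  have i3 := Nat.mul_le_mul i1 i2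
  rw [mul_mul_mul_comm, ← pow_add, ← pow_add, ← pow_two] at i3
  have d8 := h.d8
  have i4 := i3.trans (Nat.mul_le_mul_left _ (Nat.pow_le_pow_right Nat.card_pos
    (show _ ≤ finrank F V by omega)))
  rw [show finrank F (perp Q (Submodule.span F {u, e})) + finrank F (perp Q (Submodule.span F {u, e})) =
    finrank F V - 4 + finrank F V by omega, pow_add] at i4
  exact Nat.le_of_mul_le_mul_right i4 (pow_pos Nat.card_pos _)

/-- `Rp.a3` and `Su.comp`: wlog every `n ∈ B` has `Ac ι n Tₙ`.  `B₁ = {Tₙ.σ = 1}` has index at most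
two in `B` (`σ² = 1` by `Rp.uniq`; two automorphisms of order two of `F` are equal,
`SLE.Uf.aut_eq` in `SLE/Ufp`), and `B₁ = B` if `|F| = 2`.  `B₂ = {Tₙ = oO g, g ∈ EG Q}` has index at most
two in `B₁` (`SS.exists_oO`, `Dm.mul_mem`).  For `n ∈ B₂`, `c = n (ι g)⁻¹ ∈ C(L) ⊓ C(t)`
(`Ac.inner`), `c² (ι g)² = 1` gives `c² = 1` (`Rp.eq_one`), `c ∈ {1, t}` (`Su.inv`); so `B ⊓ L` has index
at most two in `B₂`. -/
theorem Su.card_le (h : Su ι t) {B : Subgroup G} (hB : B ≤ 𝐳[t]) (hE : El B) :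
    Nat.card B ≤ 8 * Nat.card ↥(B ⊓ ι.range) ∧
      (Nat.card F = 2 → Nat.card B ≤ 4 * Nat.card ↥(B ⊓ ι.range)) := by
  have hp : IsPGroup 2 B := fun x => ⟨1, Subtype.ext (by rw [pow_one, pow_two]; exact hE _ x.2)⟩
  obtain ⟨α, hα⟩ := h.toRp.a3 hp (hB.trans h.nrm)
  have := core (h.comp α) hB hE hα
  rwa [range_comp_aut] at this

/-- `B' = B.comap ι` lies in a Sylow `S`; `|B'| i = |S| ≤ q ^ ((k+1) k)`.  If the claim fails, `i ≤ 8`
(`i ≤ 4` for `q = 2`), against `idx`: `4 ^ 4 > 64`, `2 ^ 6 > 16`. -/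
theorem Su.ne (h : Su ι t) (hk : finrank F V = 2 * (k + 1)) {B : Subgroup G} (hB : B ≤ 𝐳[t])
    (hE : El B) : Nat.card B < Nat.card F ^ ((k + 1) * k) := by
  have : Finite (EG Q) := finite_EG
  have hE' : ∀ a ∈ B.comap ι, a * a = 1 := fun a ha => h.inj (by rw [map_mul, map_one]; exact hE _ ha)
  have hp : IsPGroup 2 (B.comap ι) :=
    fun x => ⟨1, Subtype.ext (by rw [pow_one, pow_two]; exact hE' _ x.2)⟩
  obtain ⟨S, hS, le⟩ := exists_isSyl_ge hp le_top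
  have h1 := h.toRp.toDm.idx hS le fun a ha b hb => StdL.El.comm hE' ha hb
  have h2 := h.toRp.toDm.card_two hk hS.pgrp
  rw [← rel_mul le] at h2
  have h3 : Nat.card ↥(B ⊓ ι.range) = Nat.card (B.comap ι) := by
    rw [← card_map_of_injective h.inj, map_comap_eq, inf_comm]
  obtain ⟨h4, h5⟩ := h.card_le hB hE
  rw [h3] at h4 h5
  have pos : 0 < Nat.card (B.comap ι) := Nat.card_pos
  by_contra c
  rw [not_lt] at c
  by_cases hq : Nat.card F = 2
  · have i := Nat.le_of_mul_le_mul_right (h2.trans (c.trans (h5 hq))) pos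
    have d := h.q2 hq
    have := (Nat.pow_le_pow_right (by rw [hq]; norm_num) (show 6 ≤ finrank F V - 4 by omega)).trans
      (h1.trans (Nat.pow_le_pow_left i 2))
    rw [hq] at this
    norm_num at this
  · have i := Nat.le_of_mul_le_mul_right (h2.trans (c.trans h4)) pos
    have d := h.d8
    have q : 1 < Nat.card F := Finite.one_lt_card
    have := (Nat.pow_le_pow_left (show 3 ≤ Nat.card F by omega) 4).trans
      ((Nat.pow_le_pow_right (by omega) (show 4 ≤ finrank F V - 4 by omega)).trans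
      (h1.trans (Nat.pow_le_pow_left i 2)))
    norm_num at this

end Cfsg.Agent.StdO
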