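import Cfsg.Agent.StdO.EDef

/-! An involution of `O(Q)` centralises a large elementary abelian subgroup of `Ω(Q)`. -/

set_option autoImplicit false
set_option linter.unusedSectionVars false
set_option linter.unusedVariables false

namespace Cfsg.Agent.StdO

open Subgroup Module QuadraticMap Cfsg.Agent.Class.Orth Cfsg.Agent.KSG Cfsg.Agent.PLocal.Amb
  Cfsg.Agent.Lyons
open Cfsg.Agent.StdL (cjh El)
open scoped commutatorElement

variable {F V : Type*} [Field F] [Finite F] [CharP F 2] [AddCommGroup V] [Module F V]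
  [FiniteDimensional F V] {Q : QuadraticForm F V} {G : Type*} [Group G] [Finite G]

local notation "𝐟" => polar Q


variable {k : ℕ} {Y : Submodule F V}

/-- take `Y ≥ M` with `Y ≤ Y^⊥` of maximal dimension; `x ∈ Y^⊥` can be added (`f_self`) -/
theorem exists_lag {M : Submodule F V} (hM : M ≤ perp Q M) : ∃ Y, M ≤ Y ∧ perp Q Y = Y := by
  obtain ⟨Y, -, ⟨h1, h2⟩, hmax⟩ := exists_maximal_ge_of_wellFoundedGT
    (fun Y : Submodule F V => M ≤ Y ∧ Y ≤ perp Q Y) M ⟨le_rfl, hM⟩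
  refine ⟨Y, h1, le_antisymm (fun x hx => ?_) h2⟩
  refine hmax (y := Y ⊔ Submodule.span F {x}) ⟨h1.trans le_sup_left, fun a ha b hb => ?_⟩ le_sup_left
    (Submodule.mem_sup_right (Submodule.mem_span_singleton_self x))
  obtain ⟨a1, ha1, a2, ha2, rfl⟩ := Submodule.mem_sup.1 ha
  obtain ⟨b1, hb1, b2, hb2, rfl⟩ := Submodule.mem_sup.1 hb
  obtain ⟨r, rfl⟩ := Submodule.mem_span_singleton.1 ha2
  obtain ⟨s, rfl⟩ := Submodule.mem_span_singleton.1 hb2
  rw [polar_add_left, polar_add_right, polar_add_right, polar_smul_right', polar_smul_left',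
    polar_smul_left', polar_smul_right', f_self, h2 ha1 b1 hb1, hx b1 hb1, polar_comm Q x, hx a1 ha1]
  simp

theorem eb_mov (hY : perp Q Y = Y) {g : OG Q} (hg : ∀ y ∈ Y, g.1 y = y) (x : V) : g.1 x + x ∈ Y := by
  rw [← hY]
  intro y hy
  rw [polar_add_right]
  conv_lhs => enter [1]; rw [← hg y hy, OG.map_polar]
  linear_combination 𝐟 y x * two_zero F

theorem eb_mul (hY : perp Q Y = Y) {g h : OG Q} (hg : ∀ y ∈ Y, g.1 y = y) (hh : ∀ y ∈ Y, h.1 y = y) (x : V) :
    (g * h).1 x = g.1 x + h.1 x + x := by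
  have e := hg _ (eb_mov hY hh x)
  rw [map_add] at e
  rw [OG.mul_apply, eq_sub_of_add_eq e, sub_eq' F]; abel

/-- `g x + x ∈ Y^⊥ = Y` for `g` fixing `Y` pointwise; so `g h x = x + (g x + x) + (h x + x)`. -/
theorem lag_mul (hY : perp Q Y = Y) {g h : OG Q} (hg : ∀ y ∈ Y, g.1 y = y) (hh : ∀ y ∈ Y, h.1 y = y) :
    Commute g h ∧ g * g = 1 := by
  refine ⟨OG.ext fun x => ?_, OG.ext fun x => ?_⟩
  · rw [eb_mul hY hg hh, eb_mul hY hh hg, add_comm (g.1 x)]
  · rw [eb_mul hY hg hg, add_self' F, zero_add, OG.one_apply]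

/-- the elements of `Fx Q Y` moving inside `U` -/
def ebS (Y U : Submodule F V) (hU : U ≤ Y) : Subgroup (EG Q) where
  carrier := {g | g ∈ Fx Q Y ∧ ∀ x, g.1.1 x + x ∈ U}
  one_mem' := ⟨one_mem _, fun x => by
    show x + x ∈ U
    rw [add_self' F]; exact zero_mem _⟩
  mul_mem' := fun {g h} hg hh => ⟨mul_mem hg.1 hh.1, fun x => by
    have e := mem_Fx.1 hg.1 _ (hU (hh.2 x))
    rw [map_add] at e
    have : (g * h).1.1 x + x = (h.1.1 x + x) + (g.1.1 x + x) := by
      show g.1.1 (h.1.1 x) + x = _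
      rw [eq_sub_of_add_eq e, sub_eq' F]; abel
    rw [this]; exact add_mem (hh.2 x) (hg.2 x)⟩
  inv_mem' := fun {g} hg => ⟨inv_mem hg.1, fun x => by
    have := hg.2 ((g⁻¹).1.1 x)
    rwa [show g.1.1 ((g⁻¹).1.1 x) = x from OG.apply_inv_apply g.1 x, add_comm] at this⟩

theorem eb_sing (hY : perp Q Y = Y) {U : Submodule F V} (hU : U ≤ Y) (h2 : 2 ≤ finrank F U) :
    ∃ u ∈ U, u ≠ 0 ∧ Q u = 0 := by
  have : U ≠ ⊥ := fun e => by rw [e, finrank_bot] at h2; omega
  obtain ⟨a, ha, a0⟩ := (Submodule.ne_bot_iff _).1 this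
  by_cases qa : Q a = 0
  · exact ⟨a, ha, a0, qa⟩
  obtain ⟨b, hb, nb⟩ : ∃ b ∈ U, b ∉ Submodule.span F {a} := by
    by_contra hc
    push Not at hc
    have := Submodule.finrank_mono (show U ≤ Submodule.span F {a} from hc)
    rw [finrank_span_singleton a0] at this
    omega
  haveI : Fact (Nat.Prime 2) := ⟨Nat.prime_two⟩
  obtain ⟨r, hr⟩ := surjective_frobenius F 2 (Q b / Q a)
  rw [frobenius_def] at hr
  refine ⟨r • a + b, add_mem (U.smul_mem _ ha) hb, fun e => nb ?_, ?_⟩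
  · rw [eq_neg_of_add_eq_zero_right e]
    exact neg_mem (Submodule.smul_mem _ _ (Submodule.mem_span_singleton_self a))
  · rw [Q_add, Q_smul, polar_smul_left', (hY.symm ▸ hU hb : b ∈ perp Q Y) a (hU ha), hr,
      div_mul_cancel₀ _ qa]
    linear_combination Q b * two_zero F

theorem eb_card (hQ : ND Q) (hY : perp Q Y = Y) (n : ℕ) : ∀ (U : Submodule F V) (hU : U ≤ Y),
    finrank F U = n + 1 → Nat.card F ^ ((n + 1) * n) ≤ Nat.card (ebS (Q := Q) Y U hU) ^ 2 := by
  haveI : Finite (EG Q) := finite_EG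
  induction n with
  | zero => exact fun U hU _ => by simpa using Nat.one_le_pow _ _ Nat.card_pos
  | succ n ih =>
    intro U hU hn
    obtain ⟨u, hu, u0, qu⟩ := eb_sing hY hU (by omega)
    obtain ⟨x, hx⟩ := hQ.exists_polar_eq u0 1
    let U' : Submodule F V := U ⊓ perp Q (Submodule.span F {x})
    have mU : ∀ w, w ∈ U' ↔ w ∈ U ∧ 𝐟 x w = 0 := fun w => by
      rw [Submodule.mem_inf, mem_perp1]
    have nu : ∀ r : F, r • u ∈ U' → r = 0 := fun r hr => by
      have := ((mU _).1 hr).2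
      rwa [polar_smul_right', polar_comm, hx, mul_one] at this
    have hU' : U' ≤ Y := inf_le_left.trans hU
    have hr : finrank F U' = n + 1 := by
      have e := Submodule.finrank_sup_add_finrank_inf_eq U' (Submodule.span F {u})
      have e1 : U' ⊔ Submodule.span F {u} = U := by
        refine le_antisymm (sup_le inf_le_left ((Submodule.span_singleton_le_iff_mem _ _).2 hu)) fun v hv => ?_
        refine Submodule.mem_sup.2 ⟨v - 𝐟 x v • u, (mU _).2 ⟨sub_mem hv (U.smul_mem _ hu), ?_⟩, 𝐟 x v • u,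
          Submodule.smul_mem _ _ (Submodule.mem_span_singleton_self u), sub_add_cancel _ _⟩
        rw [polar_sub_right, polar_smul_right', polar_comm Q x u, hx]; ring
      have e2 : U' ⊓ Submodule.span F {u} = ⊥ := by
        refine eq_bot_iff.2 fun v hv => ?_
        obtain ⟨r, rfl⟩ := Submodule.mem_span_singleton.1 hv.2
        rw [nu r hv.1, zero_smul]; exact zero_mem _
      rw [e1, e2, finrank_bot, finrank_span_singleton u0] at e
      omega
    have pY : ∀ w ∈ U, w ∈ perp Q Y := fun w hw => hY.symm ▸ hU hw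
    have ok : ∀ w ∈ U', Ok Q u w := fun w hw => ⟨qu, pY w hw.1 u (hU hu)⟩
    have mS : ∀ w ∈ U', sg Q u w ∈ ebS (Q := Q) Y U hU := fun w hw =>
      ⟨sg_mem_Fx (pY u hu) (pY w hw.1), fun y => by
        rw [sg_apply (ok w hw), add_comm, ← add_assoc, ← add_assoc, add_self' F, zero_add]
        exact add_mem (U.smul_mem _ hu) (U.smul_mem _ hw.1)⟩
    have triv : ∀ w ∈ U', sg Q u w ∈ ebS (Q := Q) Y U' hU' → w = 0 := fun w hw hs => by
      by_cases c : w ∈ Submodule.span F {u}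
      · obtain ⟨r, rfl⟩ := Submodule.mem_span_singleton.1 c
        rw [nu r hw, zero_smul]
      · obtain ⟨y, hy, e⟩ := exists_perp hQ c 1
        have := hs.2 y
        rw [sg_apply_perp (ok w hw) (by rw [polar_comm]; exact mem_perp1.1 hy), add_comm, ← add_assoc,
          add_self' F, zero_add, polar_comm, e] at this
        exact absurd (nu 1 this) one_ne_zero
    let f : U' × ebS (Q := Q) Y U' hU' → ebS (Q := Q) Y U hU := fun p =>
      ⟨sg Q u p.1.1 * p.2.1, mul_mem (mS _ p.1.2) ⟨p.2.2.1, fun y => (p.2.2.2 y).1⟩⟩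
    have hf : Function.Injective f := by
      rintro ⟨⟨w, hw⟩, ⟨g, hg⟩⟩ ⟨⟨w', hw'⟩, ⟨g', hg'⟩⟩ e
      have e : sg Q u w * g = sg Q u w' * g' := congrArg Subtype.val e
      have e1 : sg Q u (w' + w) = g' * g⁻¹ := by
        rw [sg_add (ok _ hw') (ok _ hw), eq_mul_inv_iff_mul_eq, mul_assoc, e, ← mul_assoc, sg_sq, one_mul]
      have e2 := triv _ (add_mem hw' hw) (e1 ▸ mul_mem hg' (inv_mem hg))
      obtain rfl : w = w' := by rw [← neg_eq' F w']; exact eq_neg_of_add_eq_zero_right e2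
      obtain rfl : g = g' := mul_left_cancel e
      rfl
    have hc := Nat.card_le_card_of_injective f hf
    rw [Nat.card_prod, Module.natCard_eq_pow_finrank (K := F) (V := U'), hr] at hc
    calc Nat.card F ^ ((n + 1 + 1) * (n + 1))
        = (Nat.card F ^ (n + 1)) ^ 2 * Nat.card F ^ ((n + 1) * n) := by ring
      _ ≤ (Nat.card F ^ (n + 1)) ^ 2 * Nat.card (ebS (Q := Q) Y U' hU') ^ 2 :=
        Nat.mul_le_mul_left _ (ih U' hU' hr)
      _ ≤ _ := by rw [← mul_pow]; exact Nat.pow_le_pow_left hc 2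

/-- On `Y` the form `Q` is the square of a linear form (`F` is perfect), so `Y` has a basis
`y₀, …, y_k` with `y₀, …, y_{k-1}` singular.  The elements `∏ᵢ sg yᵢ wᵢ`, `wᵢ ∈ ⟨y_j, j > i⟩`, lie
in `Fx Q Y` and are distinct: the map is a homomorphism, and if the product is `1` and `i` is minimal
with `wᵢ ≠ 0`, apply it to `x` with `𝐟 x y_j = δ_ij` (`exists_dual`): `x ↦ x + wᵢ + Q wᵢ • yᵢ`.
(Or induct: for `u ∈ U` singular, `U = ⟨u⟩ ⊕ U'`, the subgroup `{g ∈ Fx Q Y | mov g ≤ U}` contains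
`{mov g ≤ U'}` and the `sg u w`, `w ∈ U'`, with trivial intersection.) -/
theorem card_Fx (hQ : ND Q) (hY : perp Q Y = Y) (hk : finrank F Y = k + 1) :
    Nat.card F ^ ((k + 1) * k) ≤ Nat.card (Fx Q Y) ^ 2 := by
  haveI : Finite (EG Q) := finite_EG
  exact (eb_card hQ hY k Y le_rfl hk).trans
    (Nat.pow_le_pow_left (Subgroup.card_le_of_le
      (show ebS (Q := Q) Y Y le_rfl ≤ Fx Q Y from fun g hg => hg.1)) 2)

/-- `mov s ≤ (mov s)^⊥` (`polar_mov_eq_zero`), `s` fixes `(mov s)^⊥ ≥ Y` pointwise; `B = Fx Q Y`. -/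
theorem exists_big (hQ : ND Q) (hk : finrank F V = 2 * (k + 1)) {s : OG Q} (hs : s * s = 1) :
    ∃ B : Subgroup (EG Q), El B ∧ Nat.card F ^ ((k + 1) * k) ≤ Nat.card B ^ 2 ∧
      ∀ b ∈ B, Commute s b.1 := by
  obtain ⟨Y, h1, hY⟩ := exists_lag (Q := Q) (M := mov s) fun x hx y hy =>
    polar_mov_eq_zero (two_zero F) hs hy hx
  have hr := finrank_perp hQ Y
  rw [hY] at hr
  have fs : ∀ y ∈ Y, s.1 y = y := fun y hy => fix_of_polar_mov hQ s fun v hv =>
    (hY.symm ▸ h1 hv : v ∈ perp Q Y) y hy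
  exact ⟨Fx Q Y, fun g hg => Subtype.ext (lag_mul hY (mem_Fx.1 hg) (mem_Fx.1 hg)).2,
    card_Fx hQ hY (by omega), fun b hb => (lag_mul hY fs (mem_Fx.1 hb)).1⟩

end Cfsg.Agent.StdO
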