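import Cfsg.Agent.StdO.Rig
import Cfsg.Agent.FinS.Def2

/-! The end of the field case of S3130: definitions. -/

set_option autoImplicit false

namespace Cfsg.Agent.StdO

open Subgroup Module QuadraticMap Cfsg.Agent.Class.Orth Cfsg.Agent.KSG Cfsg.Agent.PLocal.Amb
  Cfsg.Agent.Lyons

variable {F V : Type*} [Field F] [AddCommGroup V] [Module F V] {G : Type*} [Group G]
  {Q : QuadraticForm F V}

/-- `s - 1` has a totally singular image of half the dimension (type `a_k` in dimension `2 k`) -/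
structure MT (s : OG Q) : Prop where
  dim : 2 * finrank F (mov s) = finrank F V
  ts : TS Q (mov s)

/-- a semilinear, not linear, isometry of order two -/
structure FI (T : SS Q) : Prop where
  c : T.c = 1
  sq : T * T = 1
  ne : T.σ ≠ 1

/-- the exceptional class of involutions -/
structure XD (T : SS Q) (x : EG Q) (u n : V) : Prop where
  mt : MT x.1
  sq : x * x = 1
  ok : Ok Q u n
  u0 : u ≠ 0
  qn : Q n ≠ 0
  w : x * cE T x = sg Q u n
  com : Commute x (cE T x)
  cls : ∀ s : EG Q, s * s = 1 → MT s.1 → ∃ g, s = g * x * g⁻¹ ∨ s = g * cE T x * g⁻¹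
  prod : x ∈ closure {z | ∃ p ∈ mov x.1, ∃ q ∈ mov x.1, z = sg Q p q}

/-- The end configuration: `G₀ = R.range`, `t` acts as the semilinear involution `T`, the
`2`-elements of `N(G₀)` are conjugate to semilinear ones, `t` fixes a unique coset of `N(G₀)`. -/
structure FE (R : EG Q →* G) (t : G) (T : SS Q) : Prop extends Rp R where
  plus : Class.QF.IsPlus Q
  tt : t * t = 1
  ac : Ac R t T
  fi : FI T
  oddC : ∀ k ∈ 𝐂[R.range], Odd (orderOf k)
  semi : ∀ n ∈ 𝐍[R.range], StdZ.Tw n → ∃ k ∈ 𝐍[R.range], ∃ T', Ac R (k * n * k⁻¹) T'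
  uf : ∀ g, g * t * g⁻¹ ∈ 𝐍[R.range] → g ∈ 𝐍[R.range]

end Cfsg.Agent.StdO
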