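import Cfsg.Agent.StdO.EDef

/-! Involutions of `O(Q)` which are not of type `a_k` are conjugate into the centralizer of `T`. -/

set_option autoImplicit false
set_option linter.unusedSectionVars false
set_option linter.unusedVariables false

namespace Cfsg.Agent.StdO

open Subgroup Module QuadraticMap Cfsg.Agent.Class.Orth Cfsg.Agent.KSG Cfsg.Agent.PLocal.Amb
  Cfsg.Agent.Lyons
open Cfsg.Agent.StdL (cjh El)
open scoped commutatorElement

variable {F V : Type*} [Field F] [Finite F] [CharP F 2] [AddCommGroup V] [Module F V]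
  [FiniteDimensional F V] {Q : QuadraticForm F V} {G : Type*} [Group G] [Finite G]

local notation "𝐟" => polar Q


variable {T : SS Q}

section
variable {F₀ V₀ : Type*} [Field F₀] [Finite F₀] [CharP F₀ 2] [AddCommGroup V₀] [Module F₀ V₀]
  [FiniteDimensional F₀ V₀] {Q₀ : QuadraticForm F₀ V₀} {j : F₀ →+* F} {e : V₀ → V} {l : F}

theorem mov_extO (h : FormExt j e Q₀ Q l) (g : OG Q₀) :
    mov (h.extO g) = Submodule.span F (e '' (mov g)) := by
  have k : ∀ v, movMap (h.extO g) (e v) = e (movMap g v) := fun v => by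
    rw [movMap_apply, movMap_apply, h.extO_apply, h.sub]
  refine le_antisymm ?_ (Submodule.span_le.2 ?_)
  · rintro _ ⟨x, rfl⟩
    refine h.induction (fun x => movMap (h.extO g) x ∈ Submodule.span F (e '' (mov g)))
      (fun v => ?_) (fun x y hx hy => ?_) (fun a x hx => ?_) x
    · rw [k]; exact Submodule.subset_span ⟨_, ⟨v, rfl⟩, rfl⟩
    · rw [map_add]; exact add_mem hx hy
    · rw [map_smul]; exact Submodule.smul_mem _ _ hx
  · rintro _ ⟨_, ⟨v, rfl⟩, rfl⟩
    exact ⟨e v, k v⟩

theorem ee_finrank_le (h : FormExt j e Q₀ Q l) (U : Submodule F₀ V₀) :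
    finrank F (Submodule.span F (e '' U)) ≤ finrank F₀ U := by
  let b := Module.finBasis F₀ U
  have h1 : Submodule.span F (e '' U) ≤ Submodule.span F (Set.range fun i => e (b i)) := by
    rw [Submodule.span_le]
    rintro _ ⟨u, hu, rfl⟩
    have := congrArg Subtype.val (b.sum_repr ⟨u, hu⟩)
    simp only [AddSubmonoidClass.coe_finsetSum, SetLike.val_smul] at this
    rw [← this, h.sum]
    exact Submodule.sum_mem _ fun i _ => by
      rw [h.smul]; exact Submodule.smul_mem _ _ (Submodule.subset_span ⟨i, rfl⟩)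
  exact (Submodule.finrank_mono h1).trans
    ((finrank_range_le_card (R := F) fun i => e (b i)).trans (Fintype.card_fin _).le)

/-- a basis of `U` extends to a basis of `V₀` (`LinExt.exists_basis`) -/
theorem finrank_span_ext (h : FormExt j e Q₀ Q l) (U : Submodule F₀ V₀) :
    finrank F (Submodule.span F (e '' U)) = finrank F₀ U := by
  obtain ⟨W, hW⟩ := U.exists_isCompl
  have h1 : Submodule.span F (e '' U) ⊔ Submodule.span F (e '' W) = ⊤ := by
    rw [eq_top_iff, ← h.span, Submodule.span_le]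
    rintro _ ⟨v, rfl⟩
    obtain ⟨u, hu, w, hw, rfl⟩ := Submodule.mem_sup.1 (hW.sup_eq_top.ge (Submodule.mem_top (x := v)))
    rw [h.add]
    exact Submodule.add_mem_sup (Submodule.subset_span ⟨u, hu, rfl⟩)
      (Submodule.subset_span ⟨w, hw, rfl⟩)
  have h2 := Submodule.finrank_sup_add_finrank_inf_eq (Submodule.span F (e '' U))
    (Submodule.span F (e '' W))
  rw [h1, finrank_top, ← h.rank, ← Submodule.finrank_add_eq_of_isCompl hW] at h2
  have h3 := ee_finrank_le h U
  have h4 := ee_finrank_le h W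
  omega

theorem ts_span_ext (h : FormExt j e Q₀ Q l) (U : Submodule F₀ V₀) :
    TS Q (Submodule.span F (e '' U)) ↔ TS Q₀ U := by
  refine ⟨fun hT u hu => ?_, fun hT => ?_⟩
  · by_contra c
    exact h.q_ne c (hT _ (Submodule.subset_span ⟨u, hu, rfl⟩))
  have h2 : Submodule.span F (e '' U) ≤ perp Q (Submodule.span F (e '' U)) :=
    Submodule.span_le.2 (by
      rintro _ ⟨u, hu, rfl⟩
      exact mem_perp_span.2 (by
        rintro _ ⟨w, hw, rfl⟩
        rw [h.pol, hT.polar_eq hw hu, map_zero, mul_zero]))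
  intro x hx
  induction hx using Submodule.span_induction with
  | mem x hx => obtain ⟨u, hu, rfl⟩ := hx; rw [h.q, hT u hu, map_zero, mul_zero]
  | zero => exact Q.map_zero
  | add x y hx hy i1 i2 => rw [Q_add, i1, i2, h2 hy x hx, add_zero, add_zero]
  | smul a x _ i1 => rw [Q_smul, i1, mul_zero]

end

theorem ee_exists_ts (hQ : ND Q) {k : ℕ} (hk : 2 * k < finrank F V) :
    ∃ M : Submodule F V, TS Q M ∧ finrank F M = k := by
  have : ∃ v : Fin k → V, TI Q v := by
    induction k with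
    | zero => exact ⟨Fin.elim0, linearIndependent_empty_type, fun i => i.elim0, fun i => i.elim0⟩
    | succ k ih =>
      obtain ⟨v, hv⟩ := ih (by omega)
      obtain ⟨s, hs⟩ := hv.exists_snoc hQ (by omega)
      exact ⟨_, hs⟩
  obtain ⟨v, hv⟩ := this
  exact ⟨_, hv.ts, by rw [finrank_span_eq_card hv.li, Fintype.card_fin]⟩

/-- Descend to `Q₀` over the fixed field.  Let `r = finrank (mov s)`, `2 r ≤ n`
(`two_mul_finrank_mov_le`).  If `mov s` is totally singular then `r` is even and `2 r + 2 ≤ n`; take a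
totally singular `M₀` of dimension `r` (`TI.exists_snoc`, `TI.ts`) and `ND.exists_invol_TS`.  Otherwise
`r ≥ 1`, take `M₀` of dimension `r - 1` and `ND.exists_invol_not_TS`.  Then `extO`, `Desc.commute_ext`,
`ND.isConj_iff_invol`, `ND.exists_fixed_nonsingular`, `exists_commutator_conj`, `Dm.comm_eq`. -/
theorem FI.lin (h : FI T) (hQ : Dm Q) {s : OG Q} (hs : s * s = 1) (hm : ¬ MT s) :
    ∃ g : EG Q, Commute T (SS.oO Q (g.1 * s * g.1⁻¹)) := by
  have s2 : T.σ * T.σ = 1 := congrArg SS.σ h.sq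
  have o2 : orderOf T.σ = 2 := orderOf_eq_prime (by rw [pow_two, s2]) h.ne
  obtain ⟨e, Q₀, l, D⟩ := exists_desc (t := T) (by rw [o2, pow_two, h.sq])
    (j := (fixF T.σ).subtype) fun a => ⟨fun h => ⟨⟨a, h⟩, rfl⟩, by rintro ⟨a, rfl⟩; exact a.2⟩
  have nd := D.toFormExt.nd hQ.nd
  have hr := hQ.nd.two_mul_finrank_mov_le (two_zero F) hs
  have rk := D.rank
  obtain ⟨s₀, s1, d, ts⟩ : ∃ s₀ : OG Q₀, s₀ * s₀ = 1 ∧
      finrank (fixF T.σ) (mov s₀) = finrank F (mov s) ∧ (TS Q₀ (mov s₀) ↔ TS Q (mov s)) := by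
    by_cases c : TS Q (mov s)
    · have lt : 2 * finrank F (mov s) < finrank F V := lt_of_le_of_ne hr fun e => hm ⟨e, c⟩
      obtain ⟨M, m1, m2⟩ := ee_exists_ts nd (k := finrank F (mov s)) (by omega)
      obtain ⟨s₀, s1, rfl⟩ := nd.exists_invol_TS (two_zero _) m1 (m2 ▸ hQ.nd.even_of_TS_mov c)
      exact ⟨s₀, s1, m2, iff_of_true m1 c⟩
    · have p : finrank F (mov s) ≠ 0 := fun z => c (by
        rw [Submodule.finrank_eq_zero.1 z]
        rintro _ rfl
        exact Q.map_zero)
      obtain ⟨M, m1, m2⟩ := ee_exists_ts nd (k := finrank F (mov s) - 1) (by omega)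
      obtain ⟨s₀, s1, d, n⟩ := nd.exists_invol_not_TS (two_zero _) m1 (by omega)
      exact ⟨s₀, s1, by omega, iff_of_false n c⟩
  have k2 : D.toFormExt.extO s₀ * D.toFormExt.extO s₀ = 1 := by rw [← map_mul, s1, map_one]
  obtain ⟨g, hg, e1⟩ := exists_commutator_conj hQ.nd hQ.reflGen (two_zero F)
    ((hQ.nd.isConj_iff_invol (two_zero F) hs k2).2 (by
      rw [mov_extO, finrank_span_ext D.toFormExt, ts_span_ext D.toFormExt]
      exact ⟨d.symm, ts.symm⟩))
    (hQ.nd.exists_fixed_nonsingular (two_zero F) hs fun c => hm ⟨c.1, c.2⟩)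
  refine ⟨⟨g, hQ.comm_eq ▸ hg⟩, ?_⟩
  rw [e1, D.toFormExt.oO_extO]
  exact D.commute_ext _

end Cfsg.Agent.StdO
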