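import Cfsg.Agent.StdO.BasB
import Cfsg.Agent.KSG.AutOrth11

/-! Extension of scalars to `E = F(ε)`, `ε² = ε + d`. -/

set_option autoImplicit false
set_option linter.unusedSectionVars false
set_option linter.unusedVariables false

namespace Cfsg.Agent.StdO

open Subgroup Module QuadraticMap Cfsg.Agent.Class.Orth Cfsg.Agent.KSG Cfsg.Agent.PLocal.Amb
  Cfsg.Agent.Lyons
open Cfsg.Agent.StdL (cjh)
open scoped commutatorElement

variable {F V : Type*} [Field F] [Finite F] [CharP F 2] [AddCommGroup V] [Module F V]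
  [FiniteDimensional F V] {Q : QuadraticForm F V} {G : Type*} [Group G] [Finite G]
  {ι : EG Q →* G} {t : G}

local notation "𝐟" => polar Q

/-- `W = V ⊗ E`, `T` is the Galois involution -/
structure Ex (Q : QuadraticForm F V) {E W : Type*} [Field E] [AddCommGroup W] [Module E W]
    {Q' : QuadraticForm E W} (j : F →+* E) (e : V → W) (ε : E) (T : SS Q') (d : F) : Prop where
  nd : ND Q'
  desc : Desc T j e Q 1
  εε : ε * ε = ε + j d
  σε : T.σ ε = ε + 1
  TT : T * T = 1
  c : T.c = 1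
  dec : ∀ y : W, ∃ v w, y = e v + ε • e w
  uniq : ∀ v w, e v + ε • e w = 0 → v = 0 ∧ w = 0
  decE : ∀ s : E, ∃ a b, s = j a + ε * j b
  uniqE : ∀ a b, j a + ε * j b = 0 → a = 0 ∧ b = 0

/-- the index of a basis vector -/
def ix {k : ℕ} (a : Fin k ⊕ Fin k) : Fin k := a.elim id id

/-- `j : F →+* E` exists (finite fields, `card E = q²`), `σ = (· ^ q)` has fixed field `j F`, and
`X² + X + j d` has a root `ε` in `E` with `σ ε = ε + 1` (`x ↦ x² + x` has image of index two in `F`
and in `E`; for `a ∈ E` with `a + a^q = 1`, `a² + a` is fixed by `σ` and has no root in `F`). -/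
theorem exists_eps {E : Type*} [Field E] [Finite E] (hE : Nat.card E = Nat.card F ^ 2) {d : F}
    (hd : ∀ a : F, a * a + a ≠ d) : ∃ (j : F →+* E) (σ : E ≃+* E) (ε : E), ε * ε = ε + j d ∧
      σ ε = ε + 1 ∧ (∀ s, σ s = s ↔ ∃ a, j a = s) ∧ σ * σ = 1 ∧
      ∀ a : F, ∃ s : E, s * s + s = j a := by
  have := Fintype.ofFinite F
  have := Fintype.ofFinite E
  obtain ⟨n, -, hn⟩ := FiniteField.card F 2
  have hE' : Fintype.card E = 2 ^ (2 * (n : ℕ)) := by
    rw [← Nat.card_eq_fintype_card, hE, Nat.card_eq_fintype_card, hn, ← pow_mul, mul_comm]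
  have : Finite (RingAut E) := Finite.of_injective _ DFunLike.coe_injective
  obtain ⟨σ, hσ⟩ := exists_prime_orderOf_dvd_card' (G := RingAut E) 2
    (by rw [(card_ringAut E hE').1]; exact dvd_mul_right _ _)
  obtain ⟨j, hj⟩ := exists_ringHom_fixed (F₀ := F) hE' σ
    (by rw [hσ, hn, Nat.mul_div_cancel_left _ two_pos])
  have : CharP E 2 := charP_of_injective_ringHom j.injective 2
  have h2 : (2 : E) = 0 := CharTwo.two_eq_zero
  have h2' : (2 : F) = 0 := CharTwo.two_eq_zero
  have σσ : σ * σ = 1 := by rw [← pow_two, ← hσ, pow_orderOf_eq_one]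
  have σσ' : ∀ x, σ (σ x) = x := fun x => congrArg (fun τ : RingAut E => τ x) σσ
  obtain ⟨b, hb⟩ : ∃ b, b + σ b ≠ 0 := by
    by_contra hc
    push Not at hc
    have : σ = 1 := RingEquiv.ext fun x => by
      show σ x = x
      linear_combination hc x - x * h2
    rw [this, orderOf_one] at hσ
    omega
  have h1 : σ (b / (b + σ b)) = b / (b + σ b) + 1 := by
    rw [map_div₀, map_add, σσ', add_comm (σ b) b]
    field_simp
    linear_combination -b * h2
  generalize b / (b + σ b) = x at h1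
  obtain ⟨d₀, h0⟩ := (hj (x * x + x)).1 (by
    rw [map_add, map_mul, h1]; linear_combination (x + 1) * h2)
  have hd₀ : ∀ t : F, t ^ 2 + 1 * t + d₀ ≠ 0 := fun t ht => by
    have h3 := congrArg j ht
    rw [map_add, map_add, map_pow, one_mul, h0, map_zero] at h3
    have h4 : (x + j t) * (x + j (t + 1)) = 0 := by
      rw [map_add, map_one]; linear_combination h3 + x * j t * h2
    have h5 : ∀ u, x + j u ≠ 0 := fun u hu => by
      have h6 := congrArg σ hu
      rw [map_add, h1, (hj _).2 ⟨u, rfl⟩, map_zero] at h6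
      exact one_ne_zero (α := E) (by linear_combination h6 - hu)
    exact (mul_eq_zero.1 h4).elim (h5 _) (h5 _)
  have key : ∀ a : F, (∀ t : F, t * t + t ≠ a) →
      ∃ ε : E, ε * ε = ε + j a ∧ σ ε = ε + 1 := fun a ha => by
    obtain ⟨u, v, -, e1, e2⟩ := Class.QF.exists_st (a := 1) (b := a)
      (fun t ht => ha t (by linear_combination ht - a * h2')) hd₀
    obtain rfl : v = 1 := by linear_combination e1 - u * h2'
    refine ⟨x + j u, ?_, by rw [map_add, h1, (hj _).2 ⟨u, rfl⟩]; ring⟩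
    rw [← e2]
    simp only [map_add, map_mul, map_pow, map_one, h0]
    linear_combination (x * j u - x - j u) * h2
  obtain ⟨ε, e1, e2⟩ := key d hd
  refine ⟨j, σ, ε, e1, e2, hj, σσ, fun a => ?_⟩
  by_cases ha : ∃ t : F, t * t + t = a
  · obtain ⟨t, rfl⟩ := ha
    exact ⟨j t, by simp⟩
  · obtain ⟨ε, e1, -⟩ := key a fun t ht => ha ⟨t, ht⟩
    exact ⟨ε, by linear_combination e1 + ε * h2⟩

theorem decE_of {E : Type*} [Field E] {j : F →+* E} {σ : E ≃+* E} {ε : E} (σε : σ ε = ε + 1)
    (hj : ∀ s, σ s = s ↔ ∃ a, j a = s) (σσ : σ * σ = 1) (s : E) : ∃ a b, s = j a + ε * j b := by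
  have : CharP E 2 := charP_of_injective_ringHom j.injective 2
  have h2 : (2 : E) = 0 := CharTwo.two_eq_zero
  have σσ' : ∀ x, σ (σ x) = x := fun x => congrArg (fun τ : RingAut E => τ x) σσ
  obtain ⟨b, hb⟩ := (hj (s + σ s)).1 (by rw [map_add, σσ', add_comm])
  obtain ⟨a, ha⟩ := (hj (s + ε * j b)).1 (by
    rw [map_add, map_mul, σε, (hj _).2 ⟨b, rfl⟩]; linear_combination hb + σ s * h2)
  exact ⟨a, b, by linear_combination -ha - ε * j b * h2⟩

/-- the Galois involution is `σ` followed by the permutation `π` of the coordinates -/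
theorem ex_of {k : ℕ} (hk : finrank F V = 2 * (k + 1)) {E : Type*} [Field E] {d : F} {j : F →+* E}
    {σ : E ≃+* E} {ε : E} (εε : ε * ε = ε + j d) (σε : σ ε = ε + 1)
    (hj : ∀ s, σ s = s ↔ ∃ a, j a = s) (σσ : σ * σ = 1)
    {π : Fin (k + 1) ⊕ Fin (k + 1) → Fin (k + 1) ⊕ Fin (k + 1)} (ππ : Function.Involutive π)
    (hπ : ∀ a, ix a ≠ Fin.last k → π a = a)
    (πq : ∀ w, quadFormPlus (k + 1) E (fun a => w (π a)) = quadFormPlus (k + 1) E w)
    {e : V → Fin (k + 1) ⊕ Fin (k + 1) → E} (add : ∀ v w, e (v + w) = e v + e w)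
    (smul : ∀ (a : F) v, e (a • v) = j a • e v) (q : ∀ v, quadFormPlus (k + 1) E (e v) = j (Q v))
    (fix : ∀ y : Fin (k + 1) ⊕ Fin (k + 1) → E, (∀ a, σ (y (π a)) = y a) ↔ ∃ v, e v = y) :
    ∃ (j : F →+* E) (e : V → Fin (k + 1) ⊕ Fin (k + 1) → E) (ε : E) (T : SS (plusQF (k + 1) E))
      (b : Fin (k + 1) ⊕ Fin (k + 1) → V), Ex Q j e ε T d ∧
        ∀ a, ix a ≠ Fin.last k → e (b a) = Pi.single a 1 := by
  have : CharP E 2 := charP_of_injective_ringHom j.injective 2
  have h2 : (2 : E) = 0 := CharTwo.two_eq_zero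
  have σσ' : ∀ x, σ (σ x) = x := fun x => congrArg (fun τ : RingAut E => τ x) σσ
  have hi : Function.Involutive fun (w : Fin (k + 1) ⊕ Fin (k + 1) → E) a => σ (w (π a)) :=
    fun w => funext fun a => by simp only [σσ', ππ a]
  let T : SS (plusQF (k + 1) E) := ⟨hi.toPerm, σ, 1, ⟨fun x y => funext fun a => map_add σ _ _,
    fun c x => funext fun a => map_mul σ _ _⟩, one_ne_zero, fun w => by
      rw [one_mul, plusQF_apply, plusQF_apply, ← πq w]
      simp [quadFormPlus]⟩
  have dec : ∀ y, ∃ v w, y = e v + ε • e w := fun y => by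
    obtain ⟨w, hw⟩ := (fix (y + fun a => σ (y (π a)))).1 fun a => by
      simp only [Pi.add_apply, map_add, σσ', ππ a, add_comm]
    obtain ⟨v, hv⟩ := (fix (y + ε • e w)).1 fun a => by
      have h3 := congrFun hw a
      simp only [Pi.add_apply, Pi.smul_apply, smul_eq_mul, map_add, map_mul, σε,
        (fix _).2 ⟨w, rfl⟩ a] at h3 ⊢
      linear_combination h3 + σ (y (π a)) * h2
    refine ⟨v, w, funext fun a => ?_⟩
    rw [hv]
    simp only [Pi.add_apply, Pi.smul_apply, smul_eq_mul]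
    linear_combination -(ε * e w a) * h2
  have L : LinExt j e := ⟨add, smul, eq_top_iff.2 fun y _ => by
    obtain ⟨v, w, rfl⟩ := dec y
    exact add_mem (Submodule.subset_span ⟨v, rfl⟩)
      (Submodule.smul_mem _ _ (Submodule.subset_span ⟨w, rfl⟩)), by
    rw [hk, finrank_fintype_fun_eq_card, Fintype.card_sum, Fintype.card_fin, two_mul]⟩
  have hb : ∀ a, ix a ≠ Fin.last k → ∃ v, e v = Pi.single a 1 := fun a ha => (fix _).1 fun a' => by
    by_cases h : a' = a
    · rw [h, hπ a ha, Pi.single_eq_same, map_one]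
    · rw [Pi.single_eq_of_ne h, Pi.single_eq_of_ne fun h' => h (by rw [← ππ a', h', hπ a ha]),
        map_zero]
  choose! b hb using hb
  refine ⟨j, e, ε, T, b, ⟨nd_plusQF _ _, ⟨⟨L, one_ne_zero, fun v => by rw [one_mul, plusQF_apply, q]⟩,
    fun v => funext ((fix _).2 ⟨v, rfl⟩), hj⟩, εε, σε,
    SS.ext (Equiv.ext hi) σσ (by show 1 * σ 1 = 1; simp), rfl, dec, fun v w h => ?_,
    decE_of σε hj σσ, fun a b h => ?_⟩, hb⟩
  · have h3 : e w = 0 := funext fun a => by
      have h4 := congrArg σ (congrFun h (π a))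
      have h5 := congrFun h a
      simp only [Pi.add_apply, Pi.smul_apply, smul_eq_mul, map_add, map_mul, σε, Pi.zero_apply,
        map_zero, (fix _).2 ⟨w, rfl⟩ a, (fix _).2 ⟨v, rfl⟩ a] at h4 h5 ⊢
      linear_combination h4 - h5
    rw [h3, smul_zero, add_zero] at h
    exact ⟨L.injective (h.trans L.zero.symm), L.injective (h3.trans L.zero.symm)⟩
  · have h4 := congrArg σ h
    rw [map_add, map_mul, σε, (hj _).2 ⟨a, rfl⟩, (hj _).2 ⟨b, rfl⟩, map_zero] at h4
    have h5 : j b = 0 := by linear_combination h4 - h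
    rw [h5, mul_zero, add_zero] at h
    exact ⟨(map_eq_zero j).1 h, (map_eq_zero j).1 h5⟩

/-- `exists_hypSys_anisotropic` gives a hyperbolic system `p i, p' i` of size `k` or `k - 1`; use the
first `k - 1` pairs.  Their orthogonal complement is a non-degenerate plane with basis `x, y`,
`𝐟 x y = 1`.  Over `E` the form `Q x X² + X Y + Q y Y²` factors as `(a X + r Y)(b X + s Y)` with
`a s + b r = 1` (last clause of `exists_eps`).  Define the additive map `e` on the basis
`p i ↦ single (inl i)`, `p' i ↦ single (inr i)`, `x ↦ a e_k + b f_k`, `y ↦ r e_k + s f_k`,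
`j`-semilinearly; `T (e v + ε e w) = e v + (ε + 1) e w`. -/
theorem Dm.exists_ex (h : Dm Q) {k : ℕ} (hk : finrank F V = 2 * (k + 1)) {E : Type*} [Field E]
    [Finite E] (hE : Nat.card E = Nat.card F ^ 2) {d : F} (hd : ∀ a : F, a * a + a ≠ d) :
    ∃ (j : F →+* E) (e : V → Fin (k + 1) ⊕ Fin (k + 1) → E) (ε : E) (T : SS (plusQF (k + 1) E))
      (b : Fin (k + 1) ⊕ Fin (k + 1) → V), Ex Q j e ε T d ∧
        ∀ a, ix a ≠ Fin.last k → e (b a) = Pi.single a 1 := by
  obtain ⟨j, σ, ε, εε, σε, hj, σσ, -⟩ := exists_eps hE hd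
  have hσ : ∀ a, σ (j a) = j a := fun a => (hj _).2 ⟨a, rfl⟩
  have hQ := (nd_iff Q).1 h.nd
  by_cases hp : Class.QF.IsPlus Q
  · obtain ⟨g, hg⟩ := hp.exists_equiv hQ hk
    refine ex_of hk εε σε hj σσ (π := id) (fun _ => rfl) (fun _ _ => rfl) (fun _ => rfl)
      (e := fun v a => j (g v a)) (fun v w => funext fun a => by simp)
      (fun a v => funext fun i => by simp) (fun v => by rw [← hg]; simp [quadFormPlus])
      fun y => ⟨fun hy => ?_, ?_⟩
    · choose x hx using fun a => (hj _).1 (hy a)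
      exact ⟨g.symm x, funext fun a => by simpa using hx a⟩
    · rintro ⟨v, rfl⟩ a
      exact hσ _
  have : CharP E 2 := charP_of_injective_ringHom j.injective 2
  have h2 : (2 : E) = 0 := CharTwo.two_eq_zero
  have h2' : (2 : F) = 0 := CharTwo.two_eq_zero
  obtain ⟨g, hg⟩ := Class.QF.exists_equiv_minus hQ hp (k := k) hk (a := 1) (b := d)
    ((Class.QF.aniso_iff_noroot 1 d).2 fun t ht => hd t (by linear_combination ht - d * h2'))
  have s1 : ∀ i : Fin k, Equiv.swap (Sum.inl (Fin.last k)) (Sum.inr (Fin.last k))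
      (Sum.inl i.castSucc : Fin (k + 1) ⊕ Fin (k + 1)) = Sum.inl i.castSucc := fun i =>
    Equiv.swap_apply_of_ne_of_ne (by simp [Fin.castSucc_ne_last]) (by simp)
  have s2 : ∀ i : Fin k, Equiv.swap (Sum.inl (Fin.last k)) (Sum.inr (Fin.last k))
      (Sum.inr i.castSucc : Fin (k + 1) ⊕ Fin (k + 1)) = Sum.inr i.castSucc := fun i =>
    Equiv.swap_apply_of_ne_of_ne (by simp) (by simp [Fin.castSucc_ne_last])
  refine ex_of hk εε σε hj σσ (π := Equiv.swap (.inl (Fin.last k)) (.inr (Fin.last k)))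
    (Equiv.swap_apply_self _ _) (fun a ha => Equiv.swap_apply_of_ne_of_ne
      (fun e => ha (by rw [e]; rfl)) fun e => ha (by rw [e]; rfl)) (fun w => ?_)
    (e := fun v => Sum.elim
      (Fin.snoc (α := fun _ => E) (fun i => j (g v (.inl (.inl i))))
        (j (g v (.inr 0)) + ε * j (g v (.inr 1))))
      (Fin.snoc (α := fun _ => E) (fun i => j (g v (.inl (.inr i))))
        (j (g v (.inr 0)) + (ε + 1) * j (g v (.inr 1)))))
    (fun v w => funext fun a => ?_) (fun c v => funext fun a => ?_) (fun v => ?_)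
    fun y => ⟨fun hy => ?_, ?_⟩
  · simp only [quadFormPlus, Fin.sum_univ_castSucc, s1, s2, Equiv.swap_apply_left,
      Equiv.swap_apply_right, mul_comm]
  · rcases a with i | i <;> induction i using Fin.lastCases <;> simp <;> ring
  · rcases a with i | i <;> induction i using Fin.lastCases <;> simp <;> ring
  · rw [← hg]
    simp only [quadFormPlus, quadFormMinus, Fin.sum_univ_castSucc, Sum.elim_inl, Sum.elim_inr,
      Fin.snoc_castSucc, Fin.snoc_last, map_add, map_mul, map_pow, map_sum, map_one]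
    linear_combination j (g v (.inr 1)) ^ 2 * εε +
      ε * (j (g v (.inr 0)) * j (g v (.inr 1)) + j (g v (.inr 1)) ^ 2) * h2
  · obtain ⟨a, b, hab⟩ := decE_of σε hj σσ (y (.inl (Fin.last k)))
    choose x1 hx1 using fun i : Fin k => (hj _).1 (s1 i ▸ hy (.inl i.castSucc))
    choose x2 hx2 using fun i : Fin k => (hj _).1 (s2 i ▸ hy (.inr i.castSucc))
    have h3 := hy (.inr (Fin.last k))
    rw [Equiv.swap_apply_right, hab, map_add, map_mul, σε, hσ, hσ] at h3
    refine ⟨g.symm (Sum.elim (Sum.elim x1 x2) ![a, b]), funext fun c => ?_⟩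
    rcases c with i | i <;> induction i using Fin.lastCases <;> simp [hx1, hx2, hab, h3]
  · rintro ⟨v, rfl⟩ c
    rcases c with i | i <;> induction i using Fin.lastCases <;> simp [s1, s2, hσ, σε]
    exact Or.inl (by linear_combination h2)

end Cfsg.Agent.StdO
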