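import Cfsg.Agent.StdO.FldA
import Cfsg.Agent.StdO.Act

/-! The groups `W_u = {X(u, ŷ)}`, `ŷ ∈ V ⊗ E`. -/

set_option autoImplicit false
set_option linter.unusedSectionVars false
set_option linter.unusedVariables false

namespace Cfsg.Agent.StdO

open Subgroup Module QuadraticMap Cfsg.Agent.Class.Orth Cfsg.Agent.KSG Cfsg.Agent.PLocal.Amb
  Cfsg.Agent.Lyons
open Cfsg.Agent.StdL (cjh)
open scoped commutatorElement

variable {F V : Type*} [Field F] [Finite F] [CharP F 2] [AddCommGroup V] [Module F V]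
  [FiniteDimensional F V] {Q : QuadraticForm F V} {G : Type*} [Group G] [Finite G]
  {ι : EG Q →* G} {t : G}

local notation "𝐟" => polar Q

variable {E W : Type*} [Field E] [Finite E] [CharP E 2] [AddCommGroup W] [Module E W]
  [FiniteDimensional E W] {Q' : QuadraticForm E W} {j : F →+* E} {e : V → W} {ε : E} {T : SS Q'}
  {d : F} {c : EG Q → G} {u s v w p p' r r' : V} {x y y' : W}

open Classical in
/-- `X(u, e v + ε e w)` -/
noncomputable def Xh (ι : EG Q →* G) (c : EG Q → G) (e : V → W) (ε : E) (u : V) (y : W) : G :=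
  if h : ∃ a : V × V, y = e a.1 + ε • e a.2 then XX ι c u h.choose.1 h.choose.2 else 1

theorem Ex.Xh_eq (x : Ex Q j e ε T d) (u v w : V) :
    Xh ι c e ε u (e v + ε • e w) = XX ι c u v w := by
  have h : ∃ a : V × V, e v + ε • e w = e a.1 + ε • e a.2 := ⟨(v, w), rfl⟩
  obtain ⟨h1, h2⟩ := x.uniq (v - h.choose.1) (w - h.choose.2) (by
    rw [x.desc.sub, x.desc.sub]
    linear_combination (norm := module) h.choose_spec)
  rw [Xh, dif_pos h, ← sub_eq_zero.1 h1, ← sub_eq_zero.1 h2]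

theorem Ex.q (x : Ex Q j e ε T d) (v : V) : Q' (e v) = j (Q v) := (x.desc.q v).trans (one_mul _)

theorem Ex.pol (x : Ex Q j e ε T d) (v w : V) : polar Q' (e v) (e w) = j (𝐟 v w) :=
  (x.desc.toFormExt.pol v w).trans (one_mul _)

/-- `uniqE` -/
theorem Ex.perp (x : Ex Q j e ε T d) :
    polar Q' (e u) (e v + ε • e w) = 0 ↔ 𝐟 u v = 0 ∧ 𝐟 u w = 0 := by
  rw [polar_add_right, polar_smul_right', x.pol, x.pol]
  exact ⟨x.uniqE _ _, fun ⟨h1, h2⟩ => by rw [h1, h2, map_zero, mul_zero, add_zero]⟩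

theorem Ex.T_apply (x : Ex Q j e ε T d) (v w : V) :
    T.T (e v + ε • e w) = e (v + w) + ε • e w := by
  rw [T.h.semi.add, T.h.semi.smul, x.desc.fix, x.desc.fix, x.σε, x.desc.add]
  module

theorem Ex.smul_eq (x : Ex Q j e ε T d) (a b : F) (v : V) :
    (j a + ε * j b) • e v = e (a • v) + ε • e (b • v) := by
  rw [x.desc.smul, x.desc.smul]; module

theorem Ex.ts2 (x : Ex Q j e ε T d) (h : TS2 Q u s) : TS2 Q' (e u) (e s) :=
  ⟨by rw [x.q, h.l, map_zero], by rw [x.q, h.r, map_zero], by rw [x.pol, h.p, map_zero]⟩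

theorem FldB.rk (u s : V) : finrank F (Submodule.span F ({u, s} : Set V)) ≤ 2 := by
  classical
  refine (finrank_span_le_card ({u, s} : Set V)).trans ?_
  simpa using Finset.card_le_two

theorem FldB.perp {z : W} (h1 : polar Q' z y' = 0) (h2 : polar Q' z x = 0) (hy : polar Q' z y = 0) :
    polar Q' z ((eichler Q' y' x).1 y) = 0 := by
  rw [← eichler_apply_of_perp_perp h1 h2, OG.map_polar, hy]

variable (h : Act ι t c d) (X : Ex Q j e ε T d)
include h X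

theorem Act.Xh_add (hu : Q u = 0) (hy : polar Q' (e u) y = 0) (hy' : polar Q' (e u) y' = 0) :
    Xh ι c e ε u (y + y') = Xh ι c e ε u y * Xh ι c e ε u y' := by
  obtain ⟨v, w, rfl⟩ := X.dec y
  obtain ⟨v', w', rfl⟩ := X.dec y'
  obtain ⟨a1, a2⟩ := X.perp.1 hy
  obtain ⟨b1, b2⟩ := X.perp.1 hy'
  rw [X.Xh_eq, X.Xh_eq, h.toFam.XX_mul ⟨hu, a1⟩ ⟨hu, a2⟩ ⟨hu, b1⟩ ⟨hu, b2⟩, ← X.Xh_eq, X.desc.add,
    X.desc.add, smul_add, add_add_add_comm]

theorem Act.Xh_self (hu : Q u = 0) (a : E) : Xh ι c e ε u (a • e u) = 1 := by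
  obtain ⟨α, β, rfl⟩ := X.decE a
  rw [X.smul_eq, X.Xh_eq, XX, sg_self hu, sg_self hu, h.toFam.c_one, map_one, one_mul]

theorem Act.Xh_swap (hu : TS2 Q u s) (a : E) :
    Xh ι c e ε u (a • e s) = Xh ι c e ε s (a • e u) := by
  obtain ⟨α, β, rfl⟩ := X.decE a
  rw [X.smul_eq, X.smul_eq, X.Xh_eq, X.Xh_eq, XX, XX, sg_swap (hu.smul_right α),
    sg_swap (hu.smul_right β), sg_smul (ok_of hu.symm), sg_smul (ok_of hu.symm)]

theorem Act.Xh_t (hu : Q u = 0) (hy : polar Q' (e u) y = 0) :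
    t * Xh ι c e ε u y * t⁻¹ = Xh ι c e ε u (T.T y) := by
  obtain ⟨v, w, rfl⟩ := X.dec y
  obtain ⟨a1, a2⟩ := X.perp.1 hy
  rw [X.T_apply, X.Xh_eq, X.Xh_eq, h.toFam.XX_t ⟨hu, a1⟩ ⟨hu, a2⟩]

theorem Act.Xh_conj (hu : Q u = 0) (hy : polar Q' (e u) y = 0) (g : EG Q) :
    ι g * Xh ι c e ε u y * (ι g)⁻¹ =
      Xh ι c e ε (g.1.1 u) ((X.desc.toFormExt.extO g.1).1 y) := by
  obtain ⟨v, w, rfl⟩ := X.dec y
  obtain ⟨a1, a2⟩ := X.perp.1 hy
  rw [map_add, map_smul, FormExt.extO_apply, FormExt.extO_apply, X.Xh_eq, X.Xh_eq,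
    h.toFam.XX_conj ⟨hu, a1⟩ ⟨hu, a2⟩]

theorem Act.Xh_mem (hu : Q u = 0) (hy : polar Q' (e u) y = 0) : Xh ι c e ε u y ∈ G0 ι c := by
  obtain ⟨v, w, rfl⟩ := X.dec y
  rw [X.Xh_eq]
  exact h.toFam.XX_mem ⟨hu, (X.perp.1 hy).2⟩

/-- (ACT) The set of `x ⊥ e u, e s` with this property (for all `y`) is closed under addition
(`Xh_add`, `eichler_add`).  It contains `e v` (`Xh_conj`, `extO_eichler`) and `ε • e w` for singular
`w ⊥ u, s` (`act0`, `act`, `εε`); `perp_induction` for `⟨u, s⟩`. -/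
theorem Act.Xh_act (hu : TS2 Q u s) (h1 : polar Q' (e u) x = 0) (h2 : polar Q' (e s) x = 0)
    (hy : polar Q' (e u) y = 0) : Xh ι c e ε s x * Xh ι c e ε u y * (Xh ι c e ε s x)⁻¹ =
      Xh ι c e ε u ((eichler Q' (e s) x).1 y) := by
  obtain ⟨P, hP⟩ : ∃ P : W → Prop, ∀ x, P x ↔ ∀ y, polar Q' (e u) y = 0 →
      Xh ι c e ε s x * Xh ι c e ε u y * (Xh ι c e ε s x)⁻¹ =
        Xh ι c e ε u ((eichler Q' (e s) x).1 y) := ⟨_, fun _ => Iff.rfl⟩
  have t := X.ts2 hu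
  have add : ∀ {x x'}, polar Q' (e s) x = 0 → polar Q' (e u) x' = 0 → polar Q' (e s) x' = 0 →
      P x → P x' → P (x + x') := fun {x x'} a b b' p p' => (hP _).2 fun y hy => by
    rw [h.Xh_add X hu.r a b', eichler_add t.r a b', OG.mul_apply,
      ← (hP _).1 p _ (FldB.perp t.p b hy), ← (hP _).1 p' y hy]
    group
  have z : ∀ v, e v = e v + ε • e 0 := fun v => by rw [X.desc.zero, smul_zero, add_zero]
  have z' : ∀ v, ε • e v = e 0 + ε • e v := fun v => by rw [X.desc.zero, zero_add]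
  have pe : ∀ {a w}, 𝐟 a w = 0 → polar Q' (e a) (ε • e w) = 0 := fun a => by
    rw [polar_smul_right', X.pol, a, map_zero, mul_zero]
  obtain ⟨v, w, rfl⟩ := X.dec x
  obtain ⟨a1, a2⟩ := X.perp.1 h1
  obtain ⟨b1, b2⟩ := X.perp.1 h2
  refine (hP _).1 (add (by rw [X.pol, b1, map_zero]) (pe a2) (pe b2) ((hP _).2 fun y hy => ?_)
    (perp_induction h.nd hu.ts_span (by have := FldB.rk (F := F) u s; have := h.d8; omega)
      (fun w => P (ε • e w)) (fun w hw q => (hP _).2 fun y hy => ?_) (fun w hw w' hw' p p' => ?_) w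
      (mem_perp2''.2 ⟨a2, b2⟩))) y hy
  · have := h.Xh_conj X hu.l hy (sg Q s v)
    rw [sg_fix hu.p a1, coe_sg, FormExt.extO_eichler _ hu.r b1, inv_one, one_smul] at this
    rw [← this, z v, X.Xh_eq, h.toFam.XX_zero]
  · obtain ⟨c1, c2⟩ := mem_perp2''.1 hw
    obtain ⟨y1, y2, rfl⟩ := X.dec y
    obtain ⟨d1, d2⟩ := X.perp.1 hy
    have t2 : TS2 Q u w := ⟨hu.l, q, c1⟩
    have t3 : TS2 Q s w := ⟨hu.r, q, c2⟩
    rw [z' w, X.Xh_eq, X.Xh_eq, Fam.XX_zero', XX, ← conj_mul, h.toFam.act0 hu t2 t3 ⟨hu.l, d1⟩,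
      h.act u s w y2 hu t2 t3 ⟨hu.l, d2⟩, h.toFam.XX_mul ⟨hu.l, d1⟩ (ActA.okm hu t2 _ _)
        ((ActA.okm hu t2 _ _).smul d) (Ok.add ⟨hu.l, d2⟩ (ActA.okm hu t2 _ _)), ← X.Xh_eq, ← z',
      eichler_apply t.r (pe c2), Q_smul, X.q, q, map_zero, mul_zero, zero_mul, sub_zero, sub_eq' E]
    simp only [X.desc.add, X.desc.smul, polar_add_left, polar_smul_left', polar_smul_right', X.pol]
    congr 1
    match_scalars
    · ring
    · linear_combination -j (𝐟 y2 s) * X.εε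
    · linear_combination -j (𝐟 y2 w) * X.εε
    · ring
  · obtain ⟨c1, c2⟩ := mem_perp2''.1 hw
    obtain ⟨d1, d2⟩ := mem_perp2''.1 hw'
    rw [X.desc.add, smul_add]
    exact add (pe c2) (pe d1) (pe d2) p p'

/-- (d2) `Y = X(p, a x)`, `D = X(p', b x)`, `A = X(r', x)`, `B = X(p', b e r) = X(r, b e p')`,
`C = X(r, a b x)`.  By `Xh_act`: `A B A⁻¹ = B D`, `Y A Y⁻¹ = A`, `Y B Y⁻¹ = B C`, `C D = D C`; so
`κ = D⁻¹ Y D Y⁻¹ = C⁻¹ A C A⁻¹`.  `A` and `C` normalize `W_p` and `W_{p'}` and act on them as the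
commuting elements `eichler (e r') x = eichler x (e r')`, `eichler (e r) (a b x)`; so `κ`
centralizes `G0` (`G0_le`).  `Y² = 1` gives `κ² = 1`, `oddC`. -/
theorem Act.Xh_d2 (o : IsHyp Q p p') (o' : IsHyp Q r r') (h1 : r ∈ perp2 Q p p')
    (h2 : r' ∈ perp2 Q p p') (hx : Q' x = 0) (x1 : x ∈ perp2 Q' (e p) (e p'))
    (x2 : x ∈ perp2 Q' (e r) (e r')) (a b : E) :
    Commute (Xh ι c e ε p (a • x)) (Xh ι c e ε p' (b • x)) := by
  obtain ⟨r1, r2⟩ := mem_perp2.1 h1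
  obtain ⟨s1, s2⟩ := mem_perp2.1 h2
  obtain ⟨y1, y2⟩ := mem_perp2.1 x1
  obtain ⟨y3, y4⟩ := mem_perp2.1 x2
  have t1 : TS2 Q p r := ⟨o.left, o'.left, r1⟩
  have t2 : TS2 Q p' r := ⟨o.right, o'.left, r2⟩
  have t3 : TS2 Q p r' := ⟨o.left, o'.right, s1⟩
  have t4 : TS2 Q p' r' := ⟨o.right, o'.right, s2⟩
  have sm : ∀ {z y : W} (a : E), polar Q' z y = 0 → polar Q' z (a • y) = 0 := fun a h => by
    rw [polar_smul_right', h, mul_zero]
  have sl : ∀ {z y : W} (a : E), polar Q' y z = 0 → polar Q' (a • z) y = 0 := fun a h => by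
    rw [polar_comm, sm a h]
  have e1 := h.Xh_act X t4 y2 y4 (sm b (X.ts2 t2).p)
  rw [eichler_apply (X.ts2 t4).r y4, sl b (by rw [polar_comm, y3]), hx, polar_smul_left', X.pol, o'.pol,
    map_one, mul_one, zero_mul, sub_zero, zero_smul, add_zero, sub_eq' E,
    h.Xh_add X o.right (sm b (X.ts2 t2).p) (sm b y2)] at e1
  have e2 := h.Xh_act X t3.symm (sm a y4) (sm a y1) y4
  rw [eichler_apply_of_perp_perp (by rw [polar_comm, y1]) (sm a (f_self x))] at e2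
  have e3 := h.Xh_act X t1.symm (sm a y3) (sm a y1) (sm b (X.ts2 t2).p')
  rw [eichler_apply (X.ts2 t1).l (sm a y1), sl b (sl a y2), Q_smul, hx, polar_smul_left', X.pol,
    o.symm.pol, map_one, mul_one, mul_zero, zero_mul, sub_zero, zero_smul, add_zero, sub_eq' E,
    h.Xh_add X o'.left (sm b (X.ts2 t2).p') (sm b (sm a y3)), ← h.Xh_swap X t2] at e3
  have e4 := h.Xh_act X t2 (sm b (sm a y2)) (sm b (sm a y3)) (sm b y2)
  rw [eichler_apply_of_perp_perp (sl b y3) (sm b (sm a (sl b (f_self x))))] at e4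
  have cm : eichler Q' (e r') x * eichler Q' (e r) (b • a • x) =
      eichler Q' (e r) (b • a • x) * eichler Q' (e r') x := by
    have q1 : TS2 Q' (e r') x := ⟨(X.ts2 t3).r, hx, y4⟩
    have q2 : TS2 Q' (e r) x := ⟨(X.ts2 t1).r, hx, y3⟩
    rw [smul_smul, ← eichler_smul_left q2.l q2.p, q1.symm.swap, (q2.smul_left _).symm.swap]
    exact eichler_commute _ _ _
  have k : ∀ {u}, TS2 Q u r → TS2 Q u r' → polar Q' (e u) x = 0 → ∀ v w, Ok Q u v → Ok Q u w →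
      XX ι c u v w ∈ 𝐳[(Xh ι c e ε r (b • a • x) * Xh ι c e ε r' x)⁻¹ *
        (Xh ι c e ε r' x * Xh ι c e ε r (b • a • x))] := fun {u} q1 q2 q3 v w o1 o2 => by
    have hy := X.perp.2 ⟨o1.p, o2.p⟩
    have f1 := h.Xh_act X q1 (sm b (sm a q3)) (sm b (sm a y3)) hy
    have f2 := h.Xh_act X q2 q3 y4 hy
    have f3 := h.Xh_act X q2 q3 y4 (FldB.perp (X.ts2 q1).p (sm b (sm a q3)) hy)
    have f4 := h.Xh_act X q1 (sm b (sm a q3)) (sm b (sm a y3)) (FldB.perp (X.ts2 q2).p q3 hy)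
    rw [← OG.mul_apply, ← cm, OG.mul_apply, ← f3, ← f1, ← f2, X.Xh_eq] at f4
    refine mem_cent.2 (mul_inv_eq_iff_eq_mul.1 ?_)
    generalize Xh ι c e ε r (b • a • x) = C, Xh ι c e ε r' x = A, XX ι c u v w = Z at f4
    calc _ = (C * A)⁻¹ * (A * (C * Z * C⁻¹) * A⁻¹) * (C * A) := by group
      _ = _ := by rw [← f4]; group
  have kc := h.toFam.G0_le o (k t1 t3 y1) (k t2 t4 y2)
  have mA := mem_cent.1 (kc (h.Xh_mem X o'.right y4))
  have mY := mem_cent.1 (kc (h.Xh_mem X o.left (sm a y1)))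
  have ko := h.toFam.oddC (x := _) fun g hg => (mem_cent.1 (kc hg)).symm.eq
  have yy := h.Xh_add X o.left (sm a y1) (sm a y1)
  rw [add_self' E, ← zero_smul E (e p), h.Xh_self X o.left] at yy
  generalize Xh ι c e ε r (b • a • x) = C, Xh ι c e ε r' x = A, Xh ι c e ε p (a • x) = Y,
    Xh ι c e ε p' (b • x) = D, Xh ι c e ε p' (b • e r) = B at *
  have e5 : Y * D * Y⁻¹ = D * ((C * A)⁻¹ * (A * C)) := by
    have e6 : D = B⁻¹ * A * B * A⁻¹ := by rw [mul_assoc B⁻¹, mul_assoc B⁻¹, e1]; group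
    calc Y * D * Y⁻¹ = (Y * B * Y⁻¹)⁻¹ * (Y * A * Y⁻¹) * (Y * B * Y⁻¹) * (Y * A * Y⁻¹)⁻¹ := by
          rw [e6]; group
      _ = C⁻¹ * (B⁻¹ * A * B * A⁻¹) * C * (A * ((C * A)⁻¹ * (A * C)) * A⁻¹) := by rw [e2, e3]; group
      _ = _ := by rw [← e6, ← mA.eq, mul_inv_cancel_right]; nth_rw 1 [← e4]; group
  generalize (C * A)⁻¹ * (A * C) = κ at *
  have e7 : κ * κ = 1 := by
    have : D = D * (κ * κ) := by
      calc D = Y * (Y * D * Y⁻¹) * Y⁻¹ := by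
            rw [← mul_assoc, ← mul_assoc, ← yy, mul_assoc, ← mul_inv_rev, ← yy]; group
        _ = Y * D * Y⁻¹ * (Y * κ * Y⁻¹) := by rw [conj_mul, e5]
        _ = _ := by rw [e5, ← mY.eq]; group
    exact (mul_eq_left.1 this.symm)
  rw [eq_one_of_odd (isPGroup_zpowers ⟨1, by rw [pow_one, pow_two, e7]⟩) (mem_zpowers κ) ko, mul_one] at e5
  exact mul_inv_eq_iff_eq_mul.1 e5

end Cfsg.Agent.StdO
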