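import Cfsg.Agent.StdO.GrB

/-! Commutator chains along a full flag. -/

set_option autoImplicit false
set_option linter.unusedSectionVars false
set_option linter.unusedVariables false

namespace Cfsg.Agent.StdO

open Subgroup Module QuadraticMap Cfsg.Agent.Class.Orth Cfsg.Agent.KSG Cfsg.Agent.PLocal.Amb
  Cfsg.Agent.Lyons
open Cfsg.Agent.StdL (cjh)
open scoped commutatorElement

variable {F V : Type*} [Field F] [Finite F] [CharP F 2] [AddCommGroup V] [Module F V]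
  [FiniteDimensional F V] {Q : QuadraticForm F V} {G : Type*} [Group G] [Finite G]
  {ι : EG Q →* G} {t : G}

local notation "𝐟" => polar Q

variable {k i j a c d : ℕ} {W : ℕ → Submodule F V} {x : OG Q} {p u v w y z : V}

theorem grc_lin (x : OG Q) (y w : V) (c : F) :
    x.1 (y + c • w) + (y + c • w) = (x.1 y + y) + c • (x.1 w + w) := by
  rw [map_add, map_smul, smul_add]; abel

theorem grc_eich (o : Ok Q u w) (y : V) :
    (eichler Q u w).1 y + y = (𝐟 y w + Q w * 𝐟 y u) • u + 𝐟 y u • w := by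
  have := sg_apply o y
  rw [coe_sg] at this
  rw [this, add_assoc y, add_right_comm, add_self' F, zero_add]

theorem grc_fix (e : x.1 y + y = 0) : x.1 y = y := by
  rw [eq_neg_of_add_eq_zero_left e, neg_eq' F]

theorem grc_cm {H : Type*} [Group H] {B : Subgroup H} {a b r : H} (ha : Commute r a)
    (hb : Commute r b) (h1 : a ∈ B ∨ a * r ∈ B) (h2 : b ∈ B ∨ b * r ∈ B) : ⁅a, b⁆ ∈ ⁅B, B⁆ := by
  have e1 : ∀ b, Commute r b → ⁅a * r, b⁆ = ⁅a, b⁆ := fun b hb => by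
    rw [commutatorElement_def, commutatorElement_def, mul_assoc a, hb.eq]; group
  have e2 : ⁅a, b * r⁆ = ⁅a, b⁆ := by
    rw [commutatorElement_def, commutatorElement_def, mul_inv_rev, ← mul_assoc, ← mul_assoc,
      mul_assoc _ r, ha.inv_right.eq]; group
  rcases h1 with h1 | h1 <;> rcases h2 with h2 | h2
  · exact commutator_mem_commutator h1 h2
  · exact e2 ▸ commutator_mem_commutator h1 h2
  · exact e1 b hb ▸ commutator_mem_commutator h1 h2
  · exact e2 ▸ e1 _ (hb.mul_right (Commute.refl r)) ▸ commutator_mem_commutator h1 h2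

namespace Fl

variable (h : Fl Q k W)
include h

theorem sd (hx : x ∈ Sd Q W 1) (hy : y ∈ W (i + 1)) : x.1 y + y ∈ W i := (mem_Sd h.mono).1 hx i y hy

theorem em (hij : i + j ≤ 2 * k) (hi : i < k) (h1 : w ∈ W i) (h3 : z ∈ W j) :
    eichler Q w z ∈ Sd Q W 1 :=
  (h.eich_mem (by omega) h1 (h.mono (by omega) h1) fun _ hu => h.pol hij hu h3).1

theorem ok (hij : i + j ≤ 2 * k) (hi : i < k) (h1 : w ∈ W i) (h3 : z ∈ W j) : Ok Q w z :=
  ⟨h.sing hi h1, h.pol hij h1 h3⟩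

theorem vn (hq : Q v ≠ 0) : v ∉ W (k - 1) := fun c => hq (h.ts v c)

theorem vp (hv : v ∈ W k) (hq : Q v ≠ 0) : ∃ v' ∈ W (k + 1), 𝐟 v' v = 1 := by
  have := h.k4
  obtain ⟨y, h1, h2⟩ := h.ex (i := k) (by omega)
  have h3 := h.pol_ne (by omega) h1 h2 (h.mono (by omega) hv) (h.vn hq)
  exact ⟨(𝐟 y v)⁻¹ • y, (W _).smul_mem _ h1, by rw [polar_smul_left', inv_mul_cancel₀ h3]⟩

theorem exo (hv : v ∈ W k) (hq : Q v ≠ 0) (h1 : k + 1 ≤ i) (h2 : i < 2 * k) :
    ∃ z ∈ W (i + 1), z ∉ W i ∧ 𝐟 v z = 0 := by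
  obtain ⟨y, y1, y2⟩ := h.ex h2
  obtain ⟨v', a1, a2⟩ := h.vp hv hq
  have m : 𝐟 y v • v' ∈ W i := (W _).smul_mem _ (h.mono h1 a1)
  refine ⟨y + 𝐟 y v • v', add_mem y1 (h.mono (by omega) m),
    fun c => y2 (((W i).add_mem_iff_left m).1 c), ?_⟩
  rw [polar_comm, polar_add_left, polar_smul_left', a2, mul_one, CharTwo.add_self_eq_zero]

theorem mv_step (hx : x ∈ Sd Q W 1) (hm : Mv W i x) (h1 : w ∈ W (i + 2)) (h2 : w ∉ W (i + 1)) :
    x.1 w + w ∈ W (i + 1) ∧ x.1 w + w ∉ W i := by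
  refine ⟨h.sd hx h1, fun c => ?_⟩
  obtain ⟨y, y1, y2⟩ := hm
  obtain ⟨a, ha⟩ := h.span h1 h2 y1
  have := h.sd hx ha
  rw [grc_lin] at this
  exact y2 (((W i).add_mem_iff_left ((W i).smul_mem a c)).1 this)

/-- `x (r y) + y = x y + y + c • x v`, with `c = 0` if `i + 2 ≤ k` and `x v ∈ W i` if `k ≤ i` -/
theorem mv_refl (hv : v ∈ W k) (hi : i + 1 ≠ k) (hx : x ∈ Sd Q W 1) (hm : Mv W i x) :
    Mv W i (x * refl Q v) := by
  obtain ⟨y, y1, y2⟩ := hm
  refine ⟨y, y1, ?_⟩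
  rw [OG.mul_apply]
  by_cases c : i + 2 ≤ k
  · rwa [refl_apply_of_polar_eq_zero (h.pol (by omega) y1 hv)]
  · rw [refl_apply, sub_eq' F, map_add, map_smul, add_right_comm]
    exact fun m => y2 (((W i).add_mem_iff_left ((W i).smul_mem _
      (h.mono (by omega) (Sd_stab h.mono hx hv)))).1 m)

/-- `mem_EG` -/
theorem mv_mid (hx : x ∈ Sd Q W 1) (hn : x ∉ EG Q) : Mv W (k - 1) x := by
  have := h.k4
  by_contra c
  exact hn (h.mem_EG hx (h.mem_Md.2 fun y hy =>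
    by_contra fun m => c ⟨y, h.mono (by omega) hy, m⟩))

/-- `x = eichler e z`, `e ∈ W (i + 1) \ W i`, `z ∈ W (2 k - i - 1) \ W (2 k - i - 2)` -/
theorem exists_x (hi : i + 2 ≤ k) : ∃ x ∈ Sd Q W 1, Mv W i x ∧ Mv W (2 * k - 2 - i) x ∧
    ∀ y ∈ W (i + 1), x.1 y = y := by
  obtain ⟨e, e1, e2⟩ := h.ex (i := i) (by omega)
  obtain ⟨z, z1, z2⟩ := h.ex (i := 2 * k - 2 - i) (by omega)
  have o := h.ok (by omega) (by omega) e1 z1
  refine ⟨eichler Q e z, h.em (by omega) (by omega) e1 z1, ?_, ?_, fun y hy =>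
    eichler_apply_of_perp_perp (h.pol (by omega) hy e1) (h.pol (by omega) hy z1)⟩
  · obtain ⟨y, y1, y2⟩ := h.ex (i := i + 1) (by omega)
    refine ⟨y, y1, ?_⟩
    rw [grc_eich o, h.pol (by omega) y1 e1, mul_zero, add_zero, zero_smul, add_zero,
      (W i).smul_mem_iff (h.pol_ne (by omega) y1 y2 z1 z2)]
    exact e2
  · obtain ⟨y, y1, y2⟩ := h.ex (i := 2 * k - 2 - i + 1) (by omega)
    refine ⟨y, y1, ?_⟩
    rw [grc_eich o, (W _).add_mem_iff_right ((W _).smul_mem _ (h.mono (by omega) e1)),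
      (W _).smul_mem_iff (h.pol_ne (by omega) y1 y2 e1 e2)]
    exact z2

/-- `exists_x`, and `refl v` in the middle -/
theorem exists_mv (hv : v ∈ W k) (hq : Q v ≠ 0) (hi : i + 2 ≤ 2 * k) :
    ∃ x ∈ Sd Q W 1, Mv W i x ∧ (2 ≤ i → i + 4 ≤ 2 * k → ∀ y ∈ W 2, x.1 y = y) := by
  have := h.k4
  rcases lt_trichotomy (i + 1) k with c | c | c
  · obtain ⟨x, h1, h2, -, h3⟩ := h.exists_x (i := i) c
    exact ⟨x, h1, h2, fun a _ y hy => h3 y (h.mono (by omega) hy)⟩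
  · obtain rfl : i = k - 1 := by omega
    exact ⟨refl Q v, h.refl_mem hv, h.mv_mid (h.refl_mem hv) (h.toDm.refl_notMem hq),
      fun _ _ y hy => refl_apply_of_polar_eq_zero (h.pol (by omega) hy hv)⟩
  · obtain ⟨x, h1, -, h2, h3⟩ := h.exists_x (i := 2 * k - 2 - i) (by omega)
    rw [show 2 * k - 2 - (2 * k - 2 - i) = i by omega] at h2
    exact ⟨x, h1, h2, fun _ a y hy => h3 y (h.mono (by omega) hy)⟩

/-- downward induction on `i`, `mv_step`, `cm_eich'` -/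
theorem chain {K : Subgroup (OG Q)} (hK : K ≤ Sd Q W 1) (hp : Q p = 0)
    (H : ∀ i, a ≤ i → i < c → ∃ x ∈ K, x.1 p = p ∧ Mv W i x) (h1 : w ∈ W (c + 1)) (h2 : w ∉ W c)
    (o : 𝐟 p w = 0) (hw : eichler Q p w ∈ gam K j) (ha : a ≤ i) (hc : i + d = c) :
    ∃ w' ∈ W (i + 1), w' ∉ W i ∧ 𝐟 p w' = 0 ∧ eichler Q p w' ∈ gam K (j + d) := by
  induction d generalizing i with
  | zero =>
    obtain rfl : i = c := hc
    exact ⟨w, h1, h2, o, hw⟩
  | succ d ih =>
    obtain ⟨y, y1, y2, y3, y4⟩ := ih (i := i + 1) (by omega) (by omega)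
    obtain ⟨x, x1, x2, x3⟩ := H i ha (by omega)
    obtain ⟨m1, m2⟩ := h.mv_step (hK x1) x3 y1 y2
    refine ⟨_, m1, m2, ?_, ?_⟩
    · rw [polar_add_right, y3, add_zero, ← x2, OG.map_polar, y3]
    · rw [← cm_eich' ⟨hp, y3⟩ x2]
      exact commutator_mem_commutator y4 x1

/-- Induction on `i ≤ 2 k - 2` for `z ∈ W i`: `z + c • (x y + y) ∈ W (i - 1)` (`exists_mv`, `ex`,
`mv_step`, `span`), `eichler u (x (c y) + c y)` is a commutator (`cm_eich`, `eich_mem` with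
`i = 1`). -/
theorem A_der (hv : v ∈ W k) (hq : Q v ≠ 0) (hu : u ∈ W 1) (hz : z ∈ W (2 * k - 2)) :
    eichler Q u z ∈ ⁅Sd Q W 1, Sd Q W 1⁆ := by
  have := h.k4
  suffices H : ∀ i, i ≤ 2 * k - 2 → ∀ z ∈ W i, eichler Q u z ∈ ⁅Sd Q W 1, Sd Q W 1⁆ from
    H _ le_rfl z hz
  intro i
  induction i with
  | zero =>
    intro _ z hz
    rw [h.zero, Submodule.mem_bot] at hz
    rw [hz, eichler_zero]
    exact one_mem _
  | succ i ih =>
    intro hi z hz
    obtain ⟨x, x1, x2, -⟩ := h.exists_mv hv hq (i := i) (by omega)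
    obtain ⟨y, y1, y2⟩ := h.ex (i := i + 1) (by omega)
    obtain ⟨m1, m2⟩ := h.mv_step x1 x2 y1 y2
    obtain ⟨a, ha⟩ := h.span m1 m2 hz
    have y3 := (W _).smul_mem a y1
    have e : z = (z + a • (x.1 y + y)) + (x.1 (a • y) + a • y) := by
      rw [map_smul, ← smul_add, add_assoc, add_self' F, add_zero]
    rw [e, eichler_add (h.sing (by omega) hu) (h.pol (by omega) hu ha)
      (h.pol (by omega) hu (h.sd x1 y3)), ← cm_eich (h.ok (by omega) (by omega) hu y3) (h.fix1 x1 hu)]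
    exact mul_mem (ih (by omega) _ ha)
      (commutator_mem_commutator x1 (h.em (by omega) (by omega) hu y3))

/-- Take `v' ∈ W (k + 1)` with `𝐟 v' v = 1`, `z = c • v + w'`, `w' ∈ W (k - 1)`.
`⁅refl v, eichler w (c Q v • v')⁆ = eichler w (c • v)`, `⁅eichler w' v', eichler w v⁆ = eichler w w'`
(`cm_eich`, `eich_mem` with `i = k - 1`). -/
theorem R_der (hv : v ∈ W k) (hq : Q v ≠ 0) (hw : w ∈ W (k - 1)) (hz : z ∈ W k) :
    eichler Q w z ∈ ⁅Sd Q W 1, Sd Q W 1⁆ := by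
  have := h.k4
  obtain ⟨v', a1, a2⟩ := h.vp hv hq
  obtain ⟨a, ha⟩ := h.span (h.mono (by omega) hv) (h.vn hq) (h.mono (by omega) hz)
  generalize e : z + a • v = w' at ha
  obtain rfl : z = w' + a • v := by rw [← e, add_assoc, add_self' F, add_zero]
  have m := (W _).smul_mem (a * Q v) a1
  have o := h.ok (by omega) (by omega) ha a1
  have e1 : (eichler Q w' v').1 v + v = w' := by
    rw [grc_eich o, h.pol (by omega) hv ha, polar_comm, a2, mul_zero, add_zero, one_smul, zero_smul,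
      add_zero]
  have e2 : (refl Q v).1 ((a * Q v) • v') + (a * Q v) • v' = a • v := by
    rw [refl_apply, sub_eq' F, add_right_comm, add_self' F, zero_add, polar_smul_left', a2]
    congr 1
    field_simp
  rw [eichler_add (h.ts w hw) (h.pol (by omega) hw ha) (h.pol (by omega) hw ((W _).smul_mem a hv))]
  refine mul_mem ?_ ?_
  · rw [← e1, ← cm_eich (h.ok (by omega) (by omega) hw hv)
      (eichler_apply_of_perp_perp (h.pol (by omega) hw ha) (h.pol (by omega) hw a1))]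
    exact commutator_mem_commutator (h.em (by omega) (by omega) ha a1)
      (h.em (by omega) (by omega) hw hv)
  · rw [← e2, ← cm_eich (h.ok (by omega) (by omega) hw m)
      (refl_apply_of_polar_eq_zero (h.pol (by omega) hw hv))]
    exact commutator_mem_commutator (h.refl_mem hv) (h.em (by omega) (by omega) hw m)

/-- `gam_le`: `y v = v`; `conj_refl` -/
theorem refl_comm (hv : v ∈ W k) (hx : x ∈ gam (Sd Q W 1) (k - 1)) : Commute (refl Q v) x := by
  have := h.k4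
  have m := (mem_Sd h.mono).1 (gam_le h.mono le_rfl _ hx) 0 v (h.mono (by omega) hv)
  rw [h.zero, Submodule.mem_bot] at m
  exact refl_comm_of_fix (grc_fix m)

/-- (a) `u ∈ W 1 \ 0`.  `chain` (`p = u`, `c = 2 k - 2`, `j = 0`, `a = 1`) gives for `1 ≤ i < k` a
vector `w ∈ W (i + 1) \ W i` with `eichler u w ∈ gam S (2 k - 2 - i) ≤ gam S (k - 1)`; `conj_eichler`,
`sg_inj`: `x w + w ∈ W 1`.  By induction with `span`, `x ∈ St (W 1) (W k)`.
(b) `e ∈ W 2 \ W 1`.  `chain` (`p = e`, `c = 2 k - 3`, `j = 0`, `a = i = 2`) gives `w ∈ W 3 \ W 2` with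
`eichler e w ∈ gam S (2 k - 5)`; `span_of_sg_eq`: `x e ∈ span {e, w}`, and `x e + e ∈ W 1`, so
`x e = e` and `x` fixes `W 2`.
(c) `peel` with `G₁ = St (W 1) (W k)`, `i₀ = 2` (`md_eq`): if `i < k` then `x y + y ∈ W 1`,
`z ∈ W (2 k - 2)`, `A_der`; if `k ≤ i` then `z ∈ W k`, `R_der`. -/
theorem cent_der (hv : v ∈ W k) (hq : Q v ≠ 0) (hx : x ∈ Sd Q W 1) (he : x ∈ EG Q)
    (hc : ∀ y ∈ gam (Sd Q W 1) (k - 1), Commute x y) : x ∈ ⁅Sd Q W 1, Sd Q W 1⁆ := by
  have := h.k4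
  have cj : ∀ {p w j}, k - 1 ≤ j → eichler Q p w ∈ gam (Sd Q W 1) j →
      eichler Q (x.1 p) (x.1 w) = eichler Q p w := fun hj m => by
    rw [← conj_eichler, (hc _ (gam_anti _ hj m)).eq, mul_inv_cancel_right]
  have A : ∀ i, i ≤ k → ∀ y ∈ W i, x.1 y + y ∈ W 1 := by
    obtain ⟨u, u1, u2⟩ := h.ex (i := 0) (by omega)
    obtain ⟨z, z1, z2⟩ := h.ex (i := 2 * k - 2) (by omega)
    have qu := h.sing (by omega) u1
    intro i
    induction i with
    | zero => exact fun _ y hy => h.mono zero_le_one (h.sd hx (h.mono zero_le_one hy))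
    | succ i ih =>
      intro hi y hy
      obtain ⟨w, w1, w2, w3, w4⟩ := h.chain (a := 0) (j := 0) (i := i) (d := 2 * k - 2 - i) le_rfl qu
        (fun l _ hl => by
          obtain ⟨x, x1, x2, -⟩ := h.exists_mv hv hq (i := l) (by omega)
          exact ⟨x, x1, h.fix1 x1 u1, x2⟩) z1 z2 (h.pol (by omega) u1 z1)
        (h.em (by omega) (by omega) u1 z1) (Nat.zero_le _) (by omega)
      have e := cj (by omega) w4
      rw [h.fix1 hx u1] at e
      obtain ⟨b, hb⟩ := eichler_inj h.nd (fun c : u = 0 => u2 (c ▸ zero_mem _)) qu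
        (h.pol (by omega) u1 (Sd_stab h.mono hx w1)) w3 e
      obtain ⟨a, ha⟩ := h.span w1 w2 hy
      have m := ih (by omega) _ ha
      rw [grc_lin, ← sub_eq' F (x.1 w), hb] at m
      exact ((W 1).add_mem_iff_left ((W 1).smul_mem _ ((W 1).smul_mem _ u1))).1 m
  have B : ∀ m ∈ W 2, x.1 m = m := by
    obtain ⟨e, e1, e2⟩ := h.ex (i := 1) (by omega)
    obtain ⟨z, z1, z2⟩ := h.ex (i := 2 * k - 3) (by omega)
    have qe := h.sing (by omega) e1
    obtain ⟨w, w1, w2, w3, w4⟩ := h.chain (a := 2) (j := 0) (i := 2) (d := 2 * k - 5) le_rfl qe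
      (fun l h2 hl => by
        obtain ⟨x, x1, x2, x3⟩ := h.exists_mv hv hq (i := l) (by omega)
        exact ⟨x, x1, x3 h2 (by omega) e e1, x2⟩) z1 z2 (h.pol (by omega) e1 z1)
      (h.em (by omega) (by omega) e1 z1) le_rfl (by omega)
    have s := span_of_sg_eq h.nd ⟨qe, w3⟩ ⟨by rw [OG.map_Q, qe], by rw [OG.map_polar, w3]⟩
      (fun c => by
        obtain ⟨a, rfl⟩ := (sg_eq_one h.nd ⟨qe, w3⟩ fun c => e2 (c ▸ zero_mem _)).1 c
        exact w2 ((W _).smul_mem _ e1)) (Subtype.ext (cj (by omega) w4).symm)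
    obtain ⟨a, b, hab⟩ := Submodule.mem_span_pair.1
      (s.ge (Submodule.subset_span (Set.mem_insert _ _)))
    have m := h.sd hx e1
    obtain rfl : b = 0 := by_contra fun c => w2 (((W 2).smul_mem_iff c).1
      (((W 2).add_mem_iff_right ((W 2).smul_mem a e1)).1 (hab ▸ Sd_stab h.mono hx e1)))
    have e3 : x.1 e + e = (a + 1) • e := by rw [← hab, zero_smul, add_zero, add_smul, one_smul]
    have e4 : x.1 e + e = 0 := by
      rw [e3] at m ⊢
      rw [show a + 1 = 0 from by_contra fun c => e2 (((W 1).smul_mem_iff c).1 m), zero_smul]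
    intro y hy
    obtain ⟨c, hc⟩ := h.span e1 e2 hy
    have e5 := grc_lin x y e c
    rw [h.fix1 hx hc, add_self' F, e4, smul_zero, add_zero] at e5
    exact grc_fix e5.symm
  have l : W 1 ≤ W k := h.mono (by omega)
  refine h.peel (St Q (W 1) (W k)) _ 2 (fun i hi x hx y hy z hz m o => ?_)
    ⟨h.md_eq.ge ⟨hx, he⟩, (mem_St l).2 (A k le_rfl)⟩ B
  by_cases c : i < k
  · have m1 := (mem_St l).1 hx y (h.mono c hy)
    refine ⟨(mem_St l).2 fun n hn => ?_, h.A_der hv hq m1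
      (h.pp 2 (2 * k - 2) (by omega) ▸ perp_anti (h.mono hi) hz)⟩
    rw [grc_eich o, h.pol (by omega) hn m1, zero_smul, add_zero]
    exact (W 1).smul_mem _ m1
  · have m1 : z ∈ W k := h.pp k k (by omega) ▸ perp_anti (h.mono (not_lt.1 c)) hz
    refine ⟨(mem_St l).2 fun n hn => ?_, h.R_der hv hq m m1⟩
    rw [eichler_apply_of_perp_perp (h.pol (by omega) hn m) (h.pol (by omega) hn m1), add_self' F]
    exact zero_mem _

/-- `u ∈ W 1 \ 0`, `e ∈ W 2 \ W 1`, `z ∈ W (2 k - 1) \ W (2 k - 2)`, `z' ∈ W (2 k - 2) \ W (2 k - 3)`,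
both orthogonal to `v` (add a multiple of `v' ∈ W (k + 1)`, `𝐟 v' v = 1`).  `x₁ = eichler u z`,
`x₂ = eichler e z'` commute with `r = refl v`, so `gam B 1 ∋ ⁅x₂, x₁⁆ = eichler u (x₂ z + z)`, and
`x₂ z + z ∈ W (2 k - 2) \ W (2 k - 3)` (`pol_ne`).  `chain` with `p = u`, `a = i = 1`, `c = 2 k - 3`,
`j = 1` (`exists_mv`, `mv_refl`; `mv_mid` for `i = k - 1`); `sg_eq_one`. -/
theorem big (hv : v ∈ W k) (hq : Q v ≠ 0) {B : Subgroup (OG Q)} (h1 : B ≤ Sd Q W 1)
    (h2 : ∀ t ∈ Sd Q W 1, t ∈ B ∨ t * refl Q v ∈ B) (h3 : x ∈ B) (h4 : x ∉ EG Q) :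
    gam B (2 * k - 3) ≠ ⊥ := by
  have := h.k4
  obtain ⟨u, u1, u2⟩ := h.ex (i := 0) (by omega)
  obtain ⟨e, e1, e2⟩ := h.ex (i := 1) (by omega)
  obtain ⟨z, z1, z2, z3⟩ := h.exo hv hq (i := 2 * k - 2) (by omega) (by omega)
  obtain ⟨y, y1, y2, y3⟩ := h.exo hv hq (i := 2 * k - 3) (by omega) (by omega)
  have qu := h.sing (by omega) u1
  have s1 := h.em (by omega) (by omega) u1 z1
  have s2 := h.em (by omega) (by omega) e1 y1
  have m := grc_cm (refl_comm_of_fix (eichler_apply_of_perp_perp (h.pol (by omega) hv e1) y3))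
    (refl_comm_of_fix (eichler_apply_of_perp_perp (h.pol (by omega) hv u1) z3)) (h2 _ s2) (h2 _ s1)
  rw [cm_eich (h.ok (by omega) (by omega) u1 z1) (h.fix1 s2 u1),
    grc_eich (h.ok (by omega) (by omega) e1 y1)] at m
  have n1 := add_mem ((W _).smul_mem (𝐟 z y + Q y * 𝐟 z e) (h.mono (by omega) e1))
    ((W _).smul_mem (𝐟 z e) y1)
  obtain ⟨w, w1, w2, w3, w4⟩ := h.chain (a := 1) (j := 1) (i := 1) (d := 2 * k - 4) h1 qu
    (fun l _ hl => by
      by_cases c : l + 1 = k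
      · obtain rfl : l = k - 1 := by omega
        exact ⟨x, h3, h.fix1 (h1 h3) u1, h.mv_mid (h1 h3) h4⟩
      · obtain ⟨x, x1, x2, -⟩ := h.exists_mv hv hq (i := l) (by omega)
        rcases h2 x x1 with m | m
        · exact ⟨x, m, h.fix1 x1 u1, x2⟩
        · exact ⟨_, m, h.fix1 (h1 m) u1, h.mv_refl hv c x1 x2⟩) n1 (by
      rw [(W _).add_mem_iff_right ((W _).smul_mem _ (h.mono (by omega) e1)),
        (W _).smul_mem_iff (h.pol_ne (by omega) z1 z2 e1 e2)]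
      exact y2) (h.pol (by omega) u1 n1) m le_rfl (by omega)
  intro c
  rw [show 1 + (2 * k - 4) = 2 * k - 3 by omega, c, mem_bot] at w4
  obtain ⟨a, rfl⟩ := (eichler_eq_one_iff h.nd (fun c : u = 0 => u2 (c ▸ zero_mem _)) qu w3).1 w4
  exact w2 ((W _).smul_mem _ u1)

end Fl

end Cfsg.Agent.StdO
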