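import Cfsg.Agent.StdO.GrA
import Cfsg.Agent.StdO.GrC
import Cfsg.Agent.StdO.Aut
import Cfsg.Agent.StdO.Rig
import Cfsg.Agent.WfS.Def

/-! The Sylow subgroup of `Ω` is characteristic in the Sylow subgroup of `O`. -/

set_option autoImplicit false
set_option linter.unusedSectionVars false
set_option linter.unusedVariables false

namespace Cfsg.Agent.StdO

open Subgroup Module QuadraticMap Cfsg.Agent.Class.Orth Cfsg.Agent.KSG Cfsg.Agent.PLocal.Amb
  Cfsg.Agent.Lyons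
open Cfsg.Agent.StdL (cjh)
open scoped commutatorElement

variable {F V : Type*} [Field F] [Finite F] [CharP F 2] [AddCommGroup V] [Module F V]
  [FiniteDimensional F V] {Q : QuadraticForm F V} {G : Type*} [Group G] [Finite G]
  {ι : EG Q →* G} {t : G}

local notation "𝐟" => polar Q

theorem Dm.chr (h : Dm Q) {H : Type*} [Group H] (π π' : H →* OG Q) (hr : π'.range = π.range)
    (hk : π'.ker = π.ker) (hp : IsPGroup 2 π.range) (hs : IsSyl 2 (π.range ⊓ EG Q) (EG Q)) {x : H}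
    (hx : π x ∈ EG Q) : π' x ∈ EG Q := by
  by_contra hn
  obtain ⟨k, W, fl, hS⟩ := h.exists_fl hp
  have m : π' x ∈ π.range := hr ▸ ⟨x, rfl⟩
  have e1 : Sd Q W 1 ⊓ EG Q ≤ π.range := (hs.max _ (fl.pgrp.to_le inf_le_left)
    (inf_le_inf_right _ hS) inf_le_right).trans inf_le_left
  obtain ⟨v, hv, hq, hm⟩ := fl.exists_v (hS m) fun c => hn (fl.mem_EG (hS m) c)
  have rS := fl.refl_mem hv
  have rn := h.refl_notMem hq
  have r1 : refl Q v ∈ π.range :=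
    (mul_mem_cancel_right m).1 (e1 ⟨Subgroup.mul_mem _ rS (hS m), h.mul_mem rn hn⟩)
  have eS : π.range = Sd Q W 1 := le_antisymm hS fun y hy => by
    by_cases c : y ∈ EG Q
    · exact e1 ⟨hy, c⟩
    · exact (mul_mem_cancel_right r1).1 (e1 ⟨Subgroup.mul_mem _ hy rS, h.mul_mem c rn⟩)
  obtain ⟨r, hr0⟩ : refl Q v ∈ π'.range := hr ▸ r1
  have g1 : ∀ j, (gam ⊤ j).map π = gam (Sd Q W 1) j := fun j => by
    rw [gam_map, ← MonoidHom.range_eq_map, eS]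
  have g2 : ∀ j, (gam ⊤ j).map π' = gam (Sd Q W 1) j := fun j => by
    rw [gam_map, ← MonoidHom.range_eq_map, hr, eS]
  have n0 : π r ∉ EG Q := fun c => by
    have c1 : π r ∈ gam (Sd Q W 1) 1 := fl.cent_der hv hq (hS ⟨r, rfl⟩) c fun y hy => by
      obtain ⟨y, hy', rfl⟩ := (g1 _).ge hy
      have c2 := (fl.refl_comm hv ((g2 _).le (mem_map_of_mem π' hy'))).commutator_eq
      rw [← hr0, ← map_commutatorElement, ← MonoidHom.mem_ker, hk, MonoidHom.mem_ker,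
        map_commutatorElement] at c2
      exact commutatorElement_eq_one_iff_commute.1 c2
    obtain ⟨y, hy, e⟩ := (g1 _).ge c1
    have c3 : y⁻¹ * r ∈ π'.ker := by rw [hk, MonoidHom.mem_ker, map_mul, map_inv, e, inv_mul_cancel]
    rw [MonoidHom.mem_ker, map_mul, map_inv, inv_mul_eq_one, hr0] at c3
    exact rn (h.comm_eq.le (commutator_mono le_top le_top (c3 ▸ (g2 1).le (mem_map_of_mem π' hy))))
  refine fl.big hv hq (B := ((EG Q).comap π).map π') ((map_le_range _ _).trans (hr.trans eS).le)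
    (fun y hy => ?_) (mem_map_of_mem π' hx) hn ?_
  · obtain ⟨y, rfl⟩ := (hr.trans eS).ge hy
    by_cases c : π y ∈ EG Q
    · exact .inl (mem_map_of_mem π' c)
    · exact .inr ⟨y * r, by simpa using h.mul_mem c n0, by rw [map_mul, hr0]⟩
  · rw [← gam_map, Subgroup.map_eq_bot_iff, hk, ← Subgroup.map_eq_bot_iff, gam_map, map_comap_eq, eS, ← fl.md_eq, fl.cls]

theorem Rp.gr' (h : Rp ι) (P : Subgroup G) (hP : IsPGroup 2 P) (hN : ∀ n ∈ P, ∃ T, Ac ι n T)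
    (hS : IsSyl 2 (P ⊓ ι.range) ι.range) (h1 : P ≤ 𝐂[WfS.Zt (P ⊓ ι.range)]) {g : G}
    (g1 : g ∈ 𝐍[P]) (g2 : g ∈ 𝐍[P ⊓ 𝐂[ι.range]]) :
    cj(g, P ⊓ ι.range) ≤ (P ⊓ ι.range) ⊔ (P ⊓ 𝐂[ι.range]) := by
  let U : Subgroup (OG Q) := (P.comap ι).map (EG Q).subtype
  have pU : IsPGroup 2 U := (hP.comap_of_injective ι h.inj).map _
  have sU : IsSyl 2 U (EG Q) := ⟨map_subtype_le _, pU, fun R r1 r2 r3 y hy => ⟨⟨y, r3 hy⟩,
    (hS.max ((R.subgroupOf (EG Q)).map ι) ((r1.comap_subtype).map ι) (by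
      rintro _ ⟨hz, z, rfl⟩
      exact mem_map_of_mem ι (r2 ⟨z, hz, rfl⟩)) (map_le_range _ _) ⟨⟨y, r3 hy⟩, hy, rfl⟩).1, rfl⟩⟩
  obtain ⟨k, W, fl, hW⟩ := h.toDm.exists_fl pU
  have k4 := fl.k4
  have e1 : Sd Q W 1 ⊓ EG Q ≤ U := sU.max _ (fl.pgrp.to_le inf_le_left) (le_inf hW sU.le) inf_le_right
  obtain ⟨u, u1, u2⟩ := fl.ex (i := 0) (by omega)
  obtain ⟨e, a1, a2⟩ := fl.ex (i := 1) (by omega)
  have u0 : u ≠ 0 := fun c => u2 (c ▸ zero_mem _)
  have ts : TS2 Q u e := ⟨fl.sing (i := 1) (by omega) u1, fl.sing (i := 2) (by omega) a1,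
    fl.pol (i := 1) (j := 2) (by omega) u1 a1⟩
  have o : ∀ a : F, Ok Q u (a • e) := fun a => (ok_of ts).smul a
  have mZ : ∀ a : F, ι (sg Q u (a • e)) ∈ WfS.Zt (P ⊓ ι.range) := fun a => by
    refine ⟨⟨?_, _, rfl⟩, ?_⟩
    · obtain ⟨y, hy, e2⟩ := e1 ⟨(fl.eich_mem (i := 1) (by omega) u1 (fl.mono (by omega) u1)
        fun y hy => fl.pol (i := 1) (j := 2) (by omega) hy (Submodule.smul_mem _ a a1)).1,
        eichler_mem_EG u (a • e)⟩
      exact (show y = sg Q u (a • e) from Subtype.ext e2) ▸ hy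
    · rintro _ ⟨hz, z, rfl⟩
      have z1 := hW (mem_map_of_mem (EG Q).subtype (show z ∈ P.comap ι from hz))
      obtain ⟨c, hc⟩ := fl.span (i := 0) u1 u2 ((mem_Sd fl.mono).1 z1 1 _ (Submodule.smul_mem _ a a1))
      rw [fl.zero, Submodule.mem_bot] at hc
      have c1 : z.1.1 (a • e) = a • e + c • u := by
        rw [add_assoc, add_eq_zero_iff_eq_neg, neg_eq' F] at hc; exact hc
      have c2 := conj_sg z u (a • e)
      rw [show z.1.1 u = u from fl.fix1 z1 u1, c1, sg_add_smul (o a), mul_inv_eq_iff_eq_mul] at c2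
      rw [← map_mul, ← map_mul, c2]
  have lin : ∀ n : P, ∃ y : OG Q, Ac ι n (SS.oO Q y) := fun n => by
    obtain ⟨T, hT⟩ := hN n n.2
    have c : ∀ a : F, sg Q (T.T u) (T.σ a • T.T e) = sg Q u (a • e) := fun a => h.inj (by
      rw [← T.smul, ← hT.sg (o a), mul_inv_eq_iff_eq_mul, h1 n.2 _ (mZ a)])
    have c1 := c 1
    rw [map_one, one_smul, one_smul] at c1
    have ne : ∀ a : F, e ≠ a • u := fun a c => a2 (c ▸ Submodule.smul_mem _ a u1)
    have n1 : sg Q u e ≠ 1 := fun c => by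
      obtain ⟨a, c⟩ := (sg_eq_one h.nd (ok_of ts) u0).1 c
      exact ne a c
    have sp := span_of_sg_eq h.nd (ok_of ts) (Rig.ok T (ok_of ts)) n1 c1.symm
    obtain ⟨α, β, b1⟩ := Submodule.mem_span_pair.1 (sp.ge (Submodule.subset_span (Set.mem_insert _ _)))
    obtain ⟨γ, δ, b2⟩ := Submodule.mem_span_pair.1
      (sp.ge (Submodule.subset_span (Set.mem_insert_of_mem _ rfl)))
    have inj : ∀ a b : F, sg Q u (a • e) = sg Q u (b • e) → a = b := fun a b c => by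
      obtain ⟨d, c⟩ := (sg_inj h.nd (o a) (o b) u0).1 c
      by_contra c'
      refine ne ((a - b)⁻¹ * d) ?_
      rw [mul_smul, ← sub_eq_iff_eq_add'.2 c, ← sub_smul, inv_smul_smul₀ (sub_ne_zero.2 c')]
    have d : ∀ a : F, T.σ a * (α * δ + β * γ) = a := fun a => inj _ _ (by
      rw [← c a, ← b1, ← b2, smul_add, smul_smul, smul_smul, sg_comb ts]
      congr 2; ring)
    have d1 := d 1
    rw [map_one, one_mul] at d1
    obtain ⟨y, hy⟩ := SS.exists_oO (x := T) (RingEquiv.ext fun a => by simpa [d1] using d a) hT.c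
    exact ⟨y, hy ▸ hT⟩
  choose p hp using lin
  let π : P →* OG Q := MonoidHom.mk' p fun a b => SS.oO_injective
    (h.uniq (hp _) (by rw [map_mul]; exact (hp a).mul (hp b)))
  have pi : ∀ (n : P) (y : EG Q), (n : G) = ι y → π n = y := fun n y c =>
    SS.oO_injective (h.uniq (hp n) (c ▸ ac_self ι y))
  have kr : ∀ n : P, π n = 1 ↔ (n : G) ∈ P ⊓ 𝐂[ι.range] := fun n =>
    ⟨fun c => ⟨n.2, Ac.cent (by have := hp n; rwa [show p n = 1 from c, map_one] at this)⟩,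
      fun c => SS.oO_injective (h.uniq (hp n) (by rw [map_one]; exact ac_one c.2))⟩
  have rU : π.range ⊓ EG Q = U := le_antisymm (sU.max _ ((hP.of_surjective π.rangeRestrict
      π.rangeRestrict_surjective).to_le inf_le_left) (le_inf (by
        rintro _ ⟨y, hy, rfl⟩
        exact ⟨⟨ι y, hy⟩, pi _ _ rfl⟩) sU.le) inf_le_right) (le_inf (by
        rintro _ ⟨y, hy, rfl⟩
        exact ⟨⟨ι y, hy⟩, pi _ _ rfl⟩) sU.le)
  let φ : MulAut P := P.normalizerMonoidHom ⟨g, g1⟩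
  have hφ : ∀ n : P, (φ n : G) = g * n * g⁻¹ := fun n => rfl
  rw [cj_le_iff_forall]
  rintro _ ⟨hx, x, rfl⟩
  have key := h.toDm.chr π (π.comp φ.toMonoidHom) (by
      rw [MonoidHom.range_comp, (MonoidHom.range_eq_top (f := φ.toMonoidHom)).2 φ.surjective,
        ← MonoidHom.range_eq_map])
    (Subgroup.ext fun n => (kr _).trans ((mem_normalizer_iff.1 g2 _).symm.trans (kr n).symm))
    (hP.of_surjective π.rangeRestrict π.rangeRestrict_surjective) (rU ▸ sU) (x := ⟨ι x, hx⟩)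
    (by rw [pi ⟨ι x, hx⟩ x rfl]; exact x.2)
  obtain ⟨y, hy, e2⟩ := rU.le ⟨⟨φ ⟨ι x, hx⟩, rfl⟩, key⟩
  have c := (kr (φ ⟨ι x, hx⟩ * (⟨ι y, hy⟩ : P)⁻¹)).1 (by
    rw [map_mul, map_inv, pi ⟨ι y, hy⟩ y rfl, ← e2]; exact mul_inv_cancel _)
  exact (mul_mem_cancel_right (inv_mem (mem_sup_left (show ι y ∈ P ⊓ ι.range from ⟨hy, y, rfl⟩)))).1 (mem_sup_right c)

theorem Rp.gr (h : Rp ι) (P : Subgroup G) (hP : IsPGroup 2 P) (hN : P ≤ 𝐍[ι.range])
    (hS : IsSyl 2 (P ⊓ ι.range) ι.range) (h1 : P ≤ 𝐂[WfS.Zt (P ⊓ ι.range)]) {g : G}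
    (g1 : g ∈ 𝐍[P]) (g2 : g ∈ 𝐍[P ⊓ 𝐂[ι.range]]) :
    cj(g, P ⊓ ι.range) ≤ (P ⊓ ι.range) ⊔ (P ⊓ 𝐂[ι.range]) := by
  obtain ⟨α, hα⟩ := h.a3 hP hN
  rw [← range_comp_aut ι α] at hS h1 g2 ⊢
  exact (h.comp α).gr' P hP hα hS h1 g1 g2

end Cfsg.Agent.StdO
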