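import Cfsg.Agent.StdO.GrD

/-! A `2`-subgroup of the orthogonal group stabilises a full flag. -/

set_option autoImplicit false
set_option linter.unusedSectionVars false
set_option linter.unusedVariables false

namespace Cfsg.Agent.StdO

open Subgroup Module QuadraticMap Cfsg.Agent.Class.Orth Cfsg.Agent.KSG Cfsg.Agent.PLocal.Amb
  Cfsg.Agent.Lyons
open Cfsg.Agent.StdL (cjh)
open scoped commutatorElement

variable {F V : Type*} [Field F] [Finite F] [CharP F 2] [AddCommGroup V] [Module F V]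
  [FiniteDimensional F V] {Q : QuadraticForm F V} {G : Type*} [Group G] [Finite G]
  {ι : EG Q →* G} {t : G}

local notation "𝐟" => polar Q

/-- Template `RtA.core2`.  Take a complement `W₀` of `U` in `U^⊥` (`W₀ ⊓ U = ⊥`, `W₀ ⊔ U = U^⊥`); it is
nondegenerate (`perp_perp`) of dimension `dim V - 2 dim U`, and `S` acts on it by projecting along
`U`.  If `dim W₀ ≥ 3` use `exists_fixed_singular`, otherwise
`IsPGroup.exists_fixed_point_of_prime_dvd_card_of_fixed_point` (`0` is fixed, `|W₀|` is even). -/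
theorem exists_fix (hQ : ND Q) {S : Subgroup (OG Q)} (hS : IsPGroup 2 S) {U : Submodule F V}
    (hU : TS Q U) (hi : ∀ x ∈ S, ∀ y ∈ U, x.1 y ∈ U) (hd : 2 * finrank F U < finrank F V) :
    ∃ s ∈ perp Q U, s ∉ U ∧ (∀ x ∈ S, x.1 s + s ∈ U) ∧
      (2 * finrank F U + 3 ≤ finrank F V → Q s = 0) := by
  have : Finite V := Module.finite_of_finite F
  have : Fact (Nat.Prime 2) := ⟨Nat.prime_two⟩
  obtain ⟨C, hC⟩ := U.exists_isCompl
  have e1 : U ⊔ C ⊓ perp Q U = perp Q U := by
    rw [← sup_inf_assoc_of_le _ (hU.le_perp le_rfl), hC.sup_eq_top, top_inf_eq]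
  have e2 : U ⊓ (C ⊓ perp Q U) = ⊥ := by rw [← inf_assoc, hC.inf_eq_bot, bot_inf_eq]
  have e3 : C ⊓ perp Q U ≤ perp Q U := inf_le_right
  generalize C ⊓ perp Q U = W at e1 e2 e3
  have d1 := Submodule.finrank_sup_add_finrank_inf_eq U W
  have d2 := finrank_perp hQ U
  rw [e1, e2, finrank_bot] at d1
  have z0 : ∀ y ∈ U, y ∈ W → y = 0 := fun y h1 h2 => (Submodule.mem_bot F).1 (e2 ▸ ⟨h1, h2⟩)
  have uq : ∀ y z : W, y.1 + z.1 ∈ U → y = z := fun y z c => by
    have c1 := z0 _ c (W.add_mem y.2 z.2)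
    rw [add_eq_zero_iff_eq_neg, neg_eq' F] at c1
    exact Subtype.ext c1
  have ex : ∀ y ∈ perp Q U, ∃ z : W, z.1 + y ∈ U := fun y hy => by
    obtain ⟨a, ha, b, hb, rfl⟩ := Submodule.mem_sup.1 (e1.symm ▸ hy : y ∈ U ⊔ W)
    exact ⟨⟨b, hb⟩, by rwa [add_left_comm, add_self' F, add_zero]⟩
  have hW : NDon Q W := fun x hx h => z0 x (perp_perp hQ U ▸ fun y hy => by
    obtain ⟨a, ha, b, hb, rfl⟩ := Submodule.mem_sup.1 (e1.symm ▸ hy : y ∈ U ⊔ W)
    rw [polar_add_left, e3 hx a ha, polar_comm, h b hb, add_zero]) hx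
  have pm : ∀ (n : S) (y : W), n.1.1 y ∈ perp Q U := fun n y =>
    perp_map_mem (hi _ (inv_mem n.2)) (e3 y.2)
  choose π hπ using fun (n : S) (y : W) => ex _ (pm n y)
  have a1 : ∀ y, π 1 y = y := fun y => uq _ _ (hπ 1 y)
  have a2 : ∀ m n y, π (m * n) y = π m (π n y) := fun m n y => uq _ _ (by
    have c := add_mem (add_mem (hπ (m * n) y) (hπ m (π n y))) (hi _ m.2 _ (hπ n y))
    have c' : (m * n).1.1 y.1 = m.1.1 (n.1.1 y.1) := rfl
    rwa [map_add, c', add_add_add_comm (π (m * n) y).1, add_assoc, add_comm (m.1.1 (π n y).1),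
      add_self' F, add_zero] at c)
  have a3 : ∀ n, π n 0 = 0 := fun n => uq _ _ (by simpa using hπ n 0)
  obtain ⟨s, s0, s1, s2⟩ : ∃ s : W, s ≠ 0 ∧ (3 ≤ finrank F W → Q s = 0) ∧ ∀ n, π n s = s := by
    by_cases h3 : 3 ≤ finrank F W
    · obtain ⟨s, s0, s1, s2⟩ := exists_fixed_singular hW.nd_comp h3 hS π a1 a2 (fun n y => by
        change Q (π n y).1 = Q y.1
        have c := Q_add (Q := Q) ((π n y).1 + n.1.1 y) (n.1.1 y)
        rwa [add_assoc, add_self' F, add_zero, hU _ (hπ n y), pm n y _ (hπ n y), OG.map_Q, zero_add,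
          add_zero] at c) a3
      exact ⟨s, s0, fun _ => s1, s2⟩
    · let _ : MulAction S W := { smul := π, one_smul := a1, mul_smul := a2 }
      have : Nontrivial W := Module.nontrivial_of_finrank_pos (R := F) (by omega)
      obtain ⟨x, hx⟩ := exists_ne (0 : W)
      have h2 : 2 ∣ Nat.card W := by
        rw [← addOrderOf_eq_prime (x := x) (p := 2) (Subtype.ext (by
          rw [two_nsmul]; exact add_self' F x.1)) hx]
        exact addOrderOf_dvd_natCard _
      obtain ⟨s, x1, x0⟩ := hS.exists_fixed_point_of_prime_dvd_card_of_fixed_point _ h2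
        (show (0 : W) ∈ MulAction.fixedPoints S W from a3)
      exact ⟨s, x0.symm, fun h => absurd h h3, x1⟩
  refine ⟨s, e3 s.2, fun c => s0 (Subtype.ext (z0 _ c s.2)), fun n hn => ?_, fun h => s1 (by omega)⟩
  have := hπ ⟨n, hn⟩ s
  rwa [s2, add_comm] at this

theorem GrA.step (hQ : ND Q) {S : Subgroup (OG Q)} (hS : IsPGroup 2 S) (U : Submodule F V)
    (h : TS Q U ∧ (∀ x ∈ S, ∀ y ∈ U, x.1 y ∈ U) ∧ 2 * finrank F U < finrank F V) :
    ∃ U', U ≤ U' ∧ finrank F U' = finrank F U + 1 ∧ (∀ x ∈ S, ∀ y ∈ U', x.1 y + y ∈ U) ∧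
      U' ≤ perp Q U' ∧ (2 * finrank F U + 3 ≤ finrank F V → TS Q U') := by
  obtain ⟨hU, hi, hd⟩ := h
  obtain ⟨s, s1, s2, s3, s4⟩ := exists_fix hQ hS hU hi hd
  refine ⟨U ⊔ Submodule.span F {s}, le_sup_left, Submodule.finrank_sup_span_singleton s2,
    fun x hx y hy => ?_, fun y hy z hz => ?_, fun h =>
      hU.sup (ts_span_singleton (s4 h)) ((Submodule.span_singleton_le_iff_mem _ _).2 s1)⟩
  · obtain ⟨a, ha, _, hb, rfl⟩ := Submodule.mem_sup.1 hy
    obtain ⟨c, rfl⟩ := Submodule.mem_span_singleton.1 hb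
    rw [map_add, map_smul, add_add_add_comm, ← smul_add]
    exact add_mem (add_mem (hi x hx a ha) ha) (U.smul_mem c (s3 x hx))
  · obtain ⟨a, ha, _, hb, rfl⟩ := Submodule.mem_sup.1 hy
    obtain ⟨c, rfl⟩ := Submodule.mem_span_singleton.1 hb
    obtain ⟨a', ha', _, hb', rfl⟩ := Submodule.mem_sup.1 hz
    obtain ⟨c', rfl⟩ := Submodule.mem_span_singleton.1 hb'
    simp only [polar_add_left, polar_add_right, polar_smul_left', polar_smul_right', f_self,
      hU.polar_eq ha' ha, s1 a' ha', (polar_comm Q s a).trans (s1 a ha), mul_zero, add_zero]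

/-- `dim V = 2 k` (`Dm.even`).  Induction on `j ≤ k`: a monotone `W` with `W i = W j` for `i ≥ j`,
`finrank (W i) = i` for `i ≤ j`, `S` trivial on the factors, `W j ≤ (W j)^⊥`, and `TS Q (W i)` for
`i ≤ j`, `i < k` (add the vector of `exists_fix`).  Then put `W' i = if i ≤ k then W i else
perp Q (W (2 * k - i))`; `(W k)^⊥ = W k` by dimension; `triv_perp`, `finrank_perp`, `perp_perp`. -/
theorem Dm.exists_fl (h : Dm Q) {S : Subgroup (OG Q)} (hS : IsPGroup 2 S) :
    ∃ k W, Fl Q k W ∧ S ≤ Sd Q W 1 := by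
  obtain ⟨k, hk⟩ := h.even
  have d8 := h.d8
  have hQ := h.nd
  choose! nx n1 n2 n3 n4 n5 using GrA.step hQ hS
  let W : ℕ → Submodule F V := fun i => nx^[i] ⊥
  have hs : ∀ i, W (i + 1) = nx (W i) := fun i => Function.iterate_succ_apply' _ _ _
  have I : ∀ i, i < k → (TS Q (W i) ∧ (∀ x ∈ S, ∀ y ∈ W i, x.1 y ∈ W i) ∧
      2 * finrank F (W i) < finrank F V) ∧ finrank F (W i) = i := fun i => by
    induction i with
    | zero =>
      have e : finrank F (W 0) = 0 := finrank_bot F V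
      exact fun _ => ⟨⟨fun y hy => by rw [(Submodule.mem_bot F).1 hy, map_zero], fun x _ y hy => by
        rw [(Submodule.mem_bot F).1 hy, map_zero]; exact zero_mem _, by omega⟩, e⟩
    | succ i ih =>
      intro hi
      obtain ⟨h1, h2⟩ := ih (by omega)
      have h3 := n2 _ h1
      rw [hs]
      exact ⟨⟨n5 _ h1 (by omega), fun x hx y hy =>
        (Submodule.add_mem_iff_left _ hy).1 (n1 _ h1 (n3 _ h1 x hx y hy)), by omega⟩, by omega⟩
  have rk : ∀ i, i ≤ k → finrank F (W i) = i := fun i hi => by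
    rcases i with _ | i
    · exact (I 0 (by omega)).2
    · rw [hs, n2 _ (I i hi).1, (I i hi).2]
  have B : ∀ m, m ≤ k → W (m - 1) ≤ W m ∧ ∀ x ∈ S, ∀ y ∈ W m, x.1 y + y ∈ W (m - 1) := fun m hm => by
    rcases m with _ | m
    · exact ⟨le_rfl, fun x hx y hy => add_mem ((I 0 (by omega)).1.2.1 x hx y hy) hy⟩
    · rw [hs]
      exact ⟨n1 _ (I m hm).1, n3 _ (I m hm).1⟩
  have mid : perp Q (W k) = W k := by
    have h1 := finrank_perp hQ (W k)
    have h2 := rk k le_rfl
    refine (Submodule.eq_of_le_of_finrank_eq ?_ (by omega)).symm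
    obtain ⟨j, rfl⟩ : ∃ j, k = j + 1 := ⟨k - 1, by omega⟩
    rw [hs]
    exact n4 _ (I j (by omega)).1
  let W' : ℕ → Submodule F V := fun i => if i ≤ k then W i else perp Q (W (2 * k - i))
  have lo : ∀ i, i ≤ k → W' i = W i := fun i hi => if_pos hi
  have up : ∀ i, k ≤ i → W' i = perp Q (W (2 * k - i)) := fun i hi => by
    rcases hi.eq_or_lt with rfl | hi
    · rw [lo _ le_rfl, show 2 * k - k = k by omega, mid]
    · exact if_neg hi.not_ge
  have mono : Monotone W' := monotone_nat_of_le_succ fun i => by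
    rcases lt_or_ge i k with hi | hi
    · rw [lo _ hi, lo _ hi.le]
      exact (B (i + 1) hi).1
    · rw [up _ hi, up _ (hi.trans i.le_succ)]
      exact perp_anti (B (2 * k - i) (by omega)).1
  refine ⟨k, W', ⟨h, by omega, fun i hi => ?_, mono, fun i j e => ?_, ?_⟩, fun x hx =>
    (mem_Sd mono).2 fun i => ?_⟩
  · rcases le_total i k with h1 | h1
    · rw [lo _ h1, rk _ h1]
    · have h2 := finrank_perp hQ (W (2 * k - i))
      have h3 := rk (2 * k - i) (by omega)
      rw [up _ h1]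
      omega
  · rcases le_total i k with h1 | h1
    · rw [lo _ h1, up j (by omega), show 2 * k - j = i by omega]
    · rw [up _ h1, perp_perp hQ, lo j (by omega), show 2 * k - i = j by omega]
  · rw [lo _ (by omega)]
    exact (I _ (by omega)).1.1
  · rcases lt_or_ge i k with hi | hi
    · rw [lo _ hi, lo _ hi.le]
      exact (B (i + 1) hi).2 x hx
    · rw [up _ hi, up _ (hi.trans i.le_succ)]
      exact triv_perp hQ (B (2 * k - i) (by omega)).1 ((B (2 * k - i) (by omega)).2 x hx)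

end Cfsg.Agent.StdO
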