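import Cfsg.Agent.StdO.GrD

/-! Basic facts on full flags. -/

set_option autoImplicit false
set_option linter.unusedSectionVars false
set_option linter.unusedVariables false

namespace Cfsg.Agent.StdO

open Subgroup Module QuadraticMap Cfsg.Agent.Class.Orth Cfsg.Agent.KSG Cfsg.Agent.PLocal.Amb
  Cfsg.Agent.Lyons
open Cfsg.Agent.StdL (cjh)
open scoped commutatorElement

variable {F V : Type*} [Field F] [Finite F] [CharP F 2] [AddCommGroup V] [Module F V]
  [FiniteDimensional F V] {Q : QuadraticForm F V} {G : Type*} [Group G] [Finite G]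
  {ι : EG Q →* G} {t : G}

local notation "𝐟" => polar Q

variable {k i j a b d : ℕ} {W : ℕ → Submodule F V} {x : OG Q} {u v w y z : V}

theorem Sd_stab (h : Monotone W) (hx : x ∈ Sd Q W d) (hy : y ∈ W i) : x.1 y ∈ W i :=   ((W i).add_mem_iff_left hy).1 ((mem_Sd h).1 hx i y (h (Nat.le_add_right _ _) hy))

/-- `[x, y] - 1 = ((x - 1) (y - 1) - (y - 1) (x - 1)) x⁻¹ y⁻¹` -/
theorem Sd_comm (h : Monotone W) (a b : ℕ) : ⁅Sd Q W a, Sd Q W b⁆ ≤ Sd Q W (a + b) := by
  refine commutator_le.2 fun x hx y hy => (mem_Sd h).2 fun i m hm => ?_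
  have h1 := Sd_stab h (inv_mem hx) (Sd_stab h (inv_mem hy) hm)
  obtain ⟨n, e⟩ : ∃ n, n = (x⁻¹).1 ((y⁻¹).1 m) := ⟨_, rfl⟩
  rw [← e] at h1
  have e1 : ⁅x, y⁆.1 m = x.1 (y.1 n) := by rw [e]; rfl
  have e2 : m = y.1 (x.1 n) := by rw [e, OG.apply_inv_apply, OG.apply_inv_apply]
  have h2 := (mem_Sd h).1 hx i _ ((mem_Sd h).1 hy (i + a) n (by rwa [add_assoc]))
  have h3 := (mem_Sd h).1 hy i _ ((mem_Sd h).1 hx (i + b) n (by rwa [add_assoc, add_comm b]))
  have h4 := add_mem h2 h3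
  rw [map_add, map_add] at h4
  rw [e1, e2]
  convert h4 using 1
  linear_combination (norm := abel1) -add_self' F (x.1 n) - add_self' F (y.1 n) - add_self' F n

theorem gam_le (h : Monotone W) {S : Subgroup (OG Q)} (hS : S ≤ Sd Q W 1) (j : ℕ) :
    gam S j ≤ Sd Q W (j + 1) := by
  induction j with
  | zero => exact hS
  | succ j ih => exact (commutator_mono ih hS).trans (Sd_comm h _ _)

theorem cm_eich (o : Ok Q u w) (hx : x.1 u = u) : ⁅x, eichler Q u w⁆ = eichler Q u (x.1 w + w) := by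
  rw [commutatorElement_def, conj_eichler, hx, ← eichler_neg o.l o.p, neg_eq' F,
    eichler_add o.l (by rw [← o.p, ← OG.map_polar x u w, hx]) o.p]

theorem cm_eich' (o : Ok Q u w) (hx : x.1 u = u) : ⁅eichler Q u w, x⁆ = eichler Q u (x.1 w + w) := by
  rw [← commutatorElement_inv, cm_eich o hx, ← eichler_neg o.l (by
    rw [polar_add_right, o.p, add_zero, ← o.p, ← OG.map_polar x u w, hx]), neg_eq' F]

namespace Fl

variable (h : Fl Q k W)
include h

theorem k4 : 4 ≤ k := by have := h.d8; have := h.top; omega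

theorem zero : W 0 = ⊥ := Submodule.finrank_eq_zero.1 (h.rk 0 (Nat.zero_le _))

theorem top' (hi : 2 * k ≤ i) : W i = ⊤ := top_le_iff.1
  ((Submodule.eq_top_of_finrank_eq ((h.rk _ le_rfl).trans h.top.symm)).ge.trans (h.mono hi))

theorem ex (hi : i < 2 * k) : ∃ w ∈ W (i + 1), w ∉ W i := by
  by_contra! r
  have := Submodule.finrank_mono (show W (i + 1) ≤ W i from r)
  rw [h.rk _ hi, h.rk _ hi.le] at this
  omega

theorem span (h1 : w ∈ W (i + 1)) (h2 : w ∉ W i) (hy : y ∈ W (i + 1)) : ∃ c : F, y + c • w ∈ W i := by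
  have hi : i < 2 * k := lt_of_not_ge fun r => h2 (by rw [h.top' r]; trivial)
  have l1 : W i < W i ⊔ Submodule.span F {w} := lt_of_le_of_ne le_sup_left fun e =>
    h2 (by rw [e]; exact Submodule.mem_sup_right (Submodule.mem_span_singleton_self w))
  have l2 : W i ⊔ Submodule.span F {w} = W (i + 1) := Submodule.eq_of_le_of_finrank_le
    (sup_le (h.mono (Nat.le_succ i)) ((Submodule.span_singleton_le_iff_mem _ _).2 h1)) (by
      have := Submodule.finrank_lt_finrank_of_lt l1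
      rw [h.rk _ hi.le] at this
      rw [h.rk _ hi]; exact this)
  rw [← l2, Submodule.mem_sup] at hy
  obtain ⟨m, hm, _, hz, rfl⟩ := hy
  obtain ⟨c, rfl⟩ := Submodule.mem_span_singleton.1 hz
  exact ⟨c, by rwa [add_assoc, add_self' F, add_zero]⟩

theorem pol (hij : i + j ≤ 2 * k) (h1 : y ∈ W i) (h2 : z ∈ W j) : 𝐟 y z = 0 := by
  have : z ∈ perp Q (W i) := by
    rw [h.pp i (2 * k - i) (by omega)]; exact h.mono (by omega) h2
  exact this y h1

theorem pol_ne (hij : i + j + 1 = 2 * k) (h1 : y ∈ W (i + 1)) (h2 : y ∉ W i) (h3 : z ∈ W (j + 1))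
    (h4 : z ∉ W j) : 𝐟 y z ≠ 0 := fun e => h4 (by
  rw [← h.pp (i + 1) j (by omega)]
  intro m hm
  obtain ⟨c, hc⟩ := h.span h1 h2 hm
  have := h.pol (by omega) hc h3
  rwa [polar_add_left, polar_smul_left', e, mul_zero, add_zero] at this)

theorem sing (hi : i < k) (hy : y ∈ W i) : Q y = 0 := h.ts y (h.mono (by omega) hy)

theorem mem_Md : x ∈ Md Q k W ↔ ∀ y ∈ W (k + 1), x.1 y + y ∈ W (k - 1) := mem_St (h.mono (by omega))

theorem fix1 (hx : x ∈ Sd Q W 1) (hu : u ∈ W 1) : x.1 u = u := by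
  have := (mem_Sd h.mono).1 hx 0 u hu
  rw [h.zero, Submodule.mem_bot, ← sub_eq' F] at this
  exact sub_eq_zero.1 this

/-- `x ∈ Sd W d` gives `x * x ∈ Sd W (d + d)`, and `Sd W d = ⊥` for `d ≥ 2 k` -/
theorem pgrp : IsPGroup 2 (Sd Q W 1) := by
  refine isPGroup_iff.2 fun x hx => ⟨2 * k, OG.ext fun y => ?_⟩
  have key : ∀ n : ℕ, x ^ 2 ^ n ∈ Sd Q W (2 ^ n) := fun n => by
    induction n with
    | zero => simpa using hx
    | succ n ih =>
      rw [pow_succ, mul_two, pow_add]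
      refine (mem_Sd h.mono).2 fun i m hm => ?_
      have := (mem_Sd h.mono).1 ih i _ ((mem_Sd h.mono).1 ih (i + 2 ^ n) m (by rwa [add_assoc]))
      rwa [map_add, add_assoc, ← add_assoc ((x ^ 2 ^ n).1 m), add_self' F, zero_add] at this
  have := (mem_Sd h.mono).1 (key (2 * k)) 0 y (by
    rw [h.top' (by rw [zero_add]; exact Nat.lt_two_pow_self.le)]; trivial)
  rw [h.zero, Submodule.mem_bot, ← sub_eq' F] at this
  exact sub_eq_zero.1 this

/-- `triv_perp`: `x` fixes `(W 1)^⊥` pointwise; `eq_one_of_fix` -/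
theorem eq_one (hx : ∀ y, x.1 y + y ∈ W 1) : x = 1 := by
  have k4 := h.k4
  obtain ⟨u, h1, h2⟩ := h.ex (i := 0) (by omega)
  refine eq_one_of_fix h.nd (h.sing (by omega) h1) (fun e => h2 (by rw [e]; exact zero_mem _))
    fun y hy => ?_
  have := triv_perp h.nd (h.mono (show 1 ≤ 2 * k by omega)) (fun m _ => hx m) y fun m hm => by
    obtain ⟨c, hc⟩ := h.span h1 h2 hm
    rw [h.zero, Submodule.mem_bot, ← sub_eq' F, sub_eq_zero] at hc
    rw [hc, polar_smul_left', hy, mul_zero]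
  rw [h.pp _ 0 (add_zero _), h.zero, Submodule.mem_bot, ← sub_eq' F] at this
  exact sub_eq_zero.1 this

/-- `gam_le` for the chain `W' i = if i < k then W i else W (i + 1)`, and `eq_one` -/
theorem cls : gam (Sd Q W 1 ⊓ Md Q k W) (2 * k - 3) = ⊥ := by
  have k4 := h.k4
  have hm : Monotone fun i => W (if i < k then i else i + 1) := fun i j hij =>
    h.mono (by split_ifs <;> omega)
  have hS : Sd Q W 1 ⊓ Md Q k W ≤ Sd Q (fun i => W (if i < k then i else i + 1)) 1 := by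
    refine fun x hx => (mem_Sd hm).2 fun i y hy => ?_
    rcases lt_trichotomy (i + 1) k with r | r | r
    · rw [if_pos r] at hy
      rw [if_pos (by omega)]
      exact (mem_Sd h.mono).1 hx.1 i y hy
    · rw [if_neg (by omega), r] at hy
      rw [if_pos (by omega), show i = k - 1 by omega]
      exact h.mem_Md.1 hx.2 y hy
    · rw [if_neg (by omega)] at hy
      rw [if_neg (by omega)]
      exact (mem_Sd h.mono).1 hx.1 _ y hy
  refine (eq_bot_iff_forall _).2 fun x hx => h.eq_one fun y => ?_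
  have := (mem_Sd hm).1 (gam_le hm hS _ hx) 1 y (by
    rw [if_neg (by omega), h.top' (by omega)]; trivial)
  rwa [if_pos (by omega)] at this

/-- `n m + m = c • w + 𝐟 m w • z`, `c = 𝐟 m z + Q z * 𝐟 m w` (`sg_apply`).  Let `m ∈ W (j + 1)`.  If
`𝐟 m w ≠ 0` then `2 k < j + 1 + i` (`pol`), so `z ∈ W (2 k - i) ≤ W j`.  If `w ∉ W j` then `j < i`,
`j < k - 1`, so `𝐟 m z = 𝐟 m w = 0`. -/
theorem eich_mem (hi : i ≤ 2 * k) (h1 : w ∈ W i) (h2 : w ∈ W (k - 1)) (h3 : z ∈ perp Q (W i)) :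
    eichler Q w z ∈ Sd Q W 1 ⊓ Md Q k W := by
  have k4 := h.k4
  have o : Ok Q w z := ⟨h.ts w h2, h3 w h1⟩
  have e : ∀ m, (eichler Q w z).1 m + m = (𝐟 m z + Q z * 𝐟 m w) • w + 𝐟 m w • z := fun m => by
    rw [show (eichler Q w z).1 m = _ from sg_apply o m]
    linear_combination (norm := abel1) add_self' F m
  refine ⟨(mem_Sd h.mono).2 fun j m hm => ?_, h.mem_Md.2 fun m hm => ?_⟩
  · rw [e]
    refine add_mem ?_ ?_
    · by_cases hw : w ∈ W j
      · exact Submodule.smul_mem _ _ hw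
      · have a1 : j < i := lt_of_not_ge fun r => hw (h.mono r h1)
        have a2 : j < k - 1 := lt_of_not_ge fun r => hw (h.mono r h2)
        rw [h3 m (h.mono a1 hm), h.pol (by omega) hm h2, mul_zero, add_zero, zero_smul]
        exact zero_mem _
    · by_cases r : j + 1 + i ≤ 2 * k
      · rw [h.pol r hm h1, zero_smul]
        exact zero_mem _
      · rw [h.pp i (2 * k - i) (by omega)] at h3
        exact Submodule.smul_mem _ _ (h.mono (by omega) h3)
  · rw [e, h.pol (by omega) hm h2, zero_smul, add_zero]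
    exact Submodule.smul_mem _ _ h2

/-- Downward induction on `i₀` (start at `2 k`, where `x = 1`).  Let `x` fix `W i` pointwise,
`y ∈ W (i + 1) \ W i`, `w = x y + y ∈ W i`; `w ∈ (W i)^⊥` (`triv_perp`), so `w ∈ W (k - 1)`
(`i < k`; `i = k` by `Md`; `i > k`: `W (2 k - i)`).  `Q (x y) = Q y` gives `𝐟 y w = Q w = 0`.  Take
`z ∈ (W i)^⊥` with `𝐟 y z = 1` (`exists_perp`), `n = eichler w z` fixes `W i`, `n y = y + w`, so
`n * x` fixes `W (i + 1)` pointwise (`span`); `eich_mem`. -/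
theorem peel (G₁ N : Subgroup (OG Q)) (i₀ : ℕ)
    (H : ∀ i, i₀ ≤ i → ∀ x ∈ G₁, ∀ y ∈ W (i + 1), ∀ z ∈ perp Q (W i), x.1 y + y ∈ W (k - 1) →
      Ok Q (x.1 y + y) z → eichler Q (x.1 y + y) z ∈ G₁ ⊓ N)
    (hx : x ∈ Sd Q W 1 ⊓ Md Q k W ⊓ G₁) (h0 : ∀ m ∈ W i₀, x.1 m = m) : x ∈ N := by
  have k4 := h.k4
  suffices key : ∀ d i, i₀ ≤ i → 2 * k ≤ i + d → ∀ x ∈ Sd Q W 1 ⊓ Md Q k W ⊓ G₁,
      (∀ m ∈ W i, x.1 m = m) → x ∈ N from key (2 * k) i₀ le_rfl (by omega) x hx h0
  have base : ∀ i, 2 * k ≤ i → ∀ x : OG Q, (∀ m ∈ W i, x.1 m = m) → x ∈ N := fun i hi x hx => by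
    rw [show x = 1 from OG.ext fun m => hx m (by rw [h.top' hi]; trivial)]
    exact one_mem _
  intro d
  induction d with
  | zero => exact fun i _ hi x _ => base i hi x
  | succ d ih =>
    intro i h1 h2 x hx h0
    rcases le_or_gt (2 * k) i with hi | hi
    · exact base i hi x h0
    obtain ⟨y, y1, y2⟩ := h.ex hi
    have w1 : x.1 y + y ∈ W i := (mem_Sd h.mono).1 hx.1.1 i y y1
    have w2 : x.1 y + y ∈ perp Q (W i) := fun m hm => by
      rw [polar_add_right, ← OG.map_polar x m y, h0 m hm, CharTwo.add_self_eq_zero]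
    have w3 : x.1 y + y ∈ W (k - 1) := by
      rcases lt_trichotomy i k with r | rfl | r
      · exact h.mono (by omega) w1
      · exact h.mem_Md.1 hx.1.2 y y1
      · rw [h.pp i (2 * k - i) (by omega)] at w2
        exact h.mono (by omega) w2
    obtain ⟨z, z1, z2⟩ := exists_perp h.nd y2 1
    have o : Ok Q (x.1 y + y) z := ⟨h.ts _ w3, z1 _ w1⟩
    have n1 := h.eich_mem hi.le w1 w3 z1
    have n2 := H i h1 x hx.2 y y1 z z1 w3 o
    have e : x.1 y = x.1 y + y + y := by rw [add_assoc, add_self' F, add_zero]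
    have p : 𝐟 y (x.1 y + y) = 0 := by
      have := OG.map_Q x y
      rw [e, Q_add, o.l, zero_add, add_eq_left] at this
      rw [polar_comm, this]
    have f1 : ∀ m ∈ W i, (eichler Q (x.1 y + y) z).1 m = m := fun m hm =>
      eichler_apply_of_perp_perp (w2 m hm) (z1 m hm)
    have f2 : (eichler Q (x.1 y + y) z * x).1 y = y := by
      rw [OG.mul_apply, congrArg (eichler Q (x.1 y + y) z).1 e, map_add, f1 _ w1, eichler_apply_of_perp o.l o.p p, z2, one_smul,
        add_comm y, ← add_assoc, add_self' F, zero_add]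
    have := ih (i + 1) (by omega) (by omega) _ (mul_mem (show _ ∈ _ ⊓ G₁ from ⟨n1, n2.1⟩) hx)
      fun m hm => by
        obtain ⟨c, hc⟩ := h.span y1 y2 hm
        have : (eichler Q (x.1 y + y) z * x).1 (m + c • y) = m + c • y := by
          rw [OG.mul_apply, h0 _ hc, f1 _ hc]
        rwa [map_add, map_smul, f2, add_left_inj] at this
    simpa using N.mul_mem (N.inv_mem n2.2) this

theorem refl_mem (hv : v ∈ W k) : refl Q v ∈ Sd Q W 1 := (mem_Sd h.mono).2 fun j m hm => by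
  rw [refl_apply, sub_eq' F, add_right_comm, add_self' F, zero_add]
  rcases le_or_gt k j with r | r
  · exact Submodule.smul_mem _ _ (h.mono r hv)
  · rw [h.pol (by omega) hm hv, mul_zero, zero_smul]
    exact zero_mem _

/-- `peel` with `G₁ = ⊤`, `N = EG Q`, `i₀ = 0` -/
theorem mem_EG (hx : x ∈ Sd Q W 1) (hm : x ∈ Md Q k W) : x ∈ EG Q :=   h.peel ⊤ (EG Q) 0 (fun _ _ _ _ _ _ _ _ _ _ => ⟨mem_top _, eichler_mem_EG _ _⟩) ⟨⟨hx, hm⟩, mem_top _⟩
    fun m r => by rw [h.zero, Submodule.mem_bot] at r; rw [r, map_zero]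

/-- Let `y ∈ W (k + 1)`, `v = x y + y ∈ W k \ W (k - 1)`; `y ∉ W k`, `Q v = 𝐟 y v ≠ 0` (`pol_ne`),
`refl v` interchanges `y` and `x y`, so `refl v * x ∈ Md` (`span`). -/
theorem exists_v (hx : x ∈ Sd Q W 1) (hm : x ∉ Md Q k W) :
    ∃ v ∈ W k, Q v ≠ 0 ∧ refl Q v * x ∈ Md Q k W := by
  have k4 := h.k4
  obtain ⟨k, rfl⟩ : ∃ k', k = k' + 1 := ⟨k - 1, by omega⟩
  rw [h.mem_Md] at hm
  push Not at hm
  obtain ⟨y, y1, v2⟩ := hm
  rw [Nat.add_sub_cancel] at v2
  have v1 := (mem_Sd h.mono).1 hx _ y y1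
  have y2 : y ∉ W (k + 1) := fun r => v2 ((mem_Sd h.mono).1 hx _ y r)
  have q : Q (x.1 y + y) ≠ 0 := fun r => by
    have := OG.map_Q x y
    rw [show x.1 y = x.1 y + y + y by rw [add_assoc, add_self' F, add_zero], Q_add, r, zero_add,
      add_eq_left, polar_comm] at this
    exact h.pol_ne (by omega) y1 y2 v1 v2 this
  refine ⟨_, v1, q, h.mem_Md.2 fun m hm => ?_⟩
  have f : (refl Q (x.1 y + y) * x).1 y = y := by
    rw [← sub_eq' F] at q ⊢
    exact refl_sub_apply (OG.map_Q x y) q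
  obtain ⟨c, hc⟩ := h.span y1 y2 hm
  have := (mem_Sd h.mono).1 (mul_mem (h.refl_mem v1) hx) k _ hc
  rw [map_add, map_smul, f] at this
  rw [Nat.add_sub_cancel]
  convert this using 1
  linear_combination (norm := abel1) -add_self' F (c • y)

/-- `mem_EG`, `exists_v`, `refl_notMem` -/
theorem md_eq : Sd Q W 1 ⊓ Md Q k W = Sd Q W 1 ⊓ EG Q := by
  refine le_antisymm (fun x hx => ⟨hx.1, h.mem_EG hx.1 hx.2⟩) fun x hx => ⟨hx.1, by_contra fun r => ?_⟩
  obtain ⟨v, h1, h2, h3⟩ := h.exists_v hx.1 r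
  have := mul_mem (h.mem_EG (mul_mem (h.refl_mem h1) hx.1) h3) (inv_mem hx.2)
  rw [mul_inv_cancel_right] at this
  exact h.toDm.refl_notMem h2 this

end Fl

end Cfsg.Agent.StdO
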