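import Cfsg.Agent.StdO.BasB

/-! Flags, shifting subgroups and the lower central series (for `Rp.gr`). -/

set_option autoImplicit false
set_option linter.unusedSectionVars false
set_option linter.unusedVariables false

namespace Cfsg.Agent.StdO

open Subgroup Module QuadraticMap Cfsg.Agent.Class.Orth Cfsg.Agent.KSG Cfsg.Agent.PLocal.Amb
  Cfsg.Agent.Lyons
open Cfsg.Agent.StdL (cjh)
open scoped commutatorElement

variable {F V : Type*} [Field F] [Finite F] [CharP F 2] [AddCommGroup V] [Module F V]
  [FiniteDimensional F V] {Q : QuadraticForm F V} {G : Type*} [Group G] [Finite G]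
  {ι : EG Q →* G} {t : G}

local notation "𝐟" => polar Q

/-- the terms `γ_{j+1}` of the lower central series -/
def gam {H : Type*} [Group H] (S : Subgroup H) : ℕ → Subgroup H
  | 0 => S
  | j + 1 => ⁅gam S j, S⁆

theorem gam_map {H K : Type*} [Group H] [Group K] (f : H →* K) (S : Subgroup H) :
    ∀ j, (gam S j).map f = gam (S.map f) j
  | 0 => rfl
  | j + 1 => by rw [gam, map_commutator, gam_map f S j, gam]

theorem gam_succ_le {H : Type*} [Group H] (S : Subgroup H) : ∀ j, gam S (j + 1) ≤ gam S j
  | 0 => commutator_le.2 fun _ ha _ hb => mul_mem (mul_mem (mul_mem ha hb) (inv_mem ha)) (inv_mem hb)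
  | j + 1 => commutator_mono (gam_succ_le S j) le_rfl

theorem gam_anti {H : Type*} [Group H] (S : Subgroup H) : Antitone (gam S) :=
  antitone_nat_of_succ_le (gam_succ_le S)

variable (Q) in
/-- elements acting trivially on `B / A` (for `A ≤ B`) -/
def St (A B : Submodule F V) : Subgroup (OG Q) := closure {x | ∀ y ∈ B, x.1 y + y ∈ A}

theorem mem_St {A B : Submodule F V} (h : A ≤ B) {x : OG Q} :
    x ∈ St Q A B ↔ ∀ y ∈ B, x.1 y + y ∈ A := by
  refine ⟨fun hx => ?_, fun hx => subset_closure hx⟩
  induction hx using closure_induction with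
  | mem _ h => exact h
  | one => exact fun y _ => by rw [OG.one_apply, add_self' F]; exact zero_mem _
  | mul g k _ _ hg hk =>
    intro y hy
    have := add_mem (hg _ ((B.add_mem_iff_left hy).1 (h (hk y hy)))) (hk y hy)
    rwa [add_assoc, ← add_assoc (k.1 y), add_self' F, zero_add] at this
  | inv g _ hg =>
    intro y hy
    have : Finite V := Module.finite_of_finite F
    let f : B → B := fun y => ⟨g.1 y.1, (B.add_mem_iff_left y.2).1 (h (hg _ y.2))⟩
    obtain ⟨z, hz⟩ := Finite.injective_iff_surjective.1 (show Function.Injective f from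
      fun a b e => Subtype.ext (g.1.injective (congrArg Subtype.val e))) ⟨y, hy⟩
    have e : g.1 z.1 = y := congrArg Subtype.val hz
    rw [← e, OG.inv_apply_apply, add_comm]
    exact hg _ z.2

variable (Q) in
/-- elements shifting the chain `W` by `d` -/
def Sd (W : ℕ → Submodule F V) (d : ℕ) : Subgroup (OG Q) := ⨅ i, St Q (W i) (W (i + d))

theorem mem_Sd {W : ℕ → Submodule F V} (h : Monotone W) {d : ℕ} {x : OG Q} :
    x ∈ Sd Q W d ↔ ∀ i, ∀ y ∈ W (i + d), x.1 y + y ∈ W i := by
  simp only [Sd, mem_iInf, mem_St (h (Nat.le_add_right _ _))]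

variable (Q) in
/-- a self dual full flag, totally singular below the middle -/
structure Fl (k : ℕ) (W : ℕ → Submodule F V) : Prop extends Dm Q where
  top : finrank F V = 2 * k
  rk : ∀ i, i ≤ 2 * k → finrank F (W i) = i
  mono : Monotone W
  pp : ∀ i j, i + j = 2 * k → perp Q (W i) = W j
  ts : TS Q (W (k - 1))

/-- `x` moves `W (i + 2) / W i` -/
def Mv (W : ℕ → Submodule F V) (i : ℕ) (x : OG Q) : Prop := ∃ y ∈ W (i + 2), x.1 y + y ∉ W i

variable (Q) in
/-- trivial action on the middle plane -/
def Md (k : ℕ) (W : ℕ → Submodule F V) : Subgroup (OG Q) := St Q (W (k - 1)) (W (k + 1))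

end Cfsg.Agent.StdO
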