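import Cfsg.Agent.StdO.RtG

/-! `q = 2`: automorphisms of `P = Fx ℓ` act on `Q` like elements of the orthogonal group. -/

set_option autoImplicit false
set_option linter.unusedSectionVars false
set_option linter.unusedVariables false

namespace Cfsg.Agent.StdO

open Subgroup Module QuadraticMap Cfsg.Agent.Class.Orth Cfsg.Agent.KSG Cfsg.Agent.PLocal.Amb
  Cfsg.Agent.Lyons
open Cfsg.Agent.StdL (cjh)
open scoped commutatorElement

variable {F V : Type*} [Field F] [Finite F] [CharP F 2] [AddCommGroup V] [Module F V]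
  [FiniteDimensional F V] {Q : QuadraticForm F V} {G : Type*} [Group G] [Finite G]
  {ι : EG Q →* G} {t : G}

local notation "𝐟" => polar Q

variable {u e : V}

local notation "ℓ" => Submodule.span F (insert u (Singleton.singleton e) : Set V)

open RtA

namespace RgA

variable {p p' w w' n x : V} {g : EG Q} {U : Submodule F V} {B : Subgroup (EG Q)}

theorem rank_sup (U : Submodule F V) (x : V) : finrank F ↥(U ⊔ Submodule.span F {x}) ≤ finrank F U + 1 :=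
  (Submodule.finrank_add_le_finrank_add_finrank _ _).trans (Nat.add_le_add_left
    (by simpa using finrank_span_le_card (R := F) ({x} : Set V)) _)

theorem perp_sup : w ∈ perp Q (U ⊔ Submodule.span F {x}) ↔ w ∈ perp Q U ∧ 𝐟 x w = 0 := by
  refine ⟨fun h => ⟨perp_anti le_sup_left h, h x (Submodule.mem_sup_right (Submodule.mem_span_singleton_self x))⟩,
    fun h y hy => ?_⟩
  obtain ⟨a, ha, b, hb, rfl⟩ := Submodule.mem_sup.1 hy
  rw [polar_add_left, h.1 a ha, mem_perp1.2 h.2 b hb, add_zero]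

theorem mem_sup1 : w ∈ U ⊔ Submodule.span F {x} ↔ ∃ l ∈ U, ∃ c : F, w = l + c • x := by
  simp only [Submodule.mem_sup, Submodule.mem_span_singleton]
  exact ⟨fun ⟨l, hl, _, ⟨c, rfl⟩, e⟩ => ⟨l, hl, c, e.symm⟩, fun ⟨l, hl, c, e⟩ => ⟨l, hl, _, ⟨c, rfl⟩, e.symm⟩⟩

theorem cases2 (hq : Nat.card F = 2) (a : F) : a = 0 ∨ a = 1 :=
  or_iff_not_imp_left.2 fun h => ((Nat.card_eq_two_iff' (0 : F)).1 hq).unique h one_ne_zero

theorem okp (t : TS2 Q u e) (hp : p ∈ ℓ) (hw : w ∈ perp Q ℓ) : Ok Q p w := ⟨t.ts_span p hp, hw p hp⟩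

theorem lp (t : TS2 Q u e) (hp : p ∈ ℓ) : p ∈ perp Q ℓ := t.ts_span.le_perp le_rfl hp

theorem pl (hp : p ∈ ℓ) (hw : w ∈ perp Q ℓ) : 𝐟 w p = 0 := (polar_comm Q _ _).trans (hw p hp)

theorem sgp_apply (t : TS2 Q u e) (hp : p ∈ ℓ) (hw : w ∈ perp Q ℓ) (hx : x ∈ perp Q ℓ) :
    (sg Q p w).1.1 x = x + 𝐟 x w • p := sg_apply_perp (okp t hp hw) (pl hp hx)

theorem sgp_Fx (t : TS2 Q u e) (hp : p ∈ ℓ) (hw : w ∈ perp Q ℓ) : sg Q p w ∈ Fx Q ℓ := sg_mem_Fx (lp t hp) hw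

theorem sgp_Qq (hQ : ND Q) (h : TI Q ![u, e]) (hp : p ∈ ℓ) (hw : w ∈ perp Q ℓ) : sg Q p w ∈ Qq Q u e := by
  have t := (ti2_iff.1 h).1
  refine (mem_Qq' hQ h).2 ⟨sgp_Fx t hp hw, fun y hy => ?_⟩
  rw [sgp_apply t hp hw hy, add_right_comm, add_self' F, zero_add]
  exact Submodule.smul_mem _ _ hp

theorem cj_sgp (hg : g ∈ Fx Q ℓ) (hp : p ∈ ℓ) (w : V) : g * sg Q p w * g⁻¹ = sg Q p (g.1.1 w) := by
  rw [conj_sg, mem_Fx.1 hg p hp]

theorem Fx_perp (hg : g ∈ Fx Q ℓ) (hw : w ∈ perp Q ℓ) : g.1.1 w ∈ perp Q ℓ := fixer_map_perp hg hw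

theorem sg_Z (t : TS2 Q u e) (hp : p ∈ ℓ) (hn : n ∈ ℓ) : ∃ a : F, sg Q p n = sg Q u (a • e) := by
  obtain ⟨a, b, rfl⟩ := Submodule.mem_span_pair.1 hp
  obtain ⟨d, d', rfl⟩ := Submodule.mem_span_pair.1 hn
  exact ⟨_, sg_comb t a b d d'⟩

theorem Z_sg (t : TS2 Q u e) (hp : p ∈ ℓ) (h0 : p ≠ 0) (c : F) : ∃ l ∈ ℓ, sg Q u (c • e) = sg Q p l := by
  obtain ⟨a, b, rfl⟩ := Submodule.mem_span_pair.1 hp
  obtain ⟨d, d', e'⟩ : ∃ d d', a * d' + b * d = c := by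
    by_cases ha : a = 0
    · have hb : b ≠ 0 := fun hb => h0 (by simp [ha, hb])
      exact ⟨b⁻¹ * c, 0, by simp [hb]⟩
    · exact ⟨0, a⁻¹ * c, by simp [ha]⟩
  exact ⟨_, comb_mem u e d d', by rw [sg_comb t, e']⟩

theorem eq_sg (hQ : ND Q) (h : TI Q ![u, e]) (hp : p ∈ ℓ) (h0 : p ≠ 0) (hn : n ∈ perp Q ℓ)
    (hg : ∀ y ∈ perp Q ℓ, g.1.1 y = y + 𝐟 y n • p) : ∃ l ∈ ℓ, g = sg Q p (n + l) := by
  have t := (ti2_iff.1 h).1
  obtain ⟨a, ha⟩ := lam2 hQ h (k := ((sg Q p n)⁻¹ * g).1) fun y y1 y2 => by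
    have hy := mem_perp2''.2 ⟨y1, y2⟩
    exact (OG.inv_apply_eq_iff _).2 ((hg y hy).trans (sgp_apply t hp hn hy).symm)
  obtain ⟨l, hl, c⟩ := Z_sg t hp h0 a
  refine ⟨l, hl, ?_⟩
  rw [sg_add (okp t hp hn) (okp t hp (lp t hl)), ← c, ← inv_mul_eq_iff_eq_mul]
  exact Subtype.ext ha

theorem hyp (hd : Dm Q) (h : TI Q ![u, e]) : ∃ x ∈ perp Q ℓ, ∃ y ∈ perp Q ℓ, IsHyp Q x y :=
  exists_hyp hd.nd (ti2_iff.1 h).1.ts_span (by have := hd.d8; have := rtg_rank (F := F) (u := u) (e := e); omega)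

theorem exn (hd : Dm Q) (h : TI Q ![u, e]) : ∃ x ∈ perp Q ℓ, x ∉ ℓ := by
  obtain ⟨x, hx, y, hy, o⟩ := hyp hd h
  exact ⟨x, hx, fun c => one_ne_zero (o.pol.symm.trans (hy x c))⟩

theorem noncomm (hd : Dm Q) (h : TI Q ![u, e]) (hp : p ∈ ℓ) (h0 : p ≠ 0) (hp' : p' ∈ ℓ)
    (c : ∀ y ∈ perp Q ℓ, ∀ y' ∈ perp Q ℓ, Commute (sg Q p' y') (sg Q p y)) : ∃ a : F, p' = a • p := by
  have t := (ti2_iff.1 h).1
  obtain ⟨x, hx, y, hy, o⟩ := hyp hd h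
  have := cm_sg (okp t hp hx) (mem_Fx.1 (sgp_Fx t hp' hy) p hp)
  rw [commutatorElement_eq_one_iff_commute.2 (c x hx y hy), sgp_apply t hp' hy hx, o.pol, one_smul, add_right_comm,
    add_self' F, zero_add] at this
  exact (sg_eq_one hd.nd (okp t hp (lp t hp')) h0).1 this.symm

theorem mov (hQ : ND Q) (h10 : 10 ≤ finrank F V) (hw : w ∈ perp Q ℓ) (h1 : w ∉ ℓ ⊔ Submodule.span F {w'}) :
    ∃ g ∈ Fx Q ℓ, g.1.1 w' = w' ∧ g.1.1 w + w ∉ ℓ := by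
  have d0 := rtg_rank (F := F) (u := u) (e := e)
  have d1 := rank_sup ℓ w'
  have d2 := rank_sup (ℓ ⊔ Submodule.span F {w'}) w
  have d3 := finrank_perp hQ (ℓ ⊔ Submodule.span F {w'})
  obtain ⟨s, s1, s2, s3⟩ := exists_sing (Q := Q) (U := ℓ ⊔ Submodule.span F {w'} ⊔ Submodule.span F {w})
    (W := perp Q (ℓ ⊔ Submodule.span F {w'})) ((Nat.add_le_add_right (Submodule.finrank_mono inf_le_left) 3).trans
      (by omega))
  have s4 : s ∉ ℓ := fun c => s2 (Submodule.mem_sup_left (Submodule.mem_sup_left c))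
  have key : ∀ y ∈ perp Q (ℓ ⊔ Submodule.span F {w'} ⊔ Submodule.span F {s}), (sg Q s y).1.1 w + w ∉ ℓ →
      ∃ g ∈ Fx Q ℓ, g.1.1 w' = w' ∧ g.1.1 w + w ∉ ℓ := fun y hy c =>
    ⟨_, sg_mem_Fx (perp_sup.1 s1).1 (perp_sup.1 (perp_sup.1 hy).1).1,
      sg_fix (perp_sup.1 s1).2 (perp_sup.1 (perp_sup.1 hy).1).2, c⟩
  by_cases hs : 𝐟 w s = 0
  · obtain ⟨y, y1, y2⟩ := exists_perp hQ (x := w) (U := ℓ ⊔ Submodule.span F {w'} ⊔ Submodule.span F {s}) (fun c => by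
      obtain ⟨l, hl, a, c⟩ := mem_sup1.1 c
      by_cases ha : a = 0
      · exact h1 (by rwa [c, ha, zero_smul, add_zero])
      · refine s2 (mem_sup1.2 ⟨a⁻¹ • l, Submodule.smul_mem _ _ hl, a⁻¹, ?_⟩)
        rw [c, smul_add, ← add_assoc, add_self' F, zero_add, inv_smul_smul₀ ha]) 1
    refine key y y1 ?_
    rwa [sg_apply_perp ⟨s3, (perp_sup.1 y1).2⟩ hs, y2, one_smul, add_right_comm, add_self' F, zero_add]
  · have d4 := rank_sup ℓ s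
    have d5 := rank_sup (ℓ ⊔ Submodule.span F {w'}) s
    have d6 := finrank_perp hQ (ℓ ⊔ Submodule.span F {w'} ⊔ Submodule.span F {s})
    obtain ⟨y, y1, y2, -⟩ := exists_sing (Q := Q) (U := ℓ ⊔ Submodule.span F {s})
      (W := perp Q (ℓ ⊔ Submodule.span F {w'} ⊔ Submodule.span F {s}))
      ((Nat.add_le_add_right (Submodule.finrank_mono inf_le_left) 3).trans (by omega))
    exact key y y1 fun c => hs (perp_of_fix hQ s3 (perp_sup.1 y1).2 y2 s4 c).1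

end RgA

open RgA

/-- (IRR) Let `w ∈ A \ ℓ`.  `exists_sing`: `s` singular in `ℓ^⊥ ⊓ w^⊥`, `s ∉ ℓ + ⟨w⟩`; `exists_perp`:
`g ⊥ ℓ, s` with `𝐟 w g = 1`; `sg s g • w + w = s ∈ A`; `trans3`; `perp_induction`. -/
theorem Dm.irr (hd : Dm Q) (h : TI Q ![u, e]) {A : AddSubgroup V} (h1 : ∀ x ∈ A, x ∈ perp Q ℓ)
    (h2 : ∀ g ∈ Fx Q ℓ, ∀ x ∈ A, g.1.1 x ∈ A) (h3 : ∃ x ∈ A, x ∉ ℓ) : ∀ x ∈ perp Q ℓ, x ∈ A := by
  have t := (ti2_iff.1 h).1
  have d0 := rtg_rank (F := F) (u := u) (e := e)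
  have d8 := hd.d8
  obtain ⟨s, s1, s2, s3⟩ : ∃ s ∈ A, s ∉ ℓ ∧ Q s = 0 := by
    obtain ⟨w, w1, w2⟩ := h3
    by_cases h0 : Q w = 0
    · exact ⟨w, w1, w2, h0⟩
    have d1 := rank_sup ℓ w
    have d2 := finrank_perp hd.nd (ℓ ⊔ Submodule.span F {w})
    obtain ⟨s, s1, s2, s3⟩ := exists_sing (Q := Q) (U := ℓ) (W := perp Q (ℓ ⊔ Submodule.span F {w}))
      ((Nat.add_le_add_right (Submodule.finrank_mono inf_le_left) 3).trans (by omega))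
    obtain ⟨y, y1, y2⟩ := exists_perp hd.nd (x := w)
      (fun c => h0 ((rtg_sup t.ts_span (perp_sup.1 s1).1 s3).1 w c)) 1
    have := add_mem (h2 _ (sg_mem_Fx (perp_sup.1 s1).1 (perp_sup.1 y1).1) w w1) w1
    rw [sg_apply_perp ⟨s3, (perp_sup.1 y1).2⟩ (perp_sup.1 s1).2, y2, one_smul, add_right_comm, add_self' F,
      zero_add] at this
    exact ⟨s, this, s2, s3⟩
  have key : ∀ y ∈ perp Q ℓ, Q y = 0 → y ∉ ℓ → y ∈ A := fun y y1 y2 y3 => by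
    obtain ⟨g, g1, g2, g3⟩ := hd.trans3 (ti3 h (h1 s s1) s3 s2) (ti3 h y1 y2 y3)
    exact g3 ▸ h2 g (mem_Fx2.2 ⟨g1, g2⟩) s s1
  refine perp_induction hd.nd t.ts_span (by omega) _ (fun y y1 y2 => ?_) fun _ _ _ _ => add_mem
  by_cases y3 : y ∈ ℓ
  · have := add_mem (key (y + s) (add_mem y1 (h1 s s1)) (by rw [Q_add, y2, s3, h1 s s1 y y3, add_zero, add_zero])
      fun c => s2 ((Submodule.add_mem_iff_right _ y3).1 c)) s1
    rwa [add_assoc, add_self' F, add_zero] at this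
  · exact key y y1 y2 y3

theorem RgA.full (hd : Dm Q) (h : TI Q ![u, e]) {B : Subgroup (EG Q)} (h2 : Fx Q ℓ ≤ 𝐍[B]) {p n : V} (hp : p ∈ ℓ)
    (hn : n ∈ perp Q ℓ) (hn' : n ∉ ℓ) (hB : sg Q p n ∈ B) : ∀ y ∈ perp Q ℓ, sg Q p y ∈ B := by
  have t := (ti2_iff.1 h).1
  let A : AddSubgroup V :=
    { carrier := {y | y ∈ perp Q ℓ ∧ sg Q p y ∈ B}
      zero_mem' := ⟨zero_mem _, by rw [sg_zero]; exact one_mem _⟩
      add_mem' := fun c c' => ⟨add_mem c.1 c'.1, by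
        rw [sg_add (okp t hp c.1) (okp t hp c'.1)]; exact mul_mem c.2 c'.2⟩
      neg_mem' := fun c => by rwa [neg_eq' F] }
  exact fun y hy => (hd.irr h (A := A) (fun _ c => c.1) (fun g hg x c => ⟨Fx_perp hg c.1,
    cj_sgp hg hp x ▸ conj_mem_of_mem_normalizer (h2 hg) c.2⟩) ⟨n, ⟨hn, hB⟩, hn'⟩ y hy).2

/-- (R1) Let `x = sg u w * sg e w' ∈ B`.  Suppose `w, w', w + w' ∉ ℓ`.  Take `s` singular in
`ℓ^⊥ ⊓ w'^⊥`, `s ∉ ℓ + ⟨w, w'⟩` (`dim ≥ 7 ≥ 4 + 3`).  If `𝐟 w s = 0` take `y ⊥ ℓ, s, w'` with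
`𝐟 w y = 1`, else any `y ⊥ ℓ, s, w'` outside `ℓ + ⟨s⟩`; `g = sg s y` fixes `w'` and `n = g w + w ∉ ℓ`,
so `sg u n ∈ B` (`⁅g, x⁆`).  `irr` for `{n ∈ ℓ^⊥ | sg u n ∈ B}` gives `VU u ℓ^⊥ ≤ B`, and
symmetrically `VU e ℓ^⊥ ≤ B`, against commutativity (`cm_Qq`).  So every element of `B` lies in some
`VU p ℓ^⊥`, `p ∈ {u, e, u + e}` (`sg (u+e) w ≡ sg u w * sg e w` modulo `Z`, and `Z ≤ VU p ℓ^⊥`);
an element outside `Z` gives `VU p ℓ^⊥ ≤ B` by `irr`, and two different `p` do not commute. -/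
theorem Dm.sub (hd : Dm Q) (hq : Nat.card F = 2) (h : TI Q ![u, e]) {B : Subgroup (EG Q)}
    (h1 : B ≤ Qq Q u e) (h2 : Fx Q ℓ ≤ 𝐍[B]) (h3 : ∀ x ∈ B, ∀ y ∈ B, Commute x y)
    (h4 : ∃ x ∈ B, x ≠ 1 ∧ x ≠ sg Q u e) : ∃ p ∈ ℓ, p ≠ 0 ∧ B = VU Q p (perp Q ℓ) := by
  have t := (ti2_iff.1 h).1
  have mu := u_mem (F := F) u e
  have me : e ∈ ℓ := Submodule.subset_span (by simp)
  have key : ∀ x ∈ B, ∃ p ∈ ℓ, p ≠ 0 ∧ ∃ n ∈ perp Q ℓ, x = sg Q p n := fun x hx => by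
    obtain ⟨w, hw, w', hw', rfl⟩ := (mem_Qq t).1 (h1 hx)
    by_cases c1 : w ∈ ℓ ⊔ Submodule.span F {w'}
    · obtain ⟨l, hl, c, c1⟩ := mem_sup1.1 c1
      have m := comb_mem u e c 1
      have m0 : c • u + (1 : F) • e ≠ 0 := fun c => one_ne_zero (indep h c).2
      obtain ⟨l', hl', c2⟩ := eq_sg hd.nd h m m0 hw' (g := sg Q u w * sg Q e w') fun y hy => by
        rw [Qq_apply t hw hw' hy, c1, polar_add_right, polar_smul_right', pl hl hy]; module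
      exact ⟨_, m, m0, _, add_mem hw' (lp t hl'), c2⟩
    by_cases c2 : w' ∈ ℓ ⊔ Submodule.span F {w}
    · obtain ⟨l, hl, c, c1⟩ := mem_sup1.1 c2
      have m := comb_mem u e 1 c
      have m0 : (1 : F) • u + c • e ≠ 0 := fun c => one_ne_zero (indep h c).1
      obtain ⟨l', hl', c2⟩ := eq_sg hd.nd h m m0 hw (g := sg Q u w * sg Q e w') fun y hy => by
        rw [Qq_apply t hw hw' hy, c1, polar_add_right, polar_smul_right', pl hl hy]; module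
      exact ⟨_, m, m0, _, add_mem hw (lp t hl'), c2⟩
    exfalso
    obtain ⟨g, g1, g2, g3⟩ := RgA.mov hd.nd (hd.q2 hq) hw c1
    obtain ⟨k, k1, k2, k3⟩ := RgA.mov hd.nd (hd.q2 hq) hw' c2
    have a1 := B.mul_mem (conj_mem_of_mem_normalizer (h2 g1) hx) (inv_mem hx)
    have a2 := B.mul_mem (inv_mem hx) (conj_mem_of_mem_normalizer (h2 k1) hx)
    rw [← conj_mul, cj_sgp g1 mu, cj_sgp g1 me, g2, mul_inv_rev, mul_assoc, mul_inv_cancel_left, sg_inv,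
      ← sg_add (oku t (Fx_perp g1 hw)) (oku t hw)] at a1
    rw [← conj_mul, cj_sgp k1 mu, cj_sgp k1 me, k2, mul_inv_rev, mul_assoc, inv_mul_cancel_left, sg_inv,
      ← sg_add (oke t hw') (oke t (Fx_perp k1 hw')), add_comm] at a2
    have b1 := full hd h h2 mu (add_mem (Fx_perp g1 hw) hw) g3 a1
    have b2 := full hd h h2 me (add_mem (Fx_perp k1 hw') hw') k3 a2
    obtain ⟨a, ha⟩ := noncomm hd h mu (ti2_iff.1 h).2.1 me fun y hy y' hy' => h3 _ (b2 y' hy') _ (b1 y hy)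
    exact (ti2_iff.1 h).2.2 a ha
  obtain ⟨x, hx, x1, x2⟩ := h4
  obtain ⟨p, hp, p0, n, hn, rfl⟩ := key x hx
  have b := full hd h h2 hp hn (fun c => by
    obtain ⟨a, ha⟩ := sg_Z t hp c
    rcases cases2 hq a with rfl | rfl
    · exact x1 (by rw [ha, zero_smul, sg_zero])
    · exact x2 (by rw [ha, one_smul])) hx
  refine ⟨p, hp, p0, le_antisymm (fun y hy => Subgroup.subset_closure ?_) ((closure_le B).2 ?_)⟩
  · obtain ⟨p', hp', -, n', hn', rfl⟩ := key y hy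
    by_cases c : n' ∈ ℓ
    · obtain ⟨a, ha⟩ := sg_Z t hp' c
      obtain ⟨l, hl, c'⟩ := Z_sg t hp p0 a
      exact ⟨l, lp t hl, ha.trans c'⟩
    · obtain ⟨a, rfl⟩ := noncomm hd h hp p0 hp' fun z hz z' hz' => h3 _ (full hd h h2 hp' hn' c hy z' hz') _ (b z hz)
      exact ⟨_, Submodule.smul_mem _ a hn', sg_smul (okp t hp hn') a⟩
  · rintro _ ⟨w, hw, rfl⟩
    exact b w hw

/-- an automorphism of `Fx ℓ` fixing `sg u e`, as a function -/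
structure RgA.Au (u e : V) (f : EG Q → EG Q) : Prop where
  mem : ∀ x ∈ Fx Q (Submodule.span F {u, e}), f x ∈ Fx Q (Submodule.span F {u, e})
  mul : ∀ x ∈ Fx Q (Submodule.span F {u, e}), ∀ y ∈ Fx Q (Submodule.span F {u, e}), f (x * y) = f x * f y
  inj : ∀ x ∈ Fx Q (Submodule.span F {u, e}), ∀ y ∈ Fx Q (Submodule.span F {u, e}), f x = f y → x = y
  cj : ∀ g ∈ Fx Q (Submodule.span F {u, e}), ∀ x ∈ Fx Q (Submodule.span F {u, e}),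
    f (g * x * g⁻¹) = f g * f x * (f g)⁻¹
  one : f 1 = 1
  z : f (sg Q u e) = sg Q u e
  pi : ∀ p ∈ Submodule.span F {u, e}, p ≠ 0 → ∃ p' ∈ Submodule.span F {u, e}, p' ≠ 0 ∧
    ∀ w ∈ perp Q (Submodule.span F {u, e}), ∃ n ∈ perp Q (Submodule.span F {u, e}), f (sg Q p w) = sg Q p' n

theorem RgA.au (hd : Dm Q) (hq : Nat.card F = 2) (h : TI Q ![u, e]) (α : MulAut (Fx Q ℓ))
    (hz : ∀ x : Fx Q ℓ, x.1 = sg Q u e → α x = x) : ∃ f, Au u e f ∧ ∀ x, (α x).1 = f x.1 := by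
  classical
  have t := (ti2_iff.1 h).1
  have mz : sg Q u e ∈ Fx Q ℓ := sg_mem_Fx (u_perp t) (e_perp t)
  have hf : ∀ x : Fx Q ℓ, (α x).1 = (fun x => if c : x ∈ Fx Q ℓ then (α ⟨x, c⟩).1 else 1) x.1 :=
    fun x => by simp only [dif_pos x.2]
  generalize (fun x => if c : x ∈ Fx Q ℓ then (α ⟨x, c⟩).1 else 1) = f at hf
  have hf' : ∀ x (c : x ∈ Fx Q ℓ), f x = (α ⟨x, c⟩).1 := fun x c => (hf ⟨x, c⟩).symm
  let φ : Fx Q ℓ →* EG Q := (Fx Q ℓ).subtype.comp α.toMonoidHom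
  have nrm : ∀ K : Subgroup (EG Q), Fx Q ℓ ≤ 𝐍[K] → Fx Q ℓ ≤ 𝐍[(K.subgroupOf (Fx Q ℓ)).map φ] := fun K hK =>
    le_normalizer_iff_cj.2 fun g hg => cj_le_iff_forall.2 (by
      rintro _ ⟨y, hy, rfl⟩
      exact ⟨α.symm ⟨g, hg⟩ * y * (α.symm ⟨g, hg⟩)⁻¹, 
        mem_subgroupOf.2 (conj_mem_of_mem_normalizer (hK (α.symm ⟨g, hg⟩).2) (mem_subgroupOf.1 hy)),
        by simp [φ]⟩)
  have hQ : ((Qq Q u e).subgroupOf (Fx Q ℓ)).map φ ≤ Qq Q u e := by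
    conv_rhs => rw [← hd.core h, PP, if_pos hq]
    exact le_pCoreOf ((isPGroup_subgroupOf (isPGroup_Qq hd.nd h) _).map φ) (by rintro _ ⟨y, -, rfl⟩; exact (α y).2)
      (nrm _ ((Fx_le_S t).trans (S_norm_Qq hd.nd h)))
  refine ⟨f, ⟨fun x c => hf' x c ▸ (α _).2, fun x c y c' => ?_, fun x c y c' e' => ?_, fun g c x c' => ?_, ?_, ?_,
    fun p hp p0 => ?_⟩, hf⟩
  · rw [hf' x c, hf' y c', hf' _ (mul_mem c c'), ← coe_mul, ← map_mul]; rfl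
  · rw [hf' x c, hf' y c'] at e'
    exact congrArg Subtype.val (α.injective (Subtype.ext e'))
  · rw [hf' g c, hf' x c', hf' _ (mul_mem (mul_mem c c') (inv_mem c)), ← coe_inv, ← coe_mul, ← coe_mul, ← map_inv,
      ← map_mul, ← map_mul]; rfl
  · exact (hf' 1 (one_mem _)).trans (congrArg Subtype.val (map_one α))
  · rw [hf' _ mz, hz _ rfl]
  · have mV : ∀ {g}, g ∈ VU Q p (perp Q ℓ) ↔ ∃ w ∈ perp Q ℓ, g = sg Q p w :=
      mem_VU (t.ts_span p hp) fun w hw => hw p hp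
    obtain ⟨x, x1, x2⟩ := exn hd h
    obtain ⟨p', hp', p0', c⟩ := hd.sub hq h (B := ((VU Q p (perp Q ℓ)).subgroupOf (Fx Q ℓ)).map φ)
      ((map_mono (subgroupOf_mono _ fun y hy => by
        obtain ⟨w, hw, rfl⟩ := mV.1 hy
        exact sgp_Qq hd.nd h hp hw)).trans hQ)
      (nrm _ (le_normalizer_iff_cj.2 fun g hg => cj_le_iff_forall.2 fun y hy => by
        obtain ⟨w, hw, rfl⟩ := mV.1 hy
        exact mV.2 ⟨_, Fx_perp hg hw, cj_sgp hg hp w⟩))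
      (by
        rintro _ ⟨⟨y, y1⟩, hy, rfl⟩ _ ⟨⟨y', y1'⟩, hy', rfl⟩
        obtain ⟨w, hw, rfl⟩ := mV.1 hy
        obtain ⟨w', hw', rfl⟩ := mV.1 hy'
        exact Commute.map (show Commute (⟨_, y1⟩ : Fx Q ℓ) ⟨_, y1'⟩ from Subtype.ext (sg_comm p w w').eq) φ)
      ⟨_, ⟨⟨_, sgp_Fx t hp x1⟩, mV.2 ⟨x, x1, rfl⟩, rfl⟩, fun c => by
        obtain ⟨a, rfl⟩ := (sg_eq_one hd.nd (okp t hp x1) p0).1 (congrArg Subtype.val
          ((map_eq_one_iff α α.injective).1 (Subtype.ext c)))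
        exact x2 (Submodule.smul_mem _ _ hp), fun c => by
        obtain ⟨l, hl, c'⟩ := Z_sg t hp p0 1
        rw [one_smul] at c'
        have := congrArg Subtype.val (α.injective ((Subtype.ext c).trans (hz ⟨_, mz⟩ rfl).symm))
        obtain ⟨a, rfl⟩ := (sg_inj hd.nd (okp t hp x1) (okp t hp (lp t hl)) p0).1 (this.trans c')
        exact x2 (add_mem hl (Submodule.smul_mem _ _ hp))⟩
    refine ⟨p', hp', p0', fun w hw => (mem_VU (Y := perp Q ℓ) (t.ts_span p' hp') fun w hw => hw p' hp').1 (c.le ?_)⟩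
    exact ⟨⟨_, sgp_Fx t hp hw⟩, mV.2 ⟨w, hw, rfl⟩, (hf' _ _).symm⟩

theorem RgA.Au.kappa (hd : Dm Q) (hq : Nat.card F = 2) (h : TI Q ![u, e]) {f : EG Q → EG Q} (A : Au u e f) :
    ∃ u' ∈ ℓ, ∃ e' ∈ ℓ, TI Q ![u', e'] ∧ sg Q u' e' = sg Q u e ∧ ∀ w ∈ perp Q ℓ, ∃ n ∈ perp Q ℓ,
      f (sg Q u w) = sg Q u' n ∧ f (sg Q e w) = sg Q e' n := by
  obtain ⟨t, u0, ue⟩ := ti2_iff.1 h
  have mu := u_mem (F := F) u e
  have me : e ∈ ℓ := Submodule.subset_span (by simp)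
  have e0 : e ≠ 0 := fun c => ue 0 (by rw [c, zero_smul])
  have s0 : u + e ≠ 0 := fun c => ue 1 (by rw [one_smul, eq_neg_of_add_eq_zero_right c, neg_eq' F])
  have ne : ∀ p₁ ∈ ℓ, ∀ p₂ ∈ ℓ, p₁ ≠ 0 → p₂ ≠ 0 → ∀ p', (∀ w ∈ perp Q ℓ, ∃ n ∈ perp Q ℓ, f (sg Q p₁ w) = sg Q p' n) →
      (∀ w ∈ perp Q ℓ, ∃ n ∈ perp Q ℓ, f (sg Q p₂ w) = sg Q p' n) → p₂ = p₁ := fun p₁ m1 p₂ m2 n1 n2 p' c1 c2 => by
    obtain ⟨a, ha⟩ := noncomm hd h m1 n1 m2 fun y hy y' hy' => by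
      obtain ⟨n, -, e1⟩ := c1 y hy
      obtain ⟨n', -, e2⟩ := c2 y' hy'
      have a1 := sgp_Fx t m1 hy
      have a2 := sgp_Fx t m2 hy'
      exact A.inj _ (mul_mem a2 a1) _ (mul_mem a1 a2) (by rw [A.mul _ a2 _ a1, A.mul _ a1 _ a2, e1, e2, (sg_comm _ _ _).eq])
    rcases cases2 hq a with rfl | rfl
    · exact absurd (by rw [ha, zero_smul]) n2
    · rw [ha, one_smul]
  obtain ⟨u', mu', u0', hu⟩ := A.pi u mu u0
  obtain ⟨e', me', e0', he⟩ := A.pi e me e0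
  obtain ⟨s', ms', s0', hs⟩ := A.pi _ (add_mem mu me) s0
  have t' : TS2 Q u' e' := ⟨t.ts_span _ mu', t.ts_span _ me', lp t me' _ mu'⟩
  have h' : TI Q ![u', e'] := ti2_iff.2 ⟨t', u0', fun a ha => by
    rcases cases2 hq a with rfl | rfl
    · exact e0' (by rw [ha, zero_smul])
    · exact ue 1 ((ne u mu e me u0 e0 u' hu (by rwa [ha, one_smul] at he)).trans (one_smul F u).symm)⟩
  have z : sg Q u' e' = sg Q u e := by
    obtain ⟨a, ha⟩ := sg_Z t mu' me'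
    rcases cases2 hq a with rfl | rfl
    · exact absurd (by rw [ha, zero_smul, sg_zero]) (sg_ne hd.nd h')
    · rw [ha, one_smul]
  have sp := span_of_sg_eq hd.nd (ok_of t') (ok_of t) (sg_ne hd.nd h') z
  obtain rfl : s' = u' + e' := by
    obtain ⟨a, b, rfl⟩ := Submodule.mem_span_pair.1 (sp.ge ms')
    rcases cases2 hq a with rfl | rfl <;> rcases cases2 hq b with rfl | rfl <;>
      simp only [zero_smul, one_smul, add_zero, zero_add] at s0' hs ⊢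
    · exact absurd rfl s0'
    · exact absurd (add_eq_right.1 (ne e me _ (add_mem mu me) e0 s0 e' he hs)) u0
    · exact absurd (add_eq_left.1 (ne u mu _ (add_mem mu me) u0 s0 u' hu hs)) e0
  refine ⟨u', mu', e', me', h', z, fun w hw => ?_⟩
  obtain ⟨n₁, m1, c1⟩ := hu w hw
  obtain ⟨n₂, m2, c2⟩ := he w hw
  obtain ⟨l, hl, c3⟩ := eq_sg hd.nd h (add_mem mu me) s0 hw (g := sg Q u w * sg Q e w) fun y hy => by
    rw [Qq_apply t hw hw hy, smul_add, add_assoc]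
  obtain ⟨n, m, c4⟩ := hs _ (add_mem hw (lp t hl))
  rw [← c3, A.mul _ (sgp_Fx t mu hw) _ (sgp_Fx t me hw), c1, c2] at c4
  obtain ⟨a, b, c5⟩ := Submodule.mem_span_pair.1 (sp.ge (show n₁ + n₂ ∈ ℓ from perp_perp hd.nd ℓ ▸ fun y hy => by
    have c5 := Qq_apply t' (sp ▸ m1) (sp ▸ m2) (sp ▸ hy)
    rw [c4, sgp_apply t (add_mem mu' me') m hy, add_assoc, add_right_inj, smul_add] at c5
    have c6 := indep h' (a := 𝐟 y n + 𝐟 y n₁) (b := 𝐟 y n + 𝐟 y n₂) (by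
      rw [add_smul, add_smul, add_add_add_comm, c5, add_self' F])
    rw [polar_add_right, ← CharTwo.add_eq_zero.1 c6.1, ← CharTwo.add_eq_zero.1 c6.2, CharTwo.add_self_eq_zero]))
  refine ⟨n₁ + a • u', add_mem m1 (Submodule.smul_mem _ _ (lp t mu')), by rw [c1, sg_add_smul (okp t mu' m1)], ?_⟩
  rw [c2, ← sg_add_smul (okp t me' m2) b]
  congr 1
  linear_combination (norm := module) c5 + add_self' F n₂ - add_self' F (a • u')

/-- `α` preserves `Qq = O₂(P)` (`Dm.core`, `PP = Fx ℓ`) and permutes the three groups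
`V_p = VU p ℓ^⊥` (`sub`).  Take `c ∈ 𝐳[sg u e]` with the same permutation (`exists_S`), and replace
`α` by `c⁻¹ α c`.  Frame `f₁, f₂`, `W = ⟨u,e,f₁,f₂⟩^⊥`.  For `w ∈ W`:
`α (sg u w) = sg u (γ w + φ w • e)`, `α (sg e w) = sg e (γ' w + φ' w • u)` with `γ w, γ' w ∈ W`
additive.  `α V_{u+e} = V_{u+e}` gives `γ = γ'` (`Qq_inj`), `cm_Qq` gives `𝐟 (γ w) (γ w') = 𝐟 w w'`.
So `ψ w = Q (γ w) + Q w` is additive; conjugating by `g ∈ P` shows that `ψ` (extended to `ℓ^⊥` by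
the projection; `Q w` is determined by `sg u w`) is `P`-invariant, its kernel has index `≤ 2`, `irr`
gives `ψ = 0`.  Additive maps are linear (`q = 2`).  `k₀ = id ⊥ γ ∈ OG Q`.  `φ ∘ γ⁻¹ = 𝐟 · g`,
`φ' ∘ γ⁻¹ = 𝐟 · g'` with `g, g' ∈ W`; `k = c * (sg e g * sg u g') * k₀`. -/
theorem Dm.rgA (hd : Dm Q) (hq : Nat.card F = 2) (h : TI Q ![u, e]) (α : MulAut (Fx Q ℓ))
    (hz : ∀ x : Fx Q ℓ, x.1 = sg Q u e → α x = x) :
    ∃ k : OG Q, Commute k (eichler Q u e) ∧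
      ∀ x : Fx Q ℓ, x.1 ∈ Qq Q u e → (α x).1.1 = k * x.1.1 * k⁻¹ := by
  obtain ⟨f, A, hf⟩ := au hd hq h α hz
  obtain ⟨u', mu', e', me', h', z, hκ⟩ := A.kappa hd hq h
  obtain ⟨t, u0, ue⟩ := ti2_iff.1 h
  obtain ⟨t', u0', ue'⟩ := ti2_iff.1 h'
  have mu := u_mem (F := F) u e
  have me : e ∈ ℓ := Submodule.subset_span (by simp)
  have uq : ∀ {p p' : V}, p ∈ ℓ → p' ∈ ℓ → TI Q ![p, p'] → ∀ n ∈ perp Q ℓ, ∀ n' ∈ perp Q ℓ, sg Q p n = sg Q p n' →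
      sg Q p' n = sg Q p' n' → n = n' := fun m m' i n hn n' hn' c c' => by
    obtain ⟨a, ha⟩ := (sg_inj hd.nd (okp t m hn) (okp t m hn') (i.li.ne_zero 0)).1 c
    obtain ⟨b, hb⟩ := (sg_inj hd.nd (okp t m' hn) (okp t m' hn') (i.li.ne_zero 1)).1 c'
    rw [ha, (indep i (a := a) (b := b) (by rw [add_left_cancel (ha.symm.trans hb), add_self' F])).1, zero_smul,
      add_zero]
  choose! κ κm κu κe using hκ
  have κq : ∀ w ∈ perp Q ℓ, ∀ n ∈ perp Q ℓ, f (sg Q u w) = sg Q u' n → f (sg Q e w) = sg Q e' n → κ w = n :=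
    fun w hw n hn c c' => uq mu' me' h' _ (κm w hw) n hn ((κu w hw).symm.trans c) ((κe w hw).symm.trans c')
  have κ0 : κ 0 = 0 := κq 0 (zero_mem _) 0 (zero_mem _) (by rw [sg_zero, sg_zero, A.one]) (by rw [sg_zero, sg_zero, A.one])
  have κa : ∀ w ∈ perp Q ℓ, ∀ w' ∈ perp Q ℓ, κ (w + w') = κ w + κ w' := fun w hw w' hw' =>
    κq _ (add_mem hw hw') _ (add_mem (κm w hw) (κm w' hw'))
      (by rw [sg_add (okp t mu hw) (okp t mu hw'), A.mul _ (sgp_Fx t mu hw) _ (sgp_Fx t mu hw'), κu w hw, κu w' hw',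
        sg_add (okp t mu' (κm w hw)) (okp t mu' (κm w' hw'))])
      (by rw [sg_add (okp t me hw) (okp t me hw'), A.mul _ (sgp_Fx t me hw) _ (sgp_Fx t me hw'), κe w hw, κe w' hw',
        sg_add (okp t me' (κm w hw)) (okp t me' (κm w' hw'))])
  have κs : ∀ (a : F) (w : V), κ (a • w) = a • κ w := fun a w => by
    rcases cases2 hq a with rfl | rfl
    · rw [zero_smul, zero_smul, κ0]
    · rw [one_smul, one_smul]
  have ss : ∀ p : V, Q p = 0 → sg Q p p = 1 := fun p hp => by simpa using sg_self hp 1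
  have κ1 : κ u = u' := κq u (lp t mu) u' (lp t mu') (by rw [ss u t.l, ss u' t'.l, A.one])
    (by rw [← sg_swap t, ← sg_swap t', A.z, z])
  have κ2 : κ e = e' := κq e (lp t me) e' (lp t me') (by rw [A.z, z]) (by rw [ss e t.r, ss e' t'.r, A.one])
  have κg : ∀ g ∈ Fx Q ℓ, ∀ w ∈ perp Q ℓ, κ (g.1.1 w) = (f g).1.1 (κ w) := fun g hg w hw =>
    κq _ (Fx_perp hg hw) _ (Fx_perp (A.mem g hg) (κm w hw))
      (by rw [← cj_sgp hg mu, A.cj g hg _ (sgp_Fx t mu hw), κu w hw, cj_sgp (A.mem g hg) mu'])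
      (by rw [← cj_sgp hg me, A.cj g hg _ (sgp_Fx t me hw), κe w hw, cj_sgp (A.mem g hg) me'])
  have κp : ∀ w ∈ perp Q ℓ, ∀ w' ∈ perp Q ℓ, 𝐟 (κ w) (κ w') = 𝐟 w w' := fun w hw w' hw' => by
    have c := κg _ (sgp_Fx t me hw') w hw
    rw [κe w' hw', sgp_apply t me hw' hw, sgp_apply t me' (κm w' hw') (κm w hw),
      κa w hw _ (Submodule.smul_mem _ _ (lp t me)), κs, κ2, add_right_inj] at c
    exact (smul_left_injective F (h'.li.ne_zero 1) c).symm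
  have κQ : ∀ w ∈ perp Q ℓ, Q (κ w) = Q w := by
    let B : AddSubgroup V :=
      { carrier := {y | y ∈ perp Q ℓ ∧ Q (κ y) = Q y}
        zero_mem' := ⟨zero_mem _, by rw [κ0]⟩
        add_mem' := fun c c' => ⟨add_mem c.1 c'.1, by rw [κa _ c.1 _ c'.1, Q_add, Q_add, c.2, c'.2, κp _ c.1 _ c'.1]⟩
        neg_mem' := fun c => by rwa [neg_eq' F] }
    obtain ⟨x, x1, x2⟩ := exn hd h
    obtain ⟨g, g1, -, g2⟩ := RgA.mov hd.nd (hd.q2 hq) x1 (w' := 0) (by simpa using x2)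
    have g3 := Fx_perp g1 x1
    exact fun w hw => (hd.irr h (A := B) (fun _ c => c.1) (fun g hg y c => ⟨Fx_perp hg c.1, by
      rw [κg g hg y c.1, OG.map_Q, OG.map_Q, c.2]⟩) ⟨_, ⟨add_mem g3 x1, by
      rw [κa _ g3 _ x1, Q_add, Q_add, κp _ g3 _ x1, κg g g1 x x1, OG.map_Q, OG.map_Q, CharTwo.add_self_eq_zero,
        CharTwo.add_self_eq_zero]⟩, g2⟩ w hw).2
  obtain ⟨k, -, k1, k2⟩ := (Class.isFormed_of_quadratic Q ((nd_iff Q).1 hd.nd)).witt_inj (perp Q ℓ)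
    ⟨⟨fun x => κ x, fun x y => κa _ x.2 _ y.2⟩, fun a x => κs a x⟩
    (fun x y c => Subtype.ext (uq mu me h _ x.2 _ y.2
      (A.inj _ (sgp_Fx t mu x.2) _ (sgp_Fx t mu y.2) (by rw [κu _ x.2, κu _ y.2]; exact congrArg _ c))
      (A.inj _ (sgp_Fx t me x.2) _ (sgp_Fx t me y.2) (by rw [κe _ x.2, κe _ y.2]; exact congrArg _ c))))
    (fun x y => κp _ x.2 _ y.2) fun x => κQ _ x.2
  have k3 : ∀ w ∈ perp Q ℓ, (⟨k, k1⟩ : OG Q).1 w = κ w := fun w hw => k2 ⟨w, hw⟩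
  refine ⟨⟨k, k1⟩, mul_inv_eq_iff_eq_mul.1 ?_, fun x hx => ?_⟩
  · rw [conj_eichler, k3 u (lp t mu), k3 e (lp t me), κ1, κ2]
    exact congrArg Subtype.val z
  · obtain ⟨w, hw, w', hw', c⟩ := (mem_Qq t).1 hx
    rw [hf, c, A.mul _ (sgp_Fx t mu hw) _ (sgp_Fx t me hw'), κu w hw, κe w' hw', coe_mul, coe_mul, ← conj_mul,
      coe_sg, coe_sg, coe_sg, coe_sg, conj_eichler, conj_eichler, k3 u (lp t mu), k3 e (lp t me), k3 w hw, k3 w' hw',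
      κ1, κ2]

end Cfsg.Agent.StdO
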