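import Cfsg.Agent.StdO.LocA
import Cfsg.Agent.StdO.RgA
import Cfsg.Agent.StdO.Rig
import Cfsg.Agent.WfS.Def

/-! The local facts of the wreath theorem for `Ω`: the easy fields. -/

set_option autoImplicit false
set_option linter.unusedSectionVars false
set_option linter.unusedVariables false

namespace Cfsg.Agent.StdO

open Subgroup Module QuadraticMap Cfsg.Agent.Class.Orth Cfsg.Agent.KSG Cfsg.Agent.PLocal.Amb
  Cfsg.Agent.Lyons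
open Cfsg.Agent.WfS (Zt)
open scoped commutatorElement

variable {F V : Type*} [Field F] [Finite F] [CharP F 2] [AddCommGroup V] [Module F V]
  [FiniteDimensional F V] {Q : QuadraticForm F V} {G : Type*} [Group G] [Finite G]
  {ι : EG Q →* G} {P : Subgroup G}

local notation "𝐟" => polar Q

variable {u e w w' y : V} {a l : F} {x z : G} {g s : EG Q} {T : SS Q} {k : OG Q}

local notation "ℓ" => Submodule.span F (insert u (Singleton.singleton e) : Set V)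
local notation "𝐋" => MonoidHom.range ι
local notation "𝐙" => Zt (P ⊓ MonoidHom.range ι)

theorem mx_of (h : Rp ι) (hS : IsSyl 2 (P ⊓ 𝐋) 𝐋) {S : Subgroup (OG Q)} (h1 : IsPGroup 2 S)
    (h2 : ∀ g : EG Q, g.1 ∈ S ↔ ι g ∈ P) : Mx ⊥ S := by
  refine ⟨fun x _ hx => h.nd x fun y => hx y fun v hv => ?_, fun g _ v hv => ?_, h1,
    fun R _ hR hSR g hg => (h2 g).2 ?_⟩
  · rw [(Submodule.mem_bot F).1 hv, polar_zero_left]
  · rw [(Submodule.mem_bot F).1 hv, map_zero]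
  · have := hS.eq ((isPGroup_subgroupOf hR (EG Q)).map ι)
      (fun x ⟨hx, g, e⟩ => ⟨g, hSR ((h2 g).2 (e ▸ hx)), e⟩) (map_le_range _ _)
    exact (this.le (mem_map_of_mem ι (mem_subgroupOf.2 hg))).1

theorem Ac.cm (h : Ac ι x (SS.oO Q g.1)) (s : EG Q) : ⁅x, ι s⁆ = ι ⁅g, s⁆ := by
  rw [commutatorElement_def, h.act, cE_oO', ← map_inv, ← map_mul, commutatorElement_def]

theorem cm_ue (t : TS2 Q u e) (hw : 𝐟 u w = 0) (hw' : w' ∈ perp Q ℓ) :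
    ⁅sg Q u w, sg Q e w'⁆ = sg Q u ((𝐟 w w' + Q w' * 𝐟 w e) • e + 𝐟 w e • w') := by
  rw [← commutatorElement_inv, cm_sg ⟨t.l, hw⟩ (sg_fix t.p (mem_perp2''.1 hw').1), sg_inv,
    sg_apply (RtA.oke t hw'), add_comm _ w, add_assoc w, ← add_assoc w, add_self' F, zero_add]

/-- the context -/
structure Lc (ι : EG Q →* G) (P : Subgroup G) (u e : V) : Prop extends Rp ι where
  pg : IsPGroup 2 P
  nr : P ≤ 𝐍[ι.range]
  syl : IsSyl 2 (P ⊓ ι.range) ι.range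
  ac : ∀ x ∈ P, ∃ T, Ac ι x T
  ti : TI Q ![u, e]
  fu : ∀ g, ι g ∈ P → g.1.1 u = u ∧ ∃ a : F, g.1.1 e = e + a • u
  mV : ∀ w, 𝐟 u w = 0 → ι (sg Q u w) ∈ P
  mE : ∀ w ∈ perp Q (Submodule.span F {u, e}), ι (sg Q e w) ∈ P

theorem Rp.exists_lc (h : Rp ι) (hP : IsPGroup 2 P) (hN : P ≤ 𝐍[𝐋]) (hS : IsSyl 2 (P ⊓ 𝐋) 𝐋)
    (ac : ∀ x ∈ P, ∃ T, Ac ι x T) : ∃ u e, Lc ι P u e := by
  have k : ∀ g : EG Q, g.1 ∈ (P.comap ι).map (EG Q).subtype ↔ ι g ∈ P := fun g => mem_map_subtype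
  have M := mx_of h hS ((hP.comap_of_injective ι h.inj).map _) k
  obtain ⟨u, e, h1, h2⟩ := M.flag h.toDm
  obtain ⟨h3, h4, -⟩ := M.main h.toDm h1 h2
  exact ⟨u, e, h, hP, hN, hS, ac, h1, fun g hg => h2 _ ((k g).2 hg), fun w hw => (k (sg Q u w)).1 (h3 w hw),
    fun w hw => (k (sg Q e w)).1 (h4 w hw)⟩

namespace Lc

variable (h : Lc ι P u e)
include h

theorem ts : TS2 Q u e := (ti2_iff.1 h.ti).1
theorem u0 : u ≠ 0 := (ti2_iff.1 h.ti).2.1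
theorem ok (hw : 𝐟 u w = 0) : Ok Q u w := ⟨h.ts.l, hw⟩
theorem oe (a : F) : Ok Q u (a • e) := (ok_of h.ts).smul a
theorem nT : P ≤ 𝐍[P ⊓ 𝐋] := le_normalizer_inf le_normalizer h.nr
theorem nZ : P ≤ 𝐍[𝐙] := le_normalizer_inf h.nT (le_normalizer_centralizer h.nT)
theorem TV (hw : 𝐟 u w = 0) : ι (sg Q u w) ∈ P ⊓ 𝐋 := ⟨h.mV w hw, _, rfl⟩
theorem TE (hw : w ∈ perp Q ℓ) : ι (sg Q e w) ∈ P ⊓ 𝐋 := ⟨h.mE w hw, _, rfl⟩

theorem memZ : z ∈ 𝐙 ↔ ∃ a : F, z = ι (sg Q u (a • e)) := by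
  refine ⟨fun hz => ?_, ?_⟩
  · obtain ⟨a, ha⟩ := h.toRp.ru2 h.ti (le_normalizer hz.1.2) fun y h1 h2 =>
      ⟨(hz.2 _ (h.TV h1)).symm, (hz.2 _ (h.TE (mem_perp2''.2 ⟨h1, h2⟩))).symm⟩
    refine ⟨a, ?_⟩
    rw [eq_inv_of_mul_eq_one_left (h.toRp.eq_one (mul_mem hz.1.2 ⟨_, rfl⟩) ha)]
    exact (map_inv ι _).symm.trans (by rw [sg_inv])
  · rintro ⟨a, rfl⟩
    refine ⟨h.TV (h.oe a).p, fun x ⟨hx, g, e1⟩ => ?_⟩
    subst e1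
    obtain ⟨h1, b, h2⟩ := h.fu g hx
    rw [← map_mul, ← map_mul, ← mul_inv_eq_iff_eq_mul.1 (show g * sg Q u (a • e) * g⁻¹ = _ by
      rw [conj_sg, h1, map_smul, h2, smul_add, smul_smul, sg_add_smul (h.oe a)])]

theorem sgZ (hw : 𝐟 u w = 0) : ι (sg Q u w) ∈ 𝐙 ↔ w ∈ ℓ := by
  rw [h.memZ]
  refine ⟨fun ⟨a, e1⟩ => ?_, fun hw => ?_⟩
  · obtain ⟨r, rfl⟩ := (sg_inj h.nd (h.ok hw) (h.oe a) h.u0).1 (h.inj e1)
    rw [add_comm]; exact RtA.comb_mem u e r a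
  · obtain ⟨a, b, rfl⟩ := Submodule.mem_span_pair.1 hw
    exact ⟨b, by rw [add_comm, sg_add_smul (h.oe b)]⟩

theorem act (hx : x ∈ P) : ∃ (T : SS Q) (l : F), Ac ι x T ∧ T.T u = l • u := by
  obtain ⟨T, ac⟩ := h.ac x hx
  have k : ∀ w, 𝐟 u w = 0 → (sg Q u w).1.1 (T.T u) = T.T u := fun w hw => by
    have e1 := (inv_conj_mem_of_mem_normalizer (h.nT hx) (h.TV hw)).1
    rw [← inv_inv x, inv_inv x⁻¹, ac.inv.act] at e1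
    have e2 := cE_apply T (cE T⁻¹ (sg Q u w)) u
    rwa [← cE_mul, mul_inv_cancel, cE_one, (h.fu _ e1).1] at e2
  have k1 := k e h.ts.p
  rw [sg_apply (ok_of h.ts), add_assoc, add_eq_left] at k1
  have k2 : T.T u ∈ perp Q (perp Q (Submodule.span F {u})) := fun w hw => by
    have := k w (mem_perp1.1 hw)
    rw [sg_apply_perp (h.ok (mem_perp1.1 hw)) (RtA.indep h.ti k1).2, add_eq_left, smul_eq_zero] at this
    rw [polar_comm, this.resolve_right h.u0]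
  rw [perp_perp h.nd] at k2
  obtain ⟨l, hl⟩ := Submodule.mem_span_singleton.1 k2
  exact ⟨T, l, ac, hl.symm⟩

theorem cjV (ac : Ac ι x T) (hl : T.T u = l • u) (hw : 𝐟 u w = 0) :
    𝐟 u (l • T.T w) = 0 ∧ x * ι (sg Q u w) * x⁻¹ = ι (sg Q u (l • T.T w)) := by
  have o : 𝐟 u (T.T w) = 0 := by
    have := (Rig.ok T (h.ok hw)).p
    rwa [hl, polar_smul_left', mul_eq_zero, or_iff_right (Rig.ne T h.u0 hl)] at this
  exact ⟨((h.ok o).smul l).p, by rw [ac.sg (h.ok hw), hl, sg_smul (h.ok o)]⟩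

theorem cmV (ac : Ac ι x T) (hl : T.T u = l • u) (hw : 𝐟 u w = 0) :
    𝐟 u (l • T.T w + w) = 0 ∧ ⁅x, ι (sg Q u w)⁆ = ι (sg Q u (l • T.T w + w)) := by
  obtain ⟨h1, h2⟩ := h.cjV ac hl hw
  exact ⟨((h.ok h1).add (h.ok hw)).p, by
    rw [commutatorElement_def, h2, ← map_inv, sg_inv, ← map_mul, ← sg_add (h.ok h1) (h.ok hw)]⟩

/-- the second centre -/
theorem sc (hx : x ∈ P) (hc : ∀ w, 𝐟 u w = 0 → ⁅x, ι (sg Q u w)⁆ ∈ 𝐙) :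
    ∃ w, 𝐟 u w = 0 ∧ Ac ι x (SS.oO Q (sg Q u w).1) := by
  obtain ⟨T, l, ac, hl⟩ := h.act hx
  have k : ∀ w, 𝐟 u w = 0 → l • T.T w + w ∈ ℓ := fun w hw => by
    obtain ⟨h1, h2⟩ := h.cmV ac hl hw
    exact (h.sgZ h1).1 (h2 ▸ hc w hw)
  obtain ⟨v, hv, v', hv', o⟩ := RgA.hyp h.toDm h.ti
  have hσ : T.σ = 1 := RingEquiv.ext fun a => by
    have p := (mem_perp2''.1 hv).1
    have := hv' _ (add_mem (k _ ((h.ok p).smul a).p) (Submodule.smul_mem _ (T.σ a) (k v p)))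
    rw [T.smul, smul_comm l, smul_add, add_add_add_comm, add_self' F, zero_add, ← add_smul,
      polar_smul_left', o.pol, mul_one, CharTwo.add_eq_zero] at this
    exact this.symm
  have l1 : l = 1 := by
    have m := add_mem hv hv'
    have m1 := k _ (mem_perp2''.1 m).1
    have e1 := Q_add (Q := Q) (l • T.T (v + v') + (v + v')) (v + v')
    rw [add_assoc, add_self' F, add_zero, h.ts.ts_span _ m1, m _ m1, Q_smul, ac.q, Q_add, o.left, o.right,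
      o.pol] at e1
    have : (l + 1) ^ 2 = 0 := by
      simp only [zero_add, map_one] at e1
      linear_combination e1 + (l + 1) * two_zero F
    linear_combination (pow_eq_zero_iff two_ne_zero).1 this - two_zero F
  obtain ⟨k', rfl⟩ := SS.exists_oO hσ ac.c
  simp only [l1, one_smul, SS.oO_T] at hl k
  obtain ⟨w, o, rfl⟩ := eq_eichler' h.nd h.ti hl fun y a b => by
    have := triv_perp h.nd (U := ℓ) (W := perp Q (Submodule.span F {u}))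
      (fun p hp => mem_perp1.2 (mem_perp2''.1 (RgA.lp h.ts hp)).1) (fun w hw => k w (mem_perp1.1 hw)) y
      (mem_perp2''.2 ⟨a, b⟩)
    rw [perp_perp h.nd] at this
    obtain ⟨c, hc⟩ := Submodule.mem_span_singleton.1 this
    exact ⟨c, by rw [hc, add_comm, add_assoc, add_self' F, add_zero]⟩
  exact ⟨w, o.p, ac⟩

theorem cent (ac : Ac ι x (SS.oO Q (sg Q u w).1)) (hw : 𝐟 u w = 0) (h1 : w ∈ ℓ) :
    ∃ z ∈ 𝐙, x * z ∈ 𝐂[𝐋] :=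
  ⟨_, (h.sgZ hw).2 h1, by have := ac.inner; rwa [← map_inv, sg_inv] at this⟩

theorem big1 (ac : Ac ι x (SS.oO Q (sg Q u w).1)) (hw : w ∈ perp Q ℓ) (h1 : w ∉ ℓ) (hz : z ∈ 𝐙) :
    ∃ w' ∈ perp Q ℓ, ⁅x, ι (sg Q e w')⁆ = z := by
  obtain ⟨a, rfl⟩ := h.memZ.1 hz
  obtain ⟨w', h2, h3⟩ := exists_perp h.nd h1 a
  exact ⟨w', h2, by rw [ac.cm, cm_ue h.ts (mem_perp2''.1 hw).1 h2, RtA.pe hw, h3, mul_zero, add_zero,
    zero_smul, add_zero]⟩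

theorem big2 (ac : Ac ι x (SS.oO Q (sg Q u w).1)) (hw : 𝐟 u w = 0) (h1 : w ∉ perp Q ℓ) :
    ∃ w' ∈ perp Q ℓ, ∃ y ∈ perp Q ℓ, y ∉ ℓ ∧ ⁅x, ι (sg Q e w')⁆ = ι (sg Q u y) := by
  obtain ⟨w', h2, h3⟩ := RgA.exn h.toDm h.ti
  refine ⟨w', h2, _, add_mem (RtA.ae_perp h.ts _) (Submodule.smul_mem _ _ h2), fun c => h3 ?_,
    by rw [ac.cm, cm_ue h.ts hw h2]⟩
  have := RtA.comb_mem u e 0 (𝐟 w w' + Q w' * 𝐟 w e)
  rw [zero_smul, zero_add] at this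
  exact (Submodule.smul_mem_iff _ fun c => h1 (mem_perp2''.2 ⟨hw, by rw [polar_comm, c]⟩)).1
    ((Submodule.add_mem_iff_right _ this).1 c)

theorem c2 : 𝐙 ≤ ⁅P ⊓ 𝐋, P ⊓ 𝐋⁆ := fun z hz => by
  obtain ⟨w, h1, h2⟩ := RgA.exn h.toDm h.ti
  obtain ⟨w', h3, rfl⟩ := h.big1 (ac_self ι _) h1 h2 hz
  exact commutator_mem_commutator (h.TV (mem_perp2''.1 h1).1) (h.TE h3)

theorem zf {K : Subgroup G} (hK : K ≤ P) (hn : P ⊓ 𝐋 ≤ 𝐍[K]) : K ≤ 𝐂[P ⊓ 𝐋] ∨ 𝐙 ≤ K := by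
  have c : ∀ x ∈ K, ∀ τ ∈ P ⊓ 𝐋, ⁅x, τ⁆ ∈ K := fun x hx τ hτ => by
    rw [commutatorElement_def, mul_assoc, mul_assoc, ← mul_assoc τ]
    exact mul_mem hx (conj_mem_of_mem_normalizer (hn hτ) (inv_mem hx))
  have b1 : ∀ x ∈ K, ∀ w ∈ perp Q ℓ, Ac ι x (SS.oO Q (sg Q u w).1) → w ∉ ℓ → 𝐙 ≤ K :=
    fun x hx w hw ac h1 z hz => by
      obtain ⟨w', h2, rfl⟩ := h.big1 ac hw h1 hz
      exact c x hx _ (h.TE h2)
  by_cases hb : ∃ x ∈ K, ∃ w, 𝐟 u w = 0 ∧ Ac ι x (SS.oO Q (sg Q u w).1) ∧ w ∉ ℓ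
  · obtain ⟨x, hx, w, hw, ac, h1⟩ := hb
    by_cases h2 : w ∈ perp Q ℓ
    · exact .inr (b1 x hx w h2 ac h1)
    obtain ⟨w', h3, y, h4, h5, h6⟩ := h.big2 ac hw h2
    exact .inr (b1 _ (h6 ▸ c x hx _ (h.TE h3)) y h4 (ac_self ι _) h5)
  push Not at hb
  refine .inl fun x hx τ hτ => ?_
  obtain ⟨w, hw, ac⟩ := h.sc (hK hx) fun w hw => by
    obtain ⟨T, l, ac, hl⟩ := h.act (hK hx)
    obtain ⟨h1, h2⟩ := h.cmV ac hl hw
    exact h2 ▸ (h.sgZ h1).2 (hb _ (h2 ▸ c x hx _ (h.TV hw)) _ h1 (ac_self ι _))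
  obtain ⟨z, z1, z2⟩ := h.cent ac hw (hb x hx w hw ac)
  have := z2 τ hτ.2
  rwa [mul_assoc, ← z1.2 τ hτ, ← mul_assoc, ← mul_assoc, mul_left_inj] at this

theorem h4 : ∃ A ≤ P ⊓ 𝐋, (∀ a ∈ A, a * a = 1) ∧ P ≤ 𝐍[A] ∧ 2 < Nat.card A := by
  have m : ∀ x, x ∈ (VU Q u (perp Q (Submodule.span F {u}))).map ι ↔ ∃ w, 𝐟 u w = 0 ∧ x = ι (sg Q u w) :=
    fun x => ⟨fun ⟨g, hg, e1⟩ => by
      obtain ⟨w, hw, rfl⟩ := (mem_VU h.ts.l fun w hw => mem_perp1.1 hw).1 hg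
      exact ⟨w, mem_perp1.1 hw, e1.symm⟩, fun ⟨w, hw, e1⟩ =>
      ⟨_, (mem_VU h.ts.l fun w hw => mem_perp1.1 hw).2 ⟨w, mem_perp1.2 hw, rfl⟩, e1.symm⟩⟩
  refine ⟨_, fun x hx => ?_, fun x hx => ?_, le_normalizer_iff_cj.2 fun x hx =>
    cj_le_iff_forall.2 fun y hy => (m _).2 ?_, ?_⟩
  · obtain ⟨w, hw, rfl⟩ := (m x).1 hx
    exact h.TV hw
  · obtain ⟨w, hw, rfl⟩ := (m x).1 hx
    rw [← map_mul, sg_sq, map_one]
  · obtain ⟨w, hw, rfl⟩ := (m y).1 hy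
    obtain ⟨T, l, ac, hl⟩ := h.act hx
    exact ⟨_, h.cjV ac hl hw⟩
  · obtain ⟨w, h1, h2⟩ := RgA.exn h.toDm h.ti
    have p := (mem_perp2''.1 h1).1
    have n := fun c : ι (sg Q u w) ∈ 𝐙 => h2 ((h.sgZ p).1 c)
    have := Fintype.ofFinite ((VU Q u (perp Q (Submodule.span F {u}))).map ι)
    rw [Nat.card_eq_fintype_card]
    refine Fintype.two_lt_card_iff.2 ⟨1, ⟨_, (m _).2 ⟨e, h.ts.p, rfl⟩⟩, ⟨_, (m _).2 ⟨w, p, rfl⟩⟩,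
      fun c => ?_, fun c => n ?_, fun c => n ?_⟩
    · exact RtA.sg_ne h.nd h.ti (h.inj ((congrArg Subtype.val c).symm.trans (map_one ι).symm))
    · exact (show 1 = ι (sg Q u w) from congrArg Subtype.val c) ▸ one_mem _
    · exact (show ι (sg Q u e) = ι (sg Q u w) from congrArg Subtype.val c) ▸
        h.memZ.2 ⟨1, by rw [one_smul]⟩

theorem zc {a b : G} (ha : a ∈ 𝐙) (hb : b ∈ 𝐙) (a1 : a ≠ 1) (b1 : b ≠ 1) :
    ∃ l ∈ 𝐋, l * a * l⁻¹ = b := by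
  obtain ⟨a, rfl⟩ := h.memZ.1 ha
  obtain ⟨b, rfl⟩ := h.memZ.1 hb
  have n : ∀ a : F, ι (sg Q u (a • e)) ≠ 1 → a ≠ 0 := fun a h c =>
    h (by rw [c, zero_smul, sg_zero, map_one])
  obtain ⟨g, hg⟩ := h.toDm.conj_root (h.ti.root h.nd (n a a1)) (h.ti.root h.nd (n b b1))
  exact ⟨ι g, ⟨g, rfl⟩, by rw [← map_inv, ← map_mul, ← map_mul, hg]⟩

theorem exf : ∃ f, 𝐟 u f = 0 ∧ 𝐟 f e = 1 := by
  obtain ⟨-, f, -, o, h1, -⟩ := exists_frame h.nd h.ti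
  exact ⟨f, h1, o.pol'⟩

theorem mu : ⁅P ⊓ 𝐂[⁅P ⊓ 𝐋, P ⊓ 𝐋⁆], P ⊓ 𝐂[⁅P ⊓ 𝐋, P ⊓ 𝐋⁆]⁆ ≤ 𝐂[𝐋] := by
  obtain ⟨f, f1, f2⟩ := h.exf
  have k : ∀ x ∈ P ⊓ 𝐂[⁅P ⊓ 𝐋, P ⊓ 𝐋⁆], ∃ w, Ac ι x (SS.oO Q (sg Q u w).1) := fun x hx => by
    obtain ⟨w, -, hw⟩ := h.toRp.rv0 h.ti (h.nr hx.1) fun y h1 h2 => (hx.2 _ (by
      have := commutator_mem_commutator (h.TV f1) (h.TE (mem_perp2''.2 ⟨h1, h2⟩))
      rw [← map_commutatorElement, cm_ue h.ts f1 (mem_perp2''.2 ⟨h1, h2⟩), f2, one_smul,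
        sg_add (h.oe _) (h.ok h1), map_mul] at this
      exact (mul_mem_cancel_left (h.c2 (h.memZ.2 ⟨_, rfl⟩))).1 this)).symm
    have := (ac_one hw).mul (ac_self ι (sg Q u w))
    rw [inv_mul_cancel_right, one_mul] at this
    exact ⟨w, this⟩
  refine commutator_le.2 fun x hx y hy => ?_
  obtain ⟨w, a1⟩ := k x hx
  obtain ⟨w', a2⟩ := k y hy
  have := ((a1.mul a2).mul a1.inv).mul a2.inv
  have c : Commute (SS.oO Q (sg Q u w).1) (SS.oO Q (sg Q u w').1) :=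
    ((sg_comm u w w').map (EG Q).subtype).map (SS.oO Q)
  rw [c.eq, mul_inv_cancel_right, mul_inv_cancel] at this
  exact this.cent

end Lc

end Cfsg.Agent.StdO
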