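import Cfsg.Agent.StdO.LocB
import Cfsg.Agent.StdO.LocC

/-! The local facts of the wreath theorem for `Ω`: the group `Q D` is characteristic. -/

set_option autoImplicit false
set_option linter.unusedSectionVars false
set_option linter.unusedVariables false

namespace Cfsg.Agent.StdO

open Subgroup Module QuadraticMap Cfsg.Agent.Class.Orth Cfsg.Agent.KSG Cfsg.Agent.PLocal.Amb
  Cfsg.Agent.Lyons
open Cfsg.Agent.WfS (Zt)
open scoped commutatorElement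

variable {F V : Type*} [Field F] [Finite F] [CharP F 2] [AddCommGroup V] [Module F V]
  [FiniteDimensional F V] {Q : QuadraticForm F V} {G : Type*} [Group G] [Finite G]
  {ι : EG Q →* G} {P : Subgroup G}

local notation "𝐟" => polar Q

variable {u e m v v' w w' y : V} {a a' l : F} {x x' z d d' γ : G} {g s : EG Q} {T : SS Q} {k k' : OG Q}
  {Z N : Subgroup G}

local notation "ℓ" => Submodule.span F (insert u (Singleton.singleton e) : Set V)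
local notation "𝐋" => MonoidHom.range ι
local notation "𝐙" => Zt (P ⊓ MonoidHom.range ι)
local notation "𝐃" => P ⊓ 𝐂[MonoidHom.range ι]
local notation "𝐐" => Subgroup.map ι (Qq Q u e)

theorem Rp.uq (h : Rp ι) (h1 : Ac ι x (SS.oO Q k)) (h2 : Ac ι x (SS.oO Q k')) : k = k' :=
  SS.oO_injective (h.uniq h1 h2)

theorem Ac.mulO (h1 : Ac ι x (SS.oO Q k)) (h2 : Ac ι x' (SS.oO Q k')) :
    Ac ι (x * x') (SS.oO Q (k * k')) := map_mul (SS.oO Q) k k' ▸ h1.mul h2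

theorem Ac.invO (h1 : Ac ι x (SS.oO Q k)) : Ac ι x⁻¹ (SS.oO Q k⁻¹) := map_inv (SS.oO Q) k ▸ h1.inv

theorem Ac.cmO (h1 : Ac ι x (SS.oO Q k)) (h2 : Ac ι x' (SS.oO Q k')) :
    Ac ι ⁅x, x'⁆ (SS.oO Q ⁅k, k'⁆) := ((h1.mulO h2).mulO h1.invO).mulO h2.invO

theorem cj_cm (γ x y : G) : ⁅γ * x * γ⁻¹, y⁆ = γ * ⁅x, γ⁻¹ * y * γ⁆ * γ⁻¹ := by
  simp only [commutatorElement_def]; group

/-- the characteristic properties of `Q` -/
structure Nq (P Z N : Subgroup G) : Prop where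
  le : N ≤ P
  nr : P ≤ 𝐍[N]
  cm : ∀ x ∈ N, ∀ y ∈ N, ⁅x, y⁆ ∈ Z
  on : ∀ y ∈ P, (∀ x ∈ P, ⁅y, x⁆ ∈ Z) → y ∈ 𝐂[P] ∨ ∀ z ∈ Z, ∃ x ∈ N, ⁅y, x⁆ = z

theorem Nq.cj (h : Nq P Z N) (h1 : γ ∈ 𝐍[P]) (h2 : γ ∈ 𝐍[Z]) : Nq P Z cj(γ, N) := by
  refine ⟨cj_le_of_mem_normalizer h.le h1, ?_, fun x hx y hy => ?_, fun y hy hc => ?_⟩
  · rw [normalizer_cj, ← cj_of_mem_normalizer h1]; exact cj_mono γ h.nr
  · obtain ⟨x, hx', rfl⟩ := mem_cj_iff_exists.1 hx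
    rw [cj_cm]
    exact conj_mem_of_mem_normalizer h2 (h.cm x hx' _ (mem_cj.1 hy))
  · rcases h.on _ (inv_conj_mem_of_mem_normalizer h1 hy) (fun x hx => by
      rw [← inv_inv γ, inv_inv γ⁻¹, cj_cm, inv_inv]
      exact inv_conj_mem_of_mem_normalizer h2 (hc _ (conj_mem_of_mem_normalizer h1 hx))) with c | c
    · exact .inl (by
        simpa [mul_assoc] using conj_mem_of_mem_normalizer (normalizer_le_normalizer_centralizer P h1) c)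
    · refine .inr fun z hz => ?_
      obtain ⟨x, hx, e1⟩ := c _ (inv_conj_mem_of_mem_normalizer h2 hz)
      refine ⟨_, conj_mem_cj γ hx, ?_⟩
      calc _ = γ * ⁅γ⁻¹ * y * γ, x⁆ * γ⁻¹ := by simp only [commutatorElement_def]; group
        _ = z := by rw [e1]; group

theorem Nq.cl (h : Nq P Z N) (hx : x ∈ N) (hy : x' ∈ P) : ⁅x', x⁆ ∈ N :=
  mul_mem (conj_mem_of_mem_normalizer (h.nr hy) hx) (inv_mem hx)

namespace Lc

variable (h : Lc ι P u e)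
include h

theorem pw (hx : x ∈ P) (ac : Ac ι x (SS.oO Q k)) : ∃ j : ℕ, k ^ 2 ^ j = 1 := by
  obtain ⟨j, hj⟩ := isPGroup_iff.1 h.pg x hx
  have := ac.pow (2 ^ j)
  rw [hj, ← map_pow] at this
  exact ⟨j, h.toRp.uq this (map_one (SS.oO Q) ▸ ac_one (one_mem _))⟩

theorem lin0 (hx : x ∈ P) (ac : Ac ι x (SS.oO Q g.1)) : ι g ∈ P := by
  obtain ⟨j, hj⟩ := h.pw hx ac
  exact (zpowers_le.1 (h.syl.le_of_normalizes
    (isPGroup_zpowers ⟨j, by rw [← map_pow, show g ^ 2 ^ j = 1 from Subtype.ext hj, map_one]⟩)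
    (zpowers_le.2 ⟨g, rfl⟩) (zpowers_le.2 (mem_normalizer_of_cj_le (cj_le_iff_forall.2 fun τ hτ => by
      have := conj_mem_of_mem_normalizer (h.nT hx) hτ
      obtain ⟨s, rfl⟩ := hτ.2
      rwa [ac.act, ← (ac_self ι g).act] at this))))).1

theorem lin (hx : x ∈ P) (ac : Ac ι x (SS.oO Q g.1)) {A : Subgroup G} (hA : ι g ∈ P → ι g ∈ A) :
    x ∈ A ⊔ 𝐃 := by
  have h1 := h.lin0 hx ac
  simpa using mul_mem (mem_sup_right (S := A) (mem_inf.2 ⟨P.mul_mem hx (P.inv_mem h1), ac.inner⟩))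
    (mem_sup_left (hA h1))

theorem ao0 (hZ : P ≤ 𝐂[𝐙]) (hx : x ∈ P) :
    ∃ k, Ac ι x (SS.oO Q k) ∧ k.1 u = u ∧ ∃ a : F, k.1 e = e + a • u := by
  obtain ⟨T, l, ac, hl⟩ := h.act hx
  have k : ∀ a : F, ∃ r : F, l • T.T (a • e) = a • e + r • u := fun a => by
    obtain ⟨h1, h2⟩ := h.cjV ac hl (h.oe a).p
    rw [mul_inv_eq_iff_eq_mul.2 (hZ hx _ (h.memZ.2 ⟨a, rfl⟩)).symm] at h2
    exact (sg_inj h.nd (h.ok h1) (h.oe a) h.u0).1 (h.inj h2.symm)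
  obtain ⟨r, hr⟩ := k 1
  rw [one_smul] at hr
  have hσ : T.σ = 1 := RingEquiv.ext fun a => by
    obtain ⟨r', hr'⟩ := k a
    rw [T.smul, smul_comm, hr] at hr'
    exact sub_eq_zero.1 (RtA.indep h.ti (a := T.σ a * r - r') (b := T.σ a - a)
      (by linear_combination (norm := module) hr')).2
  obtain ⟨k', rfl⟩ := SS.exists_oO hσ ac.c
  rw [SS.oO_T] at hl hr
  obtain ⟨j, hj⟩ := h.pw hx ac
  have p : ∀ n : ℕ, (k' ^ n).1 u = l ^ n • u := fun n => by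
    induction n with
    | zero => rw [pow_zero, pow_zero, one_smul]; rfl
    | succ n ih => rw [pow_succ, OG.mul_apply, hl, map_smul, ih, smul_smul, pow_succ']
  have e1 : l ^ 2 ^ j = 1 :=
    smul_left_injective F h.u0 (by simpa [hj, OG.one_apply] using (p (2 ^ j)).symm)
  have : Fact (Nat.Prime 2) := ⟨Nat.prime_two⟩
  obtain rfl : l = 1 := sub_eq_zero.1 (pow_eq_zero_iff (pow_ne_zero j two_ne_zero) |>.1 (by
    rw [sub_pow_char_pow, e1, one_pow, sub_self]))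
  rw [one_smul] at hl hr
  exact ⟨k', ac, hl, r, hr⟩

theorem cmZ (a1 : Ac ι x (SS.oO Q k)) :
    ⁅x, ι s⁆ ∈ 𝐙 ↔ ∃ c : F, ⁅k, s.1⁆ = eichler Q u (c • e) := by
  rw [h.memZ, commutatorElement_def, a1.act, ← map_inv, ← map_mul]
  refine exists_congr fun c => h.inj.eq_iff.trans (Subtype.ext_iff.trans ?_)
  rw [coe_mul, cE_oO]; rfl

theorem cmV' (ac : Ac ι x (SS.oO Q k)) (h1 : k.1 u = u) (hw : 𝐟 u w = 0) :
    𝐟 u (k.1 w + w) = 0 ∧ ⁅x, ι (sg Q u w)⁆ = ι (sg Q u (k.1 w + w)) := by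
  simpa using h.cmV (l := 1) ac (by rw [one_smul]; exact h1) hw

theorem QP : 𝐐 ≤ P := by
  rintro _ ⟨g, hg, rfl⟩
  obtain ⟨w, hw, w', hw', rfl⟩ := (mem_Qq h.ts).1 hg
  rw [map_mul]
  exact mul_mem (h.mV w (mem_perp2''.1 hw).1) (h.mE w' hw')

theorem memN : x ∈ 𝐐 ⊔ 𝐃 ↔ ∃ w ∈ perp Q ℓ, ∃ w' ∈ perp Q ℓ, ∃ d ∈ 𝐃,
    x = ι (sg Q u w * sg Q e w') * d := by
  rw [mem_sup_of_le_normalizer_left (inf_le_right.trans ((centralizer_anti (map_le_range _ _)).trans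
    (centralizer_le_normalizer' _)))]
  refine ⟨fun ⟨_, ⟨g, hg, e1⟩, d, hd, e2⟩ => ?_, fun ⟨w, hw, w', hw', d, hd, e1⟩ =>
    ⟨_, mem_map_of_mem ι ((mem_Qq h.ts).2 ⟨w, hw, w', hw', rfl⟩), d, hd, e1⟩⟩
  obtain ⟨w, hw, w', hw', rfl⟩ := (mem_Qq h.ts).1 hg
  exact ⟨w, hw, w', hw', d, hd, e1 ▸ e2⟩

theorem acN (hx : x ∈ 𝐐 ⊔ 𝐃) (ac : Ac ι x (SS.oO Q k)) (hv : v ∈ perp Q ℓ) : k.1 v + v ∈ ℓ := by
  obtain ⟨w, hw, w', hw', d, hd, rfl⟩ := h.memN.1 hx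
  have := (ac_self ι (sg Q u w * sg Q e w')).mul (ac_one hd.2)
  rw [mul_one] at this
  rw [h.toRp.uq ac this]
  exact ((mem_Qq' h.nd h.ti).1 ((mem_Qq h.ts).2 ⟨w, hw, w', hw', rfl⟩)).2 v hv

end Lc

/-- the context of `gr` -/
structure Lg (ι : EG Q →* G) (P : Subgroup G) (u e m : V) : Prop extends Lc ι P u e where
  hZ : P ≤ 𝐂[Zt (P ⊓ ι.range)]
  hD : P ⊓ 𝐂[ι.range] ≤ 𝐂[P]
  t3 : TI Q ![u, e, m]
  ao : ∀ x ∈ P, ∃ (k : OG Q) (a : F), Ac ι x (SS.oO Q k) ∧ k.1 u = u ∧ k.1 e = e + a • u ∧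
    k.1 m + m ∈ Submodule.span F {u, e}
  mM : ∀ w ∈ perp Q (Submodule.span F {u, e}), 𝐟 m w = 0 → ι (sg Q m w) ∈ P
  gen : ∀ H : Subgroup (EG Q), (∀ w, 𝐟 u w = 0 → sg Q u w ∈ H) →
    (∀ w ∈ perp Q (Submodule.span F {u, e}), sg Q e w ∈ H) →
    (∀ x ∈ perp Q (Submodule.span F {u, e}), ∀ y ∈ perp Q (Submodule.span F {u, e}), Ok Q x y →
      (∀ a b : F, a • x + b • y ∈ Submodule.span F {u, e} → a = 0 ∧ b = 0) →
      (∀ c : F, ι (sg Q x (c • y)) ∈ P) → sg Q x y ∈ H) → ∀ g, ι g ∈ P → g ∈ H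

theorem Lc.exists_lg (h : Lc ι P u e) (hZ : P ≤ 𝐂[𝐙]) (hD : 𝐃 ≤ 𝐂[P]) : ∃ m, Lg ι P u e m := by
  let S : Subgroup (OG Q) :=
    { carrier := {k | ∃ x ∈ P, Ac ι x (SS.oO Q k)}
      one_mem' := ⟨1, one_mem _, map_one (SS.oO Q) ▸ ac_one (one_mem _)⟩
      mul_mem' := fun ⟨x, hx, a1⟩ ⟨y, hy, a2⟩ => ⟨_, mul_mem hx hy, a1.mulO a2⟩
      inv_mem' := fun ⟨x, hx, a1⟩ => ⟨_, inv_mem hx, a1.invO⟩ }
  have k : ∀ g : EG Q, g.1 ∈ S ↔ ι g ∈ P := fun g =>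
    ⟨fun ⟨x, hx, ac⟩ => h.lin0 hx ac, fun hg => ⟨_, hg, ac_self ι g⟩⟩
  obtain ⟨-, -, ⟨m, h1, h2, h3⟩, h4⟩ := (mx_of h.toRp h.syl (S := S)
    (isPGroup_iff.2 fun k ⟨x, hx, ac⟩ => h.pw hx ac) k).main h.toDm h.ti fun k ⟨x, hx, ac⟩ => by
      obtain ⟨k', a1, a2⟩ := h.ao0 hZ hx
      rwa [h.toRp.uq ac a1]
  refine ⟨m, h, hZ, hD, h1, fun x hx => ?_, fun w hw p => (k (sg Q m w)).1 (h3 w hw p),
    fun H a b c g hg => h4 H a b (fun x hx y hy o i j => c x hx y hy o i fun r =>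
      (k (sg Q x (r • y))).1 (j r)) g ((k g).2 hg)⟩
  obtain ⟨k', a1, a2, a, a3⟩ := h.ao0 hZ hx
  exact ⟨k', a, a1, a2, a3, h2 k' ⟨x, hx, a1⟩⟩

namespace Lg

variable (h : Lg ι P u e m)
include h

theorem mp : m ∈ perp Q ℓ := mem_perp2''.2 ⟨(ti3_iff.1 h.t3).2.1.p, (ti3_iff.1 h.t3).2.2.1⟩
theorem qm : Q m = 0 := (ti3_iff.1 h.t3).2.1.r
theorem mn : m ∉ ℓ := fun c => by
  obtain ⟨a, b, c⟩ := Submodule.mem_span_pair.1 c
  exact one_ne_zero ((ti3_iff.1 h.t3).2.2.2 a b 1 (by rw [c, one_smul, add_self' F])).2.2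

theorem nq : Nq P 𝐙 𝐐 := by
  refine ⟨h.QP, le_normalizer_iff_cj.2 fun x hx => cj_le_iff_forall.2 ?_, ?_, fun y hy hc => ?_⟩
  · rintro _ ⟨g, hg, rfl⟩
    obtain ⟨w, hw, w', hw', rfl⟩ := (mem_Qq h.ts).1 hg
    obtain ⟨k, a, ac, h1, h2, -⟩ := h.ao x hx
    rw [map_mul, ← conj_mul, ac.sg (RtA.oku h.ts hw), ac.sg (RtA.oke h.ts hw'), ← map_mul]
    simp only [SS.oO_T, h1, h2]
    exact mem_map_of_mem ι (mul_mem (RgA.sgp_Qq h.nd h.ti (RtA.u_mem u e) (map_perp h1 h2 hw))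
      (RgA.sgp_Qq h.nd h.ti (by simpa [add_comm] using RtA.comb_mem u e a 1) (map_perp h1 h2 hw')))
  · rintro _ ⟨g, hg, rfl⟩ _ ⟨g', hg', rfl⟩
    obtain ⟨w, hw, w', hw', rfl⟩ := (mem_Qq h.ts).1 hg
    obtain ⟨v, hv, v', hv', rfl⟩ := (mem_Qq h.ts).1 hg'
    rw [← map_commutatorElement, cm_Qq h.ts hw hw' hv hv']
    exact h.memZ.2 ⟨_, rfl⟩
  · obtain ⟨w, hw, ac⟩ := h.sc hy fun w hw => hc _ (h.mV w hw)
    by_cases h1 : w ∈ ℓ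
    · obtain ⟨z, z1, z2⟩ := h.cent ac hw h1
      exact .inl ((mul_mem_cancel_right (le_centralizer_iff.1 h.hZ z1)).1
        (h.hD ⟨mul_mem hy z1.1.1, z2⟩))
    have h2 : w ∈ perp Q ℓ := by
      by_contra c
      obtain ⟨w', h3, y', h4, h5, h6⟩ := h.big2 ac hw c
      exact h5 ((h.sgZ (mem_perp2''.1 h4).1).1 (h6 ▸ hc _ (h.mE w' h3)))
    refine .inr fun z hz => ?_
    obtain ⟨w', h3, h4⟩ := h.big1 ac h2 h1 hz
    exact ⟨_, mem_map_of_mem ι (RgA.sgp_Qq h.nd h.ti (by simpa using RtA.comb_mem u e (0 : F) 1) h3), h4⟩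

theorem ex3 (c : F) : ∃ v ∈ perp Q ℓ, ∃ w ∈ perp Q ℓ, 𝐟 m v = 0 ∧ 𝐟 m w = 0 ∧ 𝐟 v w = c := by
  obtain ⟨v, h1, h2⟩ : ∃ v ∈ perp Q (Submodule.span F {u, e, m}), v ∉ Submodule.span F {u, e, m} := by
    by_contra! c
    have h1 := Submodule.finrank_mono (show perp Q _ ≤ _ from c)
    have h2 := finrank_perp h.nd (Submodule.span F {u, e, m})
    have h3 := (Rig.ts3 h.t3).2
    have h4 := h.d8
    omega
  obtain ⟨w, h3, h4⟩ := exists_perp h.nd h2 c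
  rw [mem_perp3] at h1 h3
  exact ⟨v, mem_perp2''.2 ⟨h1.1, h1.2.1⟩, w, mem_perp2''.2 ⟨h3.1, h3.2.1⟩, h1.2.2, h3.2.2, h4⟩

theorem onN (n : Nq P 𝐙 N) (c : F) : ι (sg Q u (c • e)) ∈ N ∧ ∃ x ∈ N, ∃ (k : OG Q) (a r : F),
    Ac ι x (SS.oO Q k) ∧ k.1 u = u ∧ k.1 e = e + a • u ∧ k.1 m = m + r • u + c • e := by
  have p := (mem_perp2''.1 h.mp).1
  rcases n.on _ (h.mV m p) (fun x hx => by
    obtain ⟨k, a, ac, h1, -, h2⟩ := h.ao x hx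
    obtain ⟨h3, h4⟩ := h.cmV' ac h1 p
    rw [← commutatorElement_inv, h4]
    exact inv_mem ((h.sgZ h3).2 h2)) with c1 | c1
  · obtain ⟨w', h1, h2⟩ := h.big1 (ac_self ι _) h.mp h.mn (h.memZ.2 ⟨1, rfl⟩)
    rw [commutatorElement_eq_one_iff_mul_comm.2 (c1 _ (h.mE w' h1)).symm, one_smul] at h2
    exact (RtA.sg_ne h.nd h.ti (h.inj (h2.symm.trans (map_one ι).symm))).elim
  obtain ⟨x, hx, e1⟩ := c1 _ (h.memZ.2 ⟨c, rfl⟩)
  obtain ⟨k, a, ac, h1, h2, -⟩ := h.ao x (n.le hx)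
  obtain ⟨h3, h4⟩ := h.cmV' ac h1 p
  refine ⟨e1 ▸ n.cl hx (h.mV m p), x, hx, k, a, ?_⟩
  rw [← commutatorElement_inv, e1, ← map_inv, sg_inv] at h4
  obtain ⟨r, hr⟩ := (sg_inj h.nd (h.ok h3) (h.oe c) h.u0).1 (h.inj h4.symm)
  exact ⟨r, ac, h1, h2, by rw [add_assoc, add_comm (r • u), ← hr, add_comm, add_assoc, add_self' F, add_zero]⟩

theorem V0 (n : Nq P 𝐙 N) (hy : y ∈ perp Q ℓ) : ι (sg Q u y) ∈ N := by
  have add : ∀ v ∈ perp Q ℓ, ∀ w ∈ perp Q ℓ, ι (sg Q u v) ∈ N → ι (sg Q u w) ∈ N →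
      ι (sg Q u (v + w)) ∈ N := fun v hv w hw a b => by
    rw [sg_add (RtA.oku h.ts hv) (RtA.oku h.ts hw), map_mul]; exact mul_mem a b
  obtain ⟨f, f1, f2⟩ := h.exf
  have s2 : ∀ c : F, ∃ y ∈ perp Q ℓ, 𝐟 y m = c ∧ ι (sg Q u y) ∈ N := fun c => by
    obtain ⟨-, x, hx, k, a, r, ac, h1, h2, h3⟩ := h.onN n c
    obtain ⟨h4, h5⟩ := h.cmV' ac h1 f1
    have e1 : 𝐟 (k.1 f) u = 0 := by rw [← h1, OG.map_polar, polar_comm, f1]
    have e2 : 𝐟 (k.1 f) e = 1 := by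
      have := OG.map_polar k f e
      rwa [h2, polar_add_right, polar_smul_right', e1, mul_zero, add_zero, f2] at this
    have e3 := OG.map_polar k f m
    rw [h3, polar_add_right, polar_add_right, polar_smul_right', polar_smul_right', e1, e2] at e3
    refine ⟨_, mem_perp2''.2 ⟨h4, ?_⟩, ?_, ?_⟩
    · rw [polar_comm, polar_add_left, e2, f2, CharTwo.add_self_eq_zero]
    · rw [polar_add_left]; linear_combination e3 + (𝐟 f m - c) * two_zero F + c * two_zero F * 0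
    · rw [← h5, ← commutatorElement_inv]; exact inv_mem (n.cl hx (h.mV f f1))
  have cl : ∀ y ∈ perp Q ℓ, ι (sg Q u y) ∈ N → ∀ w ∈ perp Q ℓ, 𝐟 m w = 0 →
      ι (sg Q u ((𝐟 y w + Q w * 𝐟 y m) • m + 𝐟 y m • w)) ∈ N := fun y hy hN w hw p => by
    have := n.cl hN (h.mM w hw p)
    rwa [← map_commutatorElement, cm_sg (RtA.oku h.ts hy) (sg_fix (mem_perp2''.1 h.mp).1
      (mem_perp2''.1 hw).1), sg_apply ⟨h.qm, p⟩, add_comm _ y, add_assoc y, ← add_assoc y, add_self' F,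
      zero_add] at this
  obtain ⟨y₁, h1, h2, h3⟩ := s2 1
  have B : ∀ w ∈ perp Q ℓ, 𝐟 m w = 0 → ∃ b : F, ι (sg Q u (b • m + w)) ∈ N := fun w hw p =>
    ⟨_, by simpa only [h2, one_smul] using cl y₁ h1 h3 w hw p⟩
  have sm : ∀ c : F, c • m ∈ perp Q ℓ := fun c => Submodule.smul_mem _ c h.mp
  have M : ∀ c : F, ι (sg Q u (c • m)) ∈ N := fun c => by
    obtain ⟨v, hv, w, hw, p1, p2, p3⟩ := h.ex3 c
    obtain ⟨b, hb⟩ := B v hv p1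
    have := cl _ (add_mem (sm b) hv) hb w hw p2
    simpa only [polar_add_left, polar_smul_left', f_self, polar_comm Q v m, p1, p2, p3, mul_zero, zero_add,
      add_zero, zero_smul] using this
  obtain ⟨y₂, h4, h5, h6⟩ := s2 (𝐟 y m)
  obtain ⟨b, hb⟩ := B _ (add_mem hy h4) (by
    rw [polar_comm, polar_add_left, h5, CharTwo.add_self_eq_zero])
  have := add _ (add_mem (sm b) (add_mem (sm b) (add_mem hy h4))) _ h4
    (add _ (sm b) _ (add_mem (sm b) (add_mem hy h4)) (M b) hb) h6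
  rwa [← add_assoc, add_self' F, zero_add, add_assoc, add_self' F, add_zero] at this

theorem leN (n : Nq P 𝐙 N) : N ≤ 𝐐 ⊔ 𝐃 := by
  have tr : ∀ x ∈ N, ∀ k : OG Q, Ac ι x (SS.oO Q k) → k.1 u = u → ∀ w ∈ perp Q ℓ, k.1 w + w ∈ ℓ :=
    fun x hx k ac h1 w hw => by
      obtain ⟨h3, h4⟩ := h.cmV' ac h1 (mem_perp2''.1 hw).1
      exact (h.sgZ h3).1 (h4 ▸ n.cm x hx _ (h.V0 n hw))
  have co : ∀ {k : OG Q} {w : V}, k.1 w + w ∈ ℓ → ∃ α β : F, k.1 w = w + α • u + β • e := fun {k w} c => by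
    obtain ⟨α, β, c⟩ := Submodule.mem_span_pair.1 c
    exact ⟨α, β, by rw [add_assoc, c, add_comm, add_assoc, add_self' F, add_zero]⟩
  have st : ∀ x ∈ N, ∀ x' ∈ N, ∀ (k k' : OG Q) (a a' α β α' β' : F), Ac ι x (SS.oO Q k) →
      Ac ι x' (SS.oO Q k') → k.1 u = u → k.1 e = e + a • u → k'.1 u = u → k'.1 e = e + a' • u →
      ∀ y ∈ perp Q ℓ, k.1 y = y + α • u + β • e → k'.1 y = y + α' • u + β' • e → β' * a = β * a' :=
    fun x hx x' hx' k k' a a' α β α' β' a1 a2 h1 h2 h3 h4 y hy h5 h6 => by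
      obtain ⟨c, hc⟩ := h.memZ.1 (n.cm x hx x' hx')
      have := (cm_iff h.nd h.ti (fun y => map_perp h1 h2) fun y => map_perp h3 h4).1
        ⟨c, h.toRp.uq (a1.cmO a2) (hc ▸ ac_self ι _)⟩ y hy
      simp only [h5, h6, map_add, map_smul, h1, h2, h3, h4] at this
      exact smul_left_injective F h.u0 (by linear_combination (norm := module) this)
  obtain ⟨-, x₁, hx₁, k₁, a₁, r, a1, h1, h2, h3⟩ := h.onN n 1
  obtain ⟨v, hv, w, hw, p1, p2, p3⟩ := h.ex3 1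
  have o : Ok Q m w := ⟨h.qm, p2⟩
  have s1 : (sg Q m w).1.1 u = u := sg_fix (mem_perp2''.1 h.mp).1 (mem_perp2''.1 hw).1
  have s2 : (sg Q m w).1.1 e = e := sg_fix (mem_perp2''.1 h.mp).2 (mem_perp2''.1 hw).2
  have s3 : (sg Q m w).1.1 m = m := sg_fix (f_self m) p2
  have s4 : (sg Q m w).1.1 v = v + m := by rw [sg_apply_perp o (by rw [polar_comm, p1]), p3, one_smul]
  obtain ⟨α, β, h4⟩ := co (tr x₁ hx₁ k₁ a1 h1 v hv)
  have a0 : a₁ = 0 := by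
    have c := conj_mem_of_mem_normalizer (n.nr (h.mM w hw p2)) hx₁
    rw [← map_inv, sg_inv] at c
    have := st _ hx₁ _ c k₁ _ a₁ a₁ α β (α + r) (β + 1) a1
      (((ac_self ι (sg Q m w)).mulO a1).mulO (ac_self ι (sg Q m w))) h1 h2
      (by rw [OG.mul_apply, OG.mul_apply, s1, h1, s1])
      (by rw [OG.mul_apply, OG.mul_apply, s2, h2, map_add, map_smul, s1, s2]) v hv h4 (by
        simp only [OG.mul_apply, s4, map_add, map_smul, h3, h4, s1, s2, s3]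
        linear_combination (norm := module) add_self' F m)
    linear_combination this
  intro x hx
  obtain ⟨k, a, ac, h5, h6, h7⟩ := h.ao x (n.le hx)
  obtain ⟨α', β', h8⟩ := co h7
  have := st _ hx _ hx₁ k k₁ a a₁ α' β' r 1 ac a1 h5 h6 h1 h2 m h.mp h8 h3
  rw [a0, mul_zero, one_mul] at this
  have hk : k ∈ EG Q := (par h.toDm h.ti h5 h6).2 (by
    rw [show Rk u e k = ⊥ from eq_bot_iff.2 fun r hr => by
      obtain ⟨w, hw, rfl⟩ := mem_Rk.1 hr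
      exact (Submodule.Quotient.mk_eq_zero _).2 (tr x hx k ac h5 w hw), finrank_bot]
    exact Even.zero)
  exact h.lin (g := ⟨k, hk⟩) (n.le hx) ac fun _ => mem_map_of_mem ι ((mem_Qq' h.nd h.ti).2
    ⟨mem_Fx2.2 ⟨h5, by rw [this, zero_smul, add_zero] at h6; exact h6⟩, tr x hx k ac h5⟩)

theorem nN (g1 : γ ∈ 𝐍[P]) (g2 : γ ∈ 𝐍[𝐃]) (g3 : γ ∈ 𝐍[𝐙]) : γ ∈ 𝐍[𝐐 ⊔ 𝐃] :=
  mem_normalizer_of_cj_le (by
    rw [cj_sup, cj_of_mem_normalizer g2]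
    exact sup_le (h.leN (h.nq.cj g1 g3)) le_sup_right)

end Lg

end Cfsg.Agent.StdO
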