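import Cfsg.Agent.StdO.RtG
import Cfsg.Agent.StdO.Rig
import Cfsg.Agent.WfS.Def
import Cfsg.Agent.StdO.LocD

/-! The local facts of the wreath theorem for `Ω`. -/

set_option autoImplicit false
set_option linter.unusedSectionVars false
set_option linter.unusedVariables false

namespace Cfsg.Agent.StdO

open Subgroup Module QuadraticMap Cfsg.Agent.Class.Orth Cfsg.Agent.KSG Cfsg.Agent.PLocal.Amb
  Cfsg.Agent.Lyons
open Cfsg.Agent.StdL (cjh)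
open scoped commutatorElement

variable {F V : Type*} [Field F] [Finite F] [CharP F 2] [AddCommGroup V] [Module F V]
  [FiniteDimensional F V] {Q : QuadraticForm F V} {G : Type*} [Group G] [Finite G]
  {ι : EG Q →* G} {t : G}

local notation "𝐟" => polar Q

section
open Cfsg.Agent.WfS (Zt)

variable {P N Z : Subgroup G} {u e m v v' w w' y : V} {a : F} {x d d' γ : G} {k : OG Q} {n : ℕ}

local notation "ℓ" => Submodule.span F (insert u (Singleton.singleton e) : Set V)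
local notation "𝐋" => MonoidHom.range ι
local notation "𝐙" => Zt (P ⊓ MonoidHom.range ι)
local notation "𝐃" => P ⊓ 𝐂[MonoidHom.range ι]
local notation "𝐐" => Subgroup.map ι (Qq Q u e)

/-- a bound for the index of the centralizer of `x` in `N / Z` -/
def Idx (N Z : Subgroup G) (I : Type*) (x : G) (n : ℕ) : Prop :=
  ∀ y : I → G, (∀ i, y i ∈ N) → (∀ i j, ⁅x, y i * y j⁆ ∈ Z → i = j) → Nat.card I ≤ n

theorem Idx.cj {I : Type*} (h : Idx N Z I x n) (h1 : γ ∈ 𝐍[N]) (h2 : γ ∈ 𝐍[Z]) :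
    Idx N Z I (γ * x * γ⁻¹) n := fun y hy hc =>
  h (fun i => γ⁻¹ * y i * γ) (fun i => inv_conj_mem_of_mem_normalizer h1 (hy i)) fun i j c => hc i j (by
    rw [cj_cm, show γ⁻¹ * (y i * y j) * γ = γ⁻¹ * y i * γ * (γ⁻¹ * y j * γ) by group]
    exact conj_mem_of_mem_normalizer h2 c)

theorem mkQ_eq {U : Submodule F V} : U.mkQ v = U.mkQ w ↔ v + w ∈ U := by
  rw [Submodule.mkQ_apply, Submodule.mkQ_apply, Submodule.Quotient.eq, sub_eq' F]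

namespace Lg

variable (h : Lg ι P u e m)
include h

theorem cmN (hx : x ∈ P) (ac : Ac ι x (SS.oO Q k)) (h1 : k.1 u = u) (h2 : k.1 e = e + a • u)
    (hw : w ∈ perp Q ℓ) (hw' : w' ∈ perp Q ℓ) (hd : d ∈ 𝐃) :
    ⁅x, ι (sg Q u w * sg Q e w') * d⁆ ∈ 𝐙 ↔ k.1 w' + w' ∈ ℓ ∧ k.1 w + w + a • w' ∈ ℓ := by
  have c : Commute x⁻¹ d := h.hD hd _ (inv_mem hx)
  rw [← cmO h.nd h.ti h1 h2 hw hw', ← h.cmZ ac]
  generalize ι (sg Q u w * sg Q e w') = y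
  rw [show ⁅x, y * d⁆ = x * y * (d * x⁻¹ * d⁻¹) * y⁻¹ by simp only [commutatorElement_def]; group,
    ← c.eq, mul_inv_cancel_right, commutatorElement_def]

theorem cmNN (hx : x ∈ P) (ac : Ac ι x (SS.oO Q k)) (h1 : k.1 u = u) (h2 : k.1 e = e + a • u)
    (hv : v ∈ perp Q ℓ) (hv' : v' ∈ perp Q ℓ) (hw : w ∈ perp Q ℓ) (hw' : w' ∈ perp Q ℓ) (hd : d ∈ 𝐃)
    (hd' : d' ∈ 𝐃) : ⁅x, ι (sg Q u v * sg Q e v') * d * (ι (sg Q u w * sg Q e w') * d')⁆ ∈ 𝐙 ↔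
      k.1 v' + v' + (k.1 w' + w') ∈ ℓ ∧ k.1 v + v + (k.1 w + w) + a • (v' + w') ∈ ℓ := by
  rw [mul_assoc, ← mul_assoc d, ← hd.2 _ ⟨_, rfl⟩, mul_assoc _ d, ← mul_assoc, ← map_mul,
    RtA.mulQ h.ts hv hv' hw hw', RtA.mulZ h.ts (add_mem hv hw) (add_mem hv' hw'),
    h.cmN hx ac h1 h2 (add_mem (add_mem hv hw) (RtA.ae_perp h.ts _)) (add_mem hv' hw') (mul_mem hd hd'),
    map_add, add_add_add_comm, map_add k.1 (v + w), add_add_add_comm (k.1 (v + w)), add_right_comm _ _ (a • _),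
    Submodule.add_mem_iff_left _ (map_ell (w := 𝐟 w v' • e) h1 h2
      (by simpa using RtA.comb_mem u e (0 : F) (𝐟 w v'))), map_add, add_add_add_comm (k.1 v)]

theorem lin' (hx : x ∈ P) (ac : Ac ι x (SS.oO Q k)) (hk : k ∈ EG Q) : x ∈ (P ⊓ 𝐋) ⊔ 𝐃 :=
  h.lin (g := ⟨k, hk⟩) hx ac fun c => mem_inf.2 ⟨c, _, rfl⟩

theorem up (hx : x ∈ P) (ac : Ac ι x (SS.oO Q k)) (h1 : k.1 u = u) (h2 : k.1 e = e + (0 : F) • u)
    (I : Type*) : Idx (𝐐 ⊔ 𝐃) 𝐙 I x (Nat.card F ^ (2 * finrank F (Rk u e k))) := fun y hy hc => by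
  have : Finite V := Module.finite_of_finite F
  have : Finite (V ⧸ ℓ) := Module.finite_of_finite F
  choose w hw w' hw' d hd e1 using fun i => h.memN.1 (hy i)
  have := Nat.card_le_card_of_injective (fun i => ((⟨_, mem_Rk.2 ⟨w i, hw i, rfl⟩⟩,
    ⟨_, mem_Rk.2 ⟨w' i, hw' i, rfl⟩⟩) : Rk u e k × Rk u e k)) fun i j c => hc i j (by
      rw [e1, e1, h.cmNN hx ac h1 h2 (hw i) (hw' i) (hw j) (hw' j) (hd i) (hd j), zero_smul, add_zero]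
      exact ⟨mkQ_eq.1 (congrArg (·.2.1) c), mkQ_eq.1 (congrArg (·.1.1) c)⟩)
  rwa [Nat.card_prod, Module.natCard_eq_pow_finrank (K := F) (V := Rk u e k), ← pow_add, ← two_mul] at this

theorem lo (hx : x ∈ P) (ac : Ac ι x (SS.oO Q k)) (h1 : k.1 u = u) (h2 : k.1 e = e + (0 : F) • u)
    (i : Idx (𝐐 ⊔ 𝐃) 𝐙 (Rk u e k × Rk u e k) x n) : Nat.card F ^ (2 * finrank F (Rk u e k)) ≤ n := by
  choose w hw e1 using fun r : Rk u e k => mem_Rk.1 r.2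
  have := i (fun r => ι (sg Q u (w r.1) * sg Q e (w r.2)) * 1)
    (fun r => h.memN.2 ⟨_, hw _, _, hw _, 1, one_mem _, rfl⟩) fun r s c => by
      rw [h.cmNN hx ac h1 h2 (hw _) (hw _) (hw _) (hw _) (one_mem _) (one_mem _), zero_smul, add_zero,
        ← mkQ_eq, ← mkQ_eq, e1, e1, e1, e1] at c
      exact Prod.ext (Subtype.ext c.2) (Subtype.ext c.1)
  rwa [Nat.card_prod, Module.natCard_eq_pow_finrank (K := F), ← pow_add, ← two_mul] at this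

theorem lo' (hx : x ∈ P) (ac : Ac ι x (SS.oO Q k)) (h1 : k.1 u = u) (h2 : k.1 e = e + a • u) (ha : a ≠ 0)
    (i : Idx (𝐐 ⊔ 𝐃) 𝐙 ((perp Q ℓ).map (ℓ).mkQ) x n) :
    Nat.card F ^ finrank F ((perp Q ℓ).map (ℓ).mkQ) ≤ n := by
  choose w hw e1 using fun r : (perp Q ℓ).map (ℓ).mkQ => r.2
  have := i (fun r => ι (sg Q u 0 * sg Q e (w r)) * 1)
    (fun r => h.memN.2 ⟨_, zero_mem _, _, hw _, 1, one_mem _, rfl⟩) fun r s c => by
      rw [h.cmNN hx ac h1 h2 (zero_mem _) (hw _) (zero_mem _) (hw _) (one_mem _) (one_mem _), map_zero,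
        add_zero, add_zero, zero_add, Submodule.smul_mem_iff _ ha, ← mkQ_eq (v := w r), e1, e1] at c
      exact Subtype.ext c.2
  rwa [Module.natCard_eq_pow_finrank (K := F)] at this

variable (g1 : γ ∈ 𝐍[P]) (g2 : γ ∈ 𝐍[P ⊓ 𝐂[ι.range]]) (g3 : γ ∈ 𝐍[Zt (P ⊓ ι.range)])
include g1 g2 g3

theorem g_u (hw : 𝐟 u w = 0) : γ * ι (sg Q u w) * γ⁻¹ ∈ (P ⊓ 𝐋) ⊔ 𝐃 := by
  have hx := conj_mem_of_mem_normalizer g1 (h.mV w hw)
  obtain ⟨k, a, ac, h1, h2, h3⟩ := h.ao _ hx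
  refine h.lin' hx ac (triv3 h.toDm h.t3 h1 h2 h3 fun v hv p => ?_)
  have c : ⁅γ * ι (sg Q u w) * γ⁻¹, ι (sg Q m v)⁆ ∈ 𝐐 ⊔ 𝐃 := by
    rw [cj_cm]
    refine conj_mem_of_mem_normalizer (h.nN g1 g2 g3) (mem_sup_left ?_)
    obtain ⟨k', a', ac', k1, k2, -⟩ := h.ao _ (inv_conj_mem_of_mem_normalizer g1 (h.mM v hv p))
    obtain ⟨k3, k4⟩ := h.cmV' ac' k1 hw
    rw [← commutatorElement_inv, k4]
    refine inv_mem (mem_map_of_mem ι (RgA.sgp_Qq h.nd h.ti (RtA.u_mem u e) (mem_perp2''.2 ⟨k3, ?_⟩)))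
    have e1 := OG.map_polar k' e w
    have e2 := OG.map_polar k' u w
    rw [k1, hw] at e2
    rw [k2, polar_add_left, polar_smul_left', e2, mul_zero, add_zero] at e1
    rw [polar_add_right, e1, CharTwo.add_self_eq_zero]
  obtain ⟨n, hn, p1⟩ := exists_perp h.nd h.mn 1
  rw [polar_comm] at p1
  have o : Ok Q m v := ⟨h.qm, p⟩
  have p2 : 𝐟 n (k.1 m) = 1 := by
    have := RgA.pl h3 hn
    rwa [polar_add_right, p1, CharTwo.add_eq_zero] at this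
  have e1 : (sg Q m v).1.1 n = n + (𝐟 n v + Q v) • m + v := by rw [sg_apply o, p1, mul_one, one_smul]
  have := h.acN c (ac.cmO (ac_self ι (sg Q m v))) (v := (sg Q m v).1.1 n)
    (e1 ▸ add_mem (add_mem hn (Submodule.smul_mem _ _ h.mp)) hv)
  rw [commutatorElement_def, coe_sg, conj_eichler, OG.mul_apply, (OG.inv_apply_eq_iff _).2 rfl, ← coe_sg,
    ← coe_sg, sg_apply ⟨by rw [OG.map_Q, h.qm], by rw [OG.map_polar, p]⟩, e1, p2] at this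
  refine ⟨𝐟 n (k.1 v) + Q (k.1 v) * 1 + (𝐟 n v + Q v), ?_⟩
  convert add_mem this (Submodule.smul_mem _ (𝐟 n (k.1 v) + Q (k.1 v) * 1) h3) using 1
  linear_combination (norm := module) -add_self' F n -
    add_self' F ((𝐟 n (k.1 v) + Q (k.1 v) * 1) • k.1 m)

theorem g_w (hv : v ∈ perp Q ℓ) (hw : w ∈ perp Q ℓ) (o : Ok Q v w)
    (i : ∀ a b : F, a • v + b • w ∈ ℓ → a = 0 ∧ b = 0) (hP : ∀ c : F, ι (sg Q v (c • w)) ∈ P) :
    γ * ι (sg Q v w) * γ⁻¹ ∈ (P ⊓ 𝐋) ⊔ 𝐃 := by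
  have nN := h.nN g1 g2 g3
  have f1 : ∀ c : F, (sg Q v (c • w)).1.1 u = u := fun c =>
    sg_fix (mem_perp2''.1 hv).1 (mem_perp2''.1 (Submodule.smul_mem _ c hw)).1
  have f2 : ∀ c : F, (sg Q v (c • w)).1.1 e = e + (0 : F) • u := fun c => by
    rw [zero_smul, add_zero]
    exact sg_fix (mem_perp2''.1 hv).2 (mem_perp2''.1 (Submodule.smul_mem _ c hw)).2
  have hx := fun c => conj_mem_of_mem_normalizer g1 (hP c)
  choose k a ac h1 h2 h3 using fun c => h.ao _ (hx c)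
  rw [← one_smul F w]
  refine h.lin' (hx 1) (ac 1) ?_
  have q1 : 1 < Nat.card F := Finite.one_lt_card
  by_cases hq : Nat.card F = 2
  · have t := fun I : Type _ => (h.up (hP 1) (ac_self ι _) (f1 1) (f2 1) I).cj nN g3
    have r : finrank F (Rk u e (sg Q v ((1 : F) • w)).1) ≤ 2 := Rk_sg (o.smul 1)
    have a0 : a 1 = 0 := by
      by_contra c
      have e1 := (Nat.pow_le_pow_iff_right q1).1 (h.lo' (hx 1) (ac 1) (h1 1) (h2 1) c (t _))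
      have e2 := rank_quot h.nd h.ti
      have e3 := h.q2 hq
      omega
    have h4 := h2 1
    rw [a0] at h4
    have e1 := (Nat.pow_le_pow_iff_right q1).1 (h.lo (hx 1) (ac 1) (h1 1) h4
      ((h.up (hP 1) (ac_self ι _) (f1 1) (f2 1) _).cj nN g3))
    have e2 := (h.up (hx 1) (ac 1) (h1 1) h4 (Rk u e (sg Q v ((1 : F) • w)).1 ×
      Rk u e (sg Q v ((1 : F) • w)).1)).cj (inv_mem nN) (inv_mem g3)
    rw [show ∀ x : G, γ⁻¹ * (γ * x * γ⁻¹) * γ⁻¹⁻¹ = x from fun x => by group] at e2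
    have e3 := (Nat.pow_le_pow_iff_right q1).1 (h.lo (hP 1) (ac_self ι _) (f1 1) (f2 1) e2)
    rw [par h.toDm h.ti (h1 1) h4, le_antisymm (Nat.le_of_mul_le_mul_left e1 two_pos)
      (Nat.le_of_mul_le_mul_left e3 two_pos)]
    exact (par h.toDm h.ti (f1 1) (f2 1)).1 (sg Q v ((1 : F) • w)).2
  have fx : ∀ c : F, c ≠ 0 → ∀ y, (sg Q v (c • w)).1.1 y + y ∈ ℓ ↔ 𝐟 y v = 0 ∧ 𝐟 y w = 0 := fun c c0 y => by
    refine ⟨fun e1 => ?_, fun ⟨e1, e2⟩ => ?_⟩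
    · rw [sg_apply (o.smul c), add_comm _ y, add_assoc y, ← add_assoc y, add_self' F, zero_add,
        smul_smul] at e1
      obtain ⟨e2, e3⟩ := i _ _ e1
      rw [mul_eq_zero_iff_right c0] at e3
      rw [e3, mul_zero, add_zero, polar_smul_right', mul_eq_zero_iff_left c0] at e2
      exact ⟨e3, e2⟩
    · rw [sg_fix e1 (by rw [polar_smul_right', e2, mul_zero]), add_self' F]; exact zero_mem _
  have kz : ∀ c : F, ∀ y ∈ perp Q ℓ, (k c).1 y + y ∈ ℓ ↔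
      ⁅ι (sg Q v (c • w)), γ⁻¹ * ι (sg Q u y) * γ⁆ ∈ 𝐙 := fun c y hy => by
    obtain ⟨e1, e2⟩ := h.cmV' (ac c) (h1 c) (mem_perp2''.1 hy).1
    rw [← h.sgZ e1, ← e2, cj_cm, ← mem_normalizer_iff.1 g3]
  have ev : ∀ c : F, c ≠ 0 → (k c ∈ EG Q ↔ k 1 ∈ EG Q) := fun c c0 => by
    rw [par h.toDm h.ti (h1 c) (h2 c), par h.toDm h.ti (h1 1) (h2 1), Rk_congr fun y hy => ?_]
    obtain ⟨y₁, k1, y₂, k2, d, hd, e1⟩ := h.memN.1 (inv_conj_mem_of_mem_normalizer nN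
      (mem_sup_left (mem_map_of_mem ι (RgA.sgp_Qq h.nd h.ti (RtA.u_mem u e) hy))))
    rw [kz c y hy, kz 1 y hy, e1, h.cmN (hP c) (ac_self ι _) (f1 c) (f2 c) k1 k2 hd,
      h.cmN (hP 1) (ac_self ι _) (f1 1) (f2 1) k1 k2 hd, zero_smul, add_zero, add_zero, fx c c0, fx c c0,
      fx 1 one_ne_zero, fx 1 one_ne_zero]
  obtain ⟨c, c0, c1⟩ : ∃ s : F, s ≠ 0 ∧ s ≠ 1 := by
    by_contra! k
    exact hq (Nat.card_eq_two_iff.2 ⟨0, 1, zero_ne_one, Set.eq_univ_of_forall fun s =>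
      (em (s = 0)).imp_right (k s)⟩)
  by_contra n
  have e1 := (ac 1).mulO (ac c)
  rw [show ∀ x y : G, γ * x * γ⁻¹ * (γ * y * γ⁻¹) = γ * (x * y) * γ⁻¹ from fun x y => by group, ← map_mul,
    ← sg_add (o.smul 1) (o.smul c), ← add_smul] at e1
  exact n ((ev (1 + c) fun k => c1 (by linear_combination k - two_zero F)).1
    (h.toRp.uq e1 (ac _) ▸ h.toDm.mul_mem n fun k => n ((ev c c0).1 k)))

theorem gr : cj(γ, P ⊓ 𝐋) ≤ (P ⊓ 𝐋) ⊔ 𝐃 := by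
  have k : ∀ g, g ∈ (cj(γ⁻¹, (P ⊓ 𝐋) ⊔ 𝐃)).comap ι ↔ γ * ι g * γ⁻¹ ∈ (P ⊓ 𝐋) ⊔ 𝐃 := fun g => by
    rw [mem_comap, mem_cj, inv_inv]
  refine cj_le_iff_forall.2 fun x ⟨hx, g, e1⟩ => e1 ▸ (k g).1 (h.gen _ (fun w hw => (k _).2 ?_)
    (fun w hw => (k _).2 ?_) (fun v hv w hw o i hP => (k _).2 ?_) g (e1 ▸ hx))
  · exact h.g_u g1 g2 g3 hw
  · exact sup_le_sup_right (le_inf h.QP (map_le_range _ _)) _ (conj_mem_of_mem_normalizer (h.nN g1 g2 g3)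
      (mem_sup_left (mem_map_of_mem ι (RgA.sgp_Qq h.nd h.ti
        (by simpa using RtA.comb_mem u e (0 : F) 1) hw))))
  · exact h.g_w g1 g2 g3 hv hw o i hP

end Lg

theorem Lc.loc (h : Lc ι P u e) : WfS.Loc 𝐋 P :=
  ⟨fun x hx hc => (h.toRp.ru2 h.ti (h.nr hx) fun y h1 h2 =>
      ⟨(hc _ (h.TV h1)).symm, (hc _ (h.TE (mem_perp2''.2 ⟨h1, h2⟩))).symm⟩).elim
      fun a ha => ⟨_, h.memZ.2 ⟨a, rfl⟩, ha⟩,
    h.c2, fun K hK hn => h.zf hK hn, h.h4,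
    fun h1 h2 g g1 g2 g3 => (h.exists_lg h1 h2).elim fun m l => l.gr g1 g2 g3,
    fun a ha b hb => h.zc ha hb,
    .inr ⟨_, h.c2, le_rfl, le_normalizer_commutator h.nT h.nT, h.mu⟩⟩

end

/-- By `Rp.a3` (same range) all elements of `P` act semilinearly; `T = P ⊓ L = ι U`; `P` fixes a
singular `u` and `e` modulo `u` with `TI ![u, e]` (`exists_fixed_singular`), so
`U ≥ V_u Qq`, `Z(U) = Z = {sg u (a e)}`.  `c1`: `ru2`.  `c2`: `z_mem`.  `zf`: `N = F ⊓ T`; if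
`N ≰ Z`, commutators with `Qq` give `Z ≤ N`; otherwise `[F, T] ≤ Z`, so `F ≤ ι(Qq) C(L)`.
`h4`: `A = ι V_u`.  `zc`: `conj_root`.  `mu`: `K = T'`.  `gr`: see the notes of helper27. -/
theorem Rp.loc (h : Rp ι) (P : Subgroup G) (hP : IsPGroup 2 P) (hN : P ≤ 𝐍[ι.range])
    (hS : IsSyl 2 (P ⊓ ι.range) ι.range) : WfS.Loc ι.range P := by
  obtain ⟨α, hα⟩ := h.a3 hP hN
  rw [← range_comp_aut ι α] at hN hS ⊢
  obtain ⟨u, e, l⟩ := (h.comp α).exists_lc hP hN hS hα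
  exact l.loc

end Cfsg.Agent.StdO
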