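import Cfsg.Agent.StdO.RtG

/-! Sylow subgroups of `Ω`: the flag and generation by Siegel elements. -/

set_option autoImplicit false
set_option linter.unusedSectionVars false
set_option linter.unusedVariables false

namespace Cfsg.Agent.StdO

open Subgroup Module QuadraticMap Cfsg.Agent.Class.Orth Cfsg.Agent.KSG Cfsg.Agent.PLocal.Amb
  Cfsg.Agent.Lyons
open scoped commutatorElement

variable {F V : Type*} [Field F] [Finite F] [CharP F 2] [AddCommGroup V] [Module F V]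
  [FiniteDimensional F V] {Q : QuadraticForm F V}

local notation "𝐟" => polar Q

variable {u e m : V} {S : Subgroup (OG Q)} {X : Submodule F V}

local notation "ℓ" => Submodule.span F (insert u (Singleton.singleton e) : Set V)

/-- `S` is a `2`-group fixing `X` pointwise, and `S ⊓ Ω` is maximal -/
structure Mx (X : Submodule F V) (S : Subgroup (OG Q)) : Prop where
  nd : NDon Q (perp Q X)
  fx : S ≤ fixer Q X
  pg : IsPGroup 2 S
  mx : ∀ R : Subgroup (OG Q), R ≤ fixer Q X → IsPGroup 2 R → S ≤ R → ∀ g : EG Q, g.1 ∈ R → g.1 ∈ S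

/-- `exists_fixed_singular h.nd.nd_comp` (`fixer_map_perp`), `NDon.exists_isHyp` -/
theorem Mx.ex (h : Mx X S) (h3 : 3 ≤ finrank F (perp Q X)) :
    ∃ m ∈ perp Q X, ∃ f ∈ perp Q X, IsHyp Q m f ∧ ∀ k ∈ S, k.1 m = m := by
  have : Fact (Nat.Prime 2) := ⟨Nat.prime_two⟩
  obtain ⟨m, m0, mq, hm⟩ := exists_fixed_singular (p := 2) h.nd.nd_comp h3 h.pg
    (fun g v => ⟨g.1.1 v, fixer_map_perp (h.fx g.2) v.2⟩) (fun _ => rfl) (fun _ _ _ => rfl)
    (fun g v => OG.map_Q _ _) (fun g => Subtype.ext (map_zero _))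
  obtain ⟨f, hf, o⟩ := h.nd.exists_isHyp m.2 (fun c => m0 (Subtype.ext c)) mq
  exact ⟨m, m.2, f, hf, o, fun k hk => congrArg Subtype.val (hm ⟨k, hk⟩)⟩

/-- as `rtg_mv` (`w = k f - f`, `eichler_map`) -/
theorem mvO {x f : V} (o : IsHyp Q x f) {k : OG Q} (hk : k.1 x = x) :
    ∃ w, (∀ z, k.1 z = z → 𝐟 z w = 0) ∧ (eichler Q x w * k).1 f = f := by
  have e1 : ∀ z, k.1 z = z → 𝐟 z (k.1 f) = 𝐟 z f := fun z hz => by
    conv_lhs => rw [← hz]
    rw [OG.map_polar]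
  have e2 : 𝐟 (k.1 f) x = 1 := by rw [polar_comm, e1 x hk, o.pol]
  refine ⟨k.1 f - f, fun z hz => by rw [polar_sub_right, e1 z hz, sub_self], ?_⟩
  have := eichler_map (x := k.1 f) (y := f) o.left (by rw [e2, o.pol'])
    (by rw [e2]; exact one_ne_zero) (OG.map_Q _ _)
  rwa [e2, inv_one, one_smul] at this

theorem la_sq (x w : V) : eichler Q x w * eichler Q x w = 1 := congrArg Subtype.val (sg_sq x w)

theorem la_app {x w y z : V} {k : OG Q} (h : (eichler Q x w * k).1 y = z) :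
    k.1 y = (eichler Q x w).1 z := by
  rw [← h, ← OG.mul_apply, ← mul_assoc, la_sq, one_mul]

/-- the Siegel elements with centre `m` fixing `X` -/
def laO (X : Submodule F V) (hm : Q m = 0) : Subgroup (OG Q) where
  carrier := {k | ∃ w ∈ perp Q X, 𝐟 m w = 0 ∧ k = eichler Q m w}
  one_mem' := ⟨0, zero_mem _, polar_zero_right Q m, (eichler_zero m).symm⟩
  mul_mem' := by
    rintro _ _ ⟨v, h1, h2, rfl⟩ ⟨w, h3, h4, rfl⟩
    exact ⟨v + w, add_mem h1 h3, by rw [polar_add_right, h2, h4, add_zero],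
      (eichler_add hm h2 h4).symm⟩
  inv_mem' := by
    rintro _ ⟨v, h1, h2, rfl⟩
    exact ⟨v, h1, h2, inv_eq_of_mul_eq_one_right (la_sq m v)⟩

theorem laO_sup (hm : Q m = 0) {R : Subgroup (OG Q)} (h1 : R ≤ fixer Q X) (h2 : ∀ k ∈ R, k.1 m = m)
    (pR : IsPGroup 2 R) : IsPGroup 2 (R ⊔ laO X hm : Subgroup (OG Q)) := by
  refine isPGroup_sup pR (isPGroup_iff.2 ?_) (le_normalizer_iff_cj.2 fun k hk =>
    cj_le_iff_forall.2 ?_)
  · rintro _ ⟨w, -, -, rfl⟩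
    exact ⟨1, by rw [pow_one, pow_two, la_sq]⟩
  · rintro _ ⟨w, h3, h4, rfl⟩
    exact ⟨k.1 w, fixer_map_perp (h1 hk) h3, by rw [← h2 k hk, OG.map_polar, h4],
      by rw [conj_eichler, h2 k hk]⟩

/-- `perp X' = perp X ⊓ perp2 m f` (`NDon.inf_perp2`, `IsHyp.finrank_inf_perp2`).
`O = (VU Q m (perp (X ⊔ ⟨m⟩))).map subtype` is a `2`-group (`mem_VU`, `sg_sq`) inside `fixer X`, normalized by
every element fixing `X` and `m` (`conj_eichler`).  `S ⊔ O` is a `2`-group, so `O ≤ S` by `mx`.  `mvO` gives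
the last claim (`mem_fixer_sup_span`).  `mx` for `X'`: if `S ⊓ fixer X' ≤ R ≤ fixer X'` then `R ⊔ O` is a
`2`-group in `fixer X` containing `S`. -/
theorem Mx.step (h : Mx X S) {f : V} (hm : m ∈ perp Q X) (hf : f ∈ perp Q X) (o : IsHyp Q m f)
    (hS : ∀ k ∈ S, k.1 m = m) :
    Mx (X ⊔ Submodule.span F {m, f}) (S ⊓ fixer Q (X ⊔ Submodule.span F {m, f})) ∧
      perp Q (X ⊔ Submodule.span F {m, f}) = perp Q X ⊓ perp2 Q m f ∧
      (∀ w ∈ perp Q X, 𝐟 m w = 0 → eichler Q m w ∈ S) ∧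
      ∀ k ∈ S, ∃ w ∈ perp Q X, 𝐟 m w = 0 ∧
        eichler Q m w * k ∈ S ⊓ fixer Q (X ⊔ Submodule.span F {m, f}) := by
  have e1 : perp Q (X ⊔ Submodule.span F {m, f}) = perp Q X ⊓ perp2 Q m f := by
    ext x
    refine ⟨fun hx => ⟨perp_anti le_sup_left hx,
      mem_perp2.2 (mem_perp2''.1 (perp_anti le_sup_right hx))⟩, fun hx y hy => ?_⟩
    obtain ⟨a, ha, b, hb, rfl⟩ := Submodule.mem_sup.1 hy
    rw [polar_add_left, hx.1 a ha, mem_perp2''.2 (mem_perp2.1 hx.2) b hb, add_zero]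
  have OX : laO X o.left ≤ fixer Q X := by
    rintro _ ⟨w, hw, -, rfl⟩
    exact eichler_mem_fixer hm hw
  have a1 : ∀ w ∈ perp Q X, 𝐟 m w = 0 → eichler Q m w ∈ S := fun w hw h0 =>
    h.mx _ (sup_le h.fx OX) (laO_sup o.left h.fx hS h.pg) le_sup_left (sg Q m w)
      (mem_sup_right ⟨w, hw, h0, rfl⟩)
  have a2 : ∀ k ∈ S, ∃ w ∈ perp Q X, 𝐟 m w = 0 ∧
      eichler Q m w * k ∈ S ⊓ fixer Q (X ⊔ Submodule.span F {m, f}) := fun k hk => by
    obtain ⟨w, h1, h2⟩ := mvO o (hS k hk)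
    have h3 : w ∈ perp Q X := fun z hz => h1 z (h.fx hk z hz)
    have h4 := S.mul_mem (a1 w h3 (h1 m (hS k hk))) hk
    refine ⟨w, h3, h1 m (hS k hk), h4, mem_fixer_sup_span (h.fx h4) ?_⟩
    rintro _ (rfl | rfl)
    exacts [hS _ h4, h2]
  refine ⟨⟨e1 ▸ h.nd.inf_perp2 hm hf o, inf_le_right, h.pg.to_le inf_le_left,
    fun R h1 pR h2 g hg => ⟨?_, h1 hg⟩⟩, e1, a1, a2⟩
  have h3 : R ≤ fixer Q X := fun k hk z hz => h1 hk z (Submodule.mem_sup_left hz)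
  refine h.mx _ (sup_le h3 OX) (laO_sup o.left h3 (fun k hk => h1 hk m
    (Submodule.mem_sup_right (Submodule.subset_span (by simp)))) pR) (fun k hk => ?_) g
    (mem_sup_left hg)
  obtain ⟨w, w1, w2, w3⟩ := a2 k hk
  have := mul_mem (mem_sup_right ⟨w, w1, w2, rfl⟩ : eichler Q m w ∈ R ⊔ laO X o.left)
    (mem_sup_left (h2 w3))
  rwa [← mul_assoc, la_sq, one_mul] at this

/-- Strong induction on `finrank (perp X)`.  If it is `≥ 3`: `ex`, `step`.  Otherwise let `g.1 ∈ S`;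
`mov g ≤ perp X` has even dimension (`Dm.mem_EG`); if it is `0` then `g = 1` (`eq_one_of_mov_eq_bot`); if it is
`2` then `mov g = perp X`, the `2`-group `S` fixes a vector `0 ≠ z ∈ perp X` (as in `RtA.core1`), and
`z ⊥ mov g` contradicts `nd`. -/
theorem Mx.gen0 (hd : Dm Q) (h : Mx X S) {H : Subgroup (EG Q)}
    (hH : ∀ x ∈ perp Q X, ∀ y ∈ perp Q X, Ok Q x y → (∀ c : F, eichler Q x (c • y) ∈ S) → sg Q x y ∈ H)
    {g : EG Q} (hg : g.1 ∈ S) : g ∈ H := by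
  induction' hn : finrank F (perp Q X) using Nat.strong_induction_on with n ih generalizing X S g
  by_cases h3 : 3 ≤ finrank F (perp Q X)
  · obtain ⟨m, hm, f, hf, o, hS⟩ := h.ex h3
    obtain ⟨h', e1, a1, a2⟩ := h.step hm hf o hS
    obtain ⟨w, w1, w2, w3⟩ := a2 _ hg
    have d := o.finrank_inf_perp2 hm hf
    refine (H.mul_mem_cancel_left (hH m hm w w1 ⟨o.left, w2⟩ fun c => a1 _
      (Submodule.smul_mem _ c w1) (by rw [polar_smul_right', w2, mul_zero]))).1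
      (ih _ ?_ h' (fun x hx y hy p c => hH x (perp_anti le_sup_left hx) y (perp_anti le_sup_left hy)
        p fun a => (c a).1) (g := sg Q m w * g) w3 rfl)
    rw [e1]; omega
  have le : mov g.1 ≤ perp Q X := fun v hv z hz => polar_fix_of_mem_mov g.1 (h.fx hg z hz) hv
  have d := Submodule.finrank_mono le
  obtain ⟨r, hr⟩ := hd.mem_EG.1 g.2
  by_cases r0 : r = 0
  · rw [show g = 1 from Subtype.ext (eq_one_of_mov_eq_bot
      (Submodule.finrank_eq_zero.1 (by omega)))]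
    exact H.one_mem
  have e1 : mov g.1 = perp Q X := Submodule.eq_of_le_of_finrank_le le (by omega)
  have : Finite V := Module.finite_of_finite F
  have : Fact (Nat.Prime 2) := ⟨Nat.prime_two⟩
  let _ : MulAction S (perp Q X) :=
    { smul := fun g x => ⟨g.1.1 x, fixer_map_perp (h.fx g.2) x.2⟩
      one_smul := fun x => rfl
      mul_smul := fun g h x => rfl }
  haveI : Nontrivial (perp Q X) := Module.nontrivial_of_finrank_pos (R := F) (by omega)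
  obtain ⟨y, y0⟩ := exists_ne (0 : perp Q X)
  have h2 : 2 ∣ Nat.card (perp Q X) := by
    rw [← addOrderOf_eq_prime (x := y) (p := 2) (by rw [two_nsmul]; exact add_self' F y) y0]
    exact addOrderOf_dvd_natCard _
  have h0 : (0 : perp Q X) ∈ MulAction.fixedPoints S (perp Q X) := fun g => Subtype.ext (map_zero _)
  obtain ⟨⟨x, hx⟩, x1, x0⟩ := h.pg.exists_fixed_point_of_prime_dvd_card_of_fixed_point _ h2 h0
  exact absurd (Subtype.ext (h.nd x hx fun y hy => polar_fix_of_mem_mov g.1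
    (congrArg Subtype.val (x1 ⟨_, hg⟩)) (e1 ▸ hy)).symm) x0

theorem la_bot (x : V) : x ∈ perp Q ⊥ := fun z hz => by
  rw [(Submodule.mem_bot F).1 hz, polar_zero_left]

theorem la_rank : finrank F (perp Q ⊥) = finrank F V := by
  rw [show perp Q ⊥ = ⊤ from eq_top_iff.2 fun x _ => la_bot x, finrank_top]

/-- `ex` gives `u, f₁`, `step`, `ex` gives `e ∈ ⟨u, f₁⟩^⊥`; `k = eichler u w * k'` with `k' e = e`. -/
theorem Mx.flag (hd : Dm Q) (h : Mx ⊥ S) :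
    ∃ u e, TI Q ![u, e] ∧ ∀ k ∈ S, k.1 u = u ∧ ∃ a : F, k.1 e = e + a • u := by
  have d8 := hd.d8
  have d0 := la_rank (Q := Q)
  obtain ⟨u, hu, f, hf, o, hS⟩ := h.ex (by omega)
  obtain ⟨h', e1, -, a2⟩ := h.step hu hf o hS
  have d := o.finrank_inf_perp2 hu hf
  obtain ⟨e, he, f', -, o', hS'⟩ := h'.ex (by rw [e1]; omega)
  rw [e1] at he
  obtain ⟨p1, p2⟩ := mem_perp2.1 he.2
  refine ⟨u, e, ti2_iff.2 ⟨⟨o.left, o'.left, p1⟩, o.left_ne_zero, fun a c => ?_⟩,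
    fun k hk => ⟨hS k hk, ?_⟩⟩
  · rw [c, polar_smul_right', o.pol', mul_one] at p2
    exact o'.left_ne_zero (by rw [c, p2, zero_smul])
  · obtain ⟨w, -, w2, w3⟩ := a2 k hk
    exact ⟨_, (la_app (hS' _ w3)).trans
      (eichler_apply_of_perp o.left w2 ((polar_comm Q _ _).trans p1))⟩

theorem la_sw {x p : V} (h : TS2 Q x p) (a : F) : sg Q x (a • p) = sg Q p (a • x) := by
  rw [← sg_smul (ok_of h), sg_swap (h.smul_left a)]

theorem la_dec (t : TS2 Q u e) {x w : V} (hx : x ∈ perp Q ℓ) (p : Ok Q x w) (a b : F) :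
    sg Q x (w + a • u + b • e) = sg Q x w * sg Q u (a • x) * sg Q e (b • x) := by
  have t1 : TS2 Q x u := ⟨p.l, t.l, RtA.pu hx⟩
  have t2 : TS2 Q x e := ⟨p.l, t.r, RtA.pe hx⟩
  rw [sg_add (p.add ((ok_of t1).smul a)) ((ok_of t2).smul b), sg_add p ((ok_of t1).smul a),
    la_sw t1, la_sw t2]

/-- Frame `f₁, f₂` (`RtA.exists_frame`); `step` with `(u, f₁)`; an element fixing `u, f₁` fixes `e`
(`𝐟 (k e) f₁ = 0`); `step` with `(e, f₂)`; `ex` gives `m ∈ W = ⟨u, f₁, e, f₂⟩^⊥`; `step` again.  A vector of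
`ℓ^⊥` is `w₀ + a u + b e` with `w₀ ∈ W` (`hproj`), and `sg x (w₀ + p) = sg x w₀ * sg p x` (`sg_add`, `sg_swap`,
`sg_smul`, `sg_self`).  Generation: `gen0`; `W ⊓ ℓ = 0`, and if `x, y ∈ W` are dependent then `sg x y = 1`. -/
theorem Mx.main (hd : Dm Q) (h : Mx ⊥ S) (hu : TI Q ![u, e])
    (hS : ∀ k ∈ S, k.1 u = u ∧ ∃ a : F, k.1 e = e + a • u) :
    (∀ w, 𝐟 u w = 0 → eichler Q u w ∈ S) ∧ (∀ w ∈ perp Q ℓ, eichler Q e w ∈ S) ∧
      (∃ m, TI Q ![u, e, m] ∧ (∀ k ∈ S, k.1 m + m ∈ ℓ) ∧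
        ∀ w ∈ perp Q ℓ, 𝐟 m w = 0 → eichler Q m w ∈ S) ∧
      ∀ H : Subgroup (EG Q), (∀ w, 𝐟 u w = 0 → sg Q u w ∈ H) → (∀ w ∈ perp Q ℓ, sg Q e w ∈ H) →
        (∀ x ∈ perp Q ℓ, ∀ y ∈ perp Q ℓ, Ok Q x y → (∀ a b : F, a • x + b • y ∈ ℓ → a = 0 ∧ b = 0) →
          (∀ c : F, eichler Q x (c • y) ∈ S) → sg Q x y ∈ H) → ∀ g : EG Q, g.1 ∈ S → g ∈ H := by
  have d8 := hd.d8
  have d0 := la_rank (Q := Q)
  have t := (ti2_iff.1 hu).1
  obtain ⟨f₁, f₂, o1, o2, p1, p2, p3⟩ := exists_frame hd.nd hu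
  obtain ⟨h1, e1, a1, b1⟩ := h.step (la_bot u) (la_bot f₁) o1 fun k hk => (hS k hk).1
  have d1 := o1.finrank_inf_perp2 (la_bot (Q := Q) u) (la_bot f₁)
  have p2' : 𝐟 f₁ e = 0 := (polar_comm Q _ _).trans p2
  have m1 : ∀ x, x ∈ perp Q (⊥ ⊔ Submodule.span F {u, f₁}) ↔ 𝐟 u x = 0 ∧ 𝐟 f₁ x = 0 := fun x => by
    rw [e1]; exact ⟨fun c => mem_perp2.1 c.2, fun c => ⟨la_bot x, mem_perp2.2 c⟩⟩
  have s1 : ∀ k ∈ S ⊓ fixer Q (⊥ ⊔ Submodule.span F {u, f₁}), k.1 e = e := fun k hk => by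
    obtain ⟨a, ha⟩ := (hS k hk.1).2
    have c := OG.map_polar k f₁ e
    rw [hk.2 f₁ (Submodule.mem_sup_right (Submodule.subset_span (by simp))), ha, polar_add_right,
      polar_smul_right', o1.pol', mul_one, add_eq_left] at c
    rw [ha, c, zero_smul, add_zero]
  have le1 : S ⊓ fixer Q (⊥ ⊔ Submodule.span F {u, f₁}) ≤ S := inf_le_left
  rw [← e1] at d1
  generalize S ⊓ fixer Q (⊥ ⊔ Submodule.span F {u, f₁}) = S₁ at *
  generalize ⊥ ⊔ Submodule.span F {u, f₁} = X₁ at *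
  have q1 := (m1 e).2 ⟨t.p, p2'⟩
  have q2 := (m1 f₂).2 ⟨p1, p3⟩
  obtain ⟨h2, e2, a2, b2⟩ := h1.step q1 q2 o2 s1
  have d2 := o2.finrank_inf_perp2 q1 q2
  have m2 : ∀ x, x ∈ perp Q (X₁ ⊔ Submodule.span F {e, f₂}) ↔
      (𝐟 u x = 0 ∧ 𝐟 f₁ x = 0) ∧ 𝐟 e x = 0 ∧ 𝐟 f₂ x = 0 := fun x => by
    rw [e2, Submodule.mem_inf, m1, mem_perp2]
  have le2 : S₁ ⊓ fixer Q (X₁ ⊔ Submodule.span F {e, f₂}) ≤ S₁ := inf_le_left
  rw [← e2] at d2
  generalize S₁ ⊓ fixer Q (X₁ ⊔ Submodule.span F {e, f₂}) = S₂ at *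
  generalize X₁ ⊔ Submodule.span F {e, f₂} = X₂ at *
  obtain ⟨m, hm, f₃, hf₃, o3, s2⟩ := h2.ex (by omega)
  obtain ⟨-, -, a3, -⟩ := h2.step hm hf₃ o3 s2
  have p1' : 𝐟 f₂ u = 0 := (polar_comm Q _ _).trans p1
  have Wl : ∀ x ∈ perp Q X₂, x ∈ perp Q ℓ := fun x hx =>
    mem_perp2''.2 ⟨((m2 x).1 hx).1.1, ((m2 x).1 hx).2.1⟩
  have W0 : ∀ x ∈ perp Q X₂, x ∈ ℓ → x = 0 := fun x hx hl => by
    obtain ⟨a, b, rfl⟩ := Submodule.mem_span_pair.1 hl
    obtain ⟨⟨-, c1⟩, -, c2⟩ := (m2 _).1 hx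
    simp only [polar_add_right, polar_smul_right', o1.pol', o2.pol', p1', p2', mul_one, mul_zero,
      add_zero, zero_add] at c1 c2
    rw [c1, c2, zero_smul, zero_smul, add_zero]
  have dec : ∀ w ∈ perp Q ℓ, ∃ w₀ ∈ perp Q X₂, ∃ a b : F, w = w₀ + a • u + b • e := fun w hw => by
    obtain ⟨c1, c2⟩ := mem_perp2''.1 hw
    refine ⟨w - 𝐟 f₁ w • u - 𝐟 f₂ w • e, (m2 _).2 ?_, 𝐟 f₁ w, 𝐟 f₂ w, by abel⟩
    simp only [polar_sub_right, polar_smul_right', o1.pol', o2.pol', p1', p2', c1, c2, o1.ee, o2.ee,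
      t.p, t.p', mul_one, mul_zero, sub_zero, sub_self, and_self]
  have c1 : ∀ w, 𝐟 u w = 0 → eichler Q u w ∈ S := fun w hw => a1 w (la_bot w) hw
  have su : ∀ x ∈ perp Q ℓ, ∀ a : F, 𝐟 u (a • x) = 0 := fun x hx a =>
    (mem_perp2''.1 (Submodule.smul_mem _ a hx)).1
  have c2 : ∀ w ∈ perp Q ℓ, eichler Q e w ∈ S := fun w hw => by
    obtain ⟨w₀, h0, a, b, rfl⟩ := dec w hw
    have := la_dec t (RtA.e_perp t) (RtA.oke t (Wl _ h0)) a b
    rw [sg_self t.r, mul_one] at this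
    rw [← coe_sg, this]
    exact S.mul_mem (le1 (a2 _ ((m1 _).2 ((m2 _).1 h0).1) ((m2 _).1 h0).2.1))
      (c1 _ (su _ (RtA.e_perp t) a))
  have ml := Wl m hm
  refine ⟨c1, c2, ⟨m, RtA.ti3 hu ml o3.left fun c => o3.left_ne_zero (W0 m hm c), fun k hk => ?_,
    fun w hw h0 => ?_⟩, fun H g1 g2 g3 g hg => ?_⟩
  · obtain ⟨w, -, w2, w3⟩ := b1 k hk
    obtain ⟨w', -, w5, w6⟩ := b2 _ w3
    rw [la_app (la_app (s2 _ w6)), eichler_apply_of_perp t.r w5 (RtA.pe ml), map_add,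
      map_smul, eichler_apply_of_perp t.l w2 (RtA.pu ml), eichler_apply_of_perp t.l w2 t.p',
      add_right_comm, add_right_comm m, add_self' F, zero_add]
    exact add_mem (Submodule.smul_mem _ _ (RtA.u_mem u e)) (Submodule.smul_mem _ _
      (by simpa [add_comm] using RtA.comb_mem u e (𝐟 e w) 1))
  · obtain ⟨w₀, h1, a, b, rfl⟩ := dec w hw
    rw [polar_add_right, polar_add_right, polar_smul_right', polar_smul_right', RtA.pu ml, RtA.pe ml,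
      mul_zero, mul_zero, add_zero, add_zero] at h0
    rw [← coe_sg, la_dec t ml ⟨o3.left, h0⟩]
    exact S.mul_mem (S.mul_mem (le1 (le2 (a3 _ h1 h0))) (c1 _ (su _ ml a)))
      (c2 _ (Submodule.smul_mem _ b ml))
  · obtain ⟨w, -, w2, w3⟩ := b1 _ hg
    obtain ⟨w', w4, w5, w6⟩ := b2 _ w3
    refine (H.mul_mem_cancel_left (g1 w w2)).1 ((H.mul_mem_cancel_left
      (g2 w' (mem_perp2''.2 ⟨((m1 _).1 w4).1, w5⟩))).1 (h2.gen0 hd (fun x hx y hy p c => ?_)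
        (g := sg Q e w' * (sg Q u w * g)) w6))
    by_cases i : ∀ a b : F, a • x + b • y ∈ ℓ → a = 0 ∧ b = 0
    · exact g3 x (Wl x hx) y (Wl y hy) p i fun a => le1 (le2 (c a))
    simp only [not_forall] at i
    obtain ⟨a, b, i1, i2⟩ := i
    have z := W0 _ (add_mem (Submodule.smul_mem _ a hx) (Submodule.smul_mem _ b hy)) i1
    by_cases b0 : b = 0
    · rw [b0, zero_smul, add_zero, smul_eq_zero] at z
      rw [z.resolve_left fun a0 => i2 ⟨a0, b0⟩, sg_zero_left]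
      exact H.one_mem
    · rw [show y = (b⁻¹ * -a) • x by
        rw [mul_smul, neg_smul, neg_eq_of_add_eq_zero_right z, inv_smul_smul₀ b0], sg_self p.l]
      exact H.one_mem

end Cfsg.Agent.StdO
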