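import Cfsg.Agent.StdO.LocA

/-! The action on `ℓ^⊥ / ℓ`. -/

set_option autoImplicit false
set_option linter.unusedSectionVars false
set_option linter.unusedVariables false

namespace Cfsg.Agent.StdO

open Subgroup Module QuadraticMap Cfsg.Agent.Class.Orth Cfsg.Agent.KSG Cfsg.Agent.PLocal.Amb
  Cfsg.Agent.Lyons
open scoped commutatorElement

variable {F V : Type*} [Field F] [Finite F] [CharP F 2] [AddCommGroup V] [Module F V]
  [FiniteDimensional F V] {Q : QuadraticForm F V}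

local notation "𝐟" => polar Q

variable {u e m w w' x y : V} {k k' : OG Q} {a : F}

local notation "ℓ" => Submodule.span F (insert u (Singleton.singleton e) : Set V)

variable (u e) in
/-- the commutator space of `k` on `ℓ^⊥ / ℓ` -/
def Rk (k : OG Q) : Submodule F (V ⧸ ℓ) := (perp Q ℓ).map ((ℓ).mkQ ∘ₗ movMap k)

theorem mem_Rk {r : V ⧸ ℓ} : r ∈ Rk u e k ↔ ∃ w ∈ perp Q ℓ, (ℓ).mkQ (k.1 w + w) = r :=
  exists_congr fun w => and_congr_right fun _ => by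
    rw [LinearMap.comp_apply, movMap_apply, sub_eq' F, add_comm]

theorem LocB.rk {W W' : Type*} [AddCommGroup W] [Module F W] [AddCommGroup W'] [Module F W'] (P : Submodule F V)
    (f : V →ₗ[F] W) (g : V →ₗ[F] W') (h : ∀ w ∈ P, f w = 0 ↔ g w = 0) :
    finrank F (P.map f) = finrank F (P.map g) := by
  have h1 := LinearMap.finrank_range_add_finrank_ker (f.domRestrict P)
  have h2 := LinearMap.finrank_range_add_finrank_ker (g.domRestrict P)
  rw [LinearMap.range_domRestrict] at h1 h2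
  rw [show LinearMap.ker (f.domRestrict P) = LinearMap.ker (g.domRestrict P) from
    Submodule.ext fun x => h x x.2] at h1
  omega

theorem LocB.zero : ((ℓ).mkQ ∘ₗ movMap k) w = 0 ↔ k.1 w + w ∈ ℓ := by
  rw [LinearMap.comp_apply, movMap_apply, sub_eq' F, add_comm, Submodule.mkQ_apply,
    Submodule.Quotient.mk_eq_zero]

theorem LocB.surj {P : Submodule F V} (h : ∀ y ∈ P, k.1 y ∈ P) (hy : y ∈ P) : ∃ x ∈ P, k.1 x = y := by
  have : P.map (k.1 : V →ₗ[F] V) = P := Submodule.eq_of_le_of_finrank_eq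
    (by rintro _ ⟨y, hy, rfl⟩; exact h y hy) (LinearEquiv.finrank_map_eq _ _)
  rw [← this] at hy
  exact hy

theorem LocB.pl (hx : x ∈ ℓ) (hy : y ∈ perp Q ℓ) : 𝐟 y x = 0 := by rw [polar_comm]; exact hy x hx

/-- rank-nullity for `domRestrict` -/
theorem Rk_congr (h : ∀ w ∈ perp Q ℓ, k.1 w + w ∈ ℓ ↔ k'.1 w + w ∈ ℓ) :
    finrank F (Rk u e k) = finrank F (Rk u e k') :=
  LocB.rk _ _ _ fun w hw => by rw [LocB.zero, LocB.zero, h w hw]

/-- `mov_eichler_le` -/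
theorem Rk_sg (o : Ok Q x y) : finrank F (Rk u e (eichler Q x y)) ≤ 2 := by
  have : Rk u e (eichler Q x y) ≤ (Submodule.span F {x, y}).map (ℓ).mkQ := by
    rintro _ ⟨w, -, rfl⟩
    exact ⟨_, mov_eichler_le o.l o.p ⟨w, rfl⟩, rfl⟩
  exact (Submodule.finrank_mono this).trans ((Submodule.finrank_map_le _ _).trans rtg_rank)

/-- `finrank_perp`, `Rig.ts2`-like, rank-nullity -/
theorem rank_quot (hQ : ND Q) (hu : TI Q ![u, e]) :
    finrank F ((perp Q ℓ).map (ℓ).mkQ) + 4 = finrank F V := by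
  have ts := (ti2_iff.1 hu).1
  have h1 := LinearMap.finrank_range_add_finrank_ker ((ℓ).mkQ.domRestrict (perp Q ℓ))
  have h2 := finrank_perp hQ ℓ
  have h3 := finrank_span_eq_card hu.li
  have le : ℓ ≤ perp Q ℓ := Submodule.span_le.2 (by
    rintro _ (rfl | rfl)
    exacts [rtg_u ts, rtg_e ts])
  rw [Matrix.range_cons_cons_empty, Fintype.card_fin] at h3
  rw [LinearMap.range_domRestrict, LinearMap.ker_domRestrict, Submodule.ker_mkQ,
    (Submodule.comapSubtypeEquivOfLe le).finrank_eq] at h1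
  omega

theorem map_perp (h1 : k.1 u = u) (h2 : k.1 e = e + a • u) (hw : w ∈ perp Q ℓ) : k.1 w ∈ perp Q ℓ := by
  obtain ⟨a1, a2⟩ := mem_perp2''.1 hw
  rw [← OG.map_polar k, h1] at a1
  rw [← OG.map_polar k, h2, polar_add_left, polar_smul_left', a1, mul_zero, add_zero] at a2
  exact mem_perp2''.2 ⟨a1, a2⟩

theorem map_ell (h1 : k.1 u = u) (h2 : k.1 e = e + a • u) (hw : w ∈ ℓ) : k.1 w + w ∈ ℓ := by
  refine add_mem ?_ hw
  obtain ⟨b, c, rfl⟩ := Submodule.mem_span_pair.1 hw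
  rw [map_add, map_smul, map_smul, h1, h2]
  exact Submodule.mem_span_pair.2 ⟨b + c * a, c, by module⟩

theorem LocB.mul (hx : x ∈ ℓ) (o : Ok Q x w) (h : ∀ y ∈ perp Q ℓ, k.1 y ∈ perp Q ℓ) :
    finrank F (Rk u e (eichler Q x w * k)) = finrank F (Rk u e k) :=
  Rk_congr fun y hy => by
    rw [OG.mul_apply, eichler_apply_of_perp o.l o.p (LocB.pl hx (h y hy)), add_right_comm]
    exact Submodule.add_mem_iff_left _ (Submodule.smul_mem _ _ hx)

/-- Frame `f₁, f₂`; `mvO` twice gives `k' = eichler e w' * eichler u w * k` fixing `u, e, f₁, f₂`; the two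
Siegel elements act trivially on `ℓ^⊥ / ℓ` (`Rk_congr`).  For `k'`: `mov k' ≤ W = ⟨u,e,f₁,f₂⟩^⊥`, `mkQ` is
injective on `W`, and `Rk k' = (mov k').map mkQ` (`x - k' x = x₀ - k' x₀` for the projection `x₀ ∈ W`);
`Dm.mem_EG`. -/
theorem par (hd : Dm Q) (hu : TI Q ![u, e]) (h1 : k.1 u = u) (h2 : k.1 e = e + a • u) :
    k ∈ EG Q ↔ Even (finrank F (Rk u e k)) := by
  obtain ⟨f₁, f₂, o1, o2, c1, c2, c3⟩ := exists_frame hd.nd hu
  have ts := (ti2_iff.1 hu).1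
  have mu : u ∈ ℓ := Submodule.subset_span (Or.inl rfl)
  have me : e ∈ ℓ := Submodule.subset_span (Or.inr rfl)
  obtain ⟨w, hw, e1⟩ := mvO o1 h1
  have ok1 : Ok Q u w := ⟨o1.left, hw u h1⟩
  have a1 : (eichler Q u w * k).1 u = u := by rw [OG.mul_apply, h1, eichler_apply_self ok1.l ok1.p]
  have a2 : (eichler Q u w * k).1 e = e := by
    have h3 : (eichler Q u w * k).1 e = e + (a + 𝐟 (e + a • u) w) • u := by
      rw [OG.mul_apply, h2, eichler_apply_of_perp ok1.l ok1.p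
        (LocB.pl mu (add_mem (rtg_e ts) (Submodule.smul_mem _ _ (rtg_u ts)))), add_smul, add_assoc]
    have h4 := OG.map_polar (eichler Q u w * k) e f₁
    rw [e1, h3, polar_add_left, polar_smul_left', o1.pol, mul_one, add_eq_left] at h4
    rw [h3, h4, zero_smul, add_zero]
  rw [← mul_mem_cancel_left (eichler_mem_EG u w), ← LocB.mul mu ok1 fun y hy => map_perp h1 h2 hy]
  generalize eichler Q u w * k = k₁ at *
  obtain ⟨w', hw', e2⟩ := mvO o2 a2
  have ok2 : Ok Q e w' := ⟨o2.left, hw' e a2⟩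
  have b1 : (eichler Q e w' * k₁).1 u = u := by
    rw [OG.mul_apply, a1, eichler_apply_of_perp_perp ts.p (hw' u a1)]
  have b2 : (eichler Q e w' * k₁).1 e = e := by rw [OG.mul_apply, a2, eichler_apply_self ok2.l ok2.p]
  have b3 : (eichler Q e w' * k₁).1 f₁ = f₁ := by
    rw [OG.mul_apply, e1, eichler_apply_of_perp_perp (by rw [polar_comm, c2]) (hw' f₁ e1)]
  rw [← mul_mem_cancel_left (eichler_mem_EG e w'),
    ← LocB.mul me ok2 fun y hy => map_perp (a := 0) a1 (by rw [a2, zero_smul, add_zero]) hy]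
  generalize eichler Q e w' * k₁ = k₂ at *
  have d1 : (perp Q ℓ).map (movMap k₂) = mov k₂ := by
    refine le_antisymm LinearMap.map_le_range ?_
    rintro _ ⟨x, rfl⟩
    refine ⟨x - 𝐟 u x • f₁ - 𝐟 e x • f₂, mem_perp2''.2 ⟨?_, ?_⟩, ?_⟩
    · simp only [polar_sub_right, polar_smul_right', o1.pol, c1]; ring
    · simp only [polar_sub_right, polar_smul_right', o2.pol, c2]; ring
    · simp only [movMap_apply, map_sub, map_smul, b3, e2, sub_self, smul_zero, sub_zero]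
  rw [hd.mem_EG, ← d1, Rk, LocB.rk (perp Q ℓ) ((ℓ).mkQ ∘ₗ movMap k₂) (movMap k₂) fun x _ => ?_]
  rw [LinearMap.comp_apply, Submodule.mkQ_apply, Submodule.Quotient.mk_eq_zero]
  refine ⟨fun h => ?_, fun h => h ▸ zero_mem _⟩
  obtain ⟨b, c, h⟩ := Submodule.mem_span_pair.1 h
  have p1 := polar_fix_mov k₂ b3 x
  have p2 := polar_fix_mov k₂ e2 x
  rw [← movMap_apply, ← h, polar_add_right, polar_smul_right', polar_smul_right'] at p1 p2
  rw [o1.pol', polar_comm Q f₁, c2, mul_one, mul_zero, add_zero] at p1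
  rw [o2.pol', polar_comm Q f₂, c1, mul_one, mul_zero, zero_add] at p2
  rw [← h, p1, p2, zero_smul, zero_smul, add_zero]

/-- Take `n ∈ ℓ^⊥` singular with `𝐟 m n = 1` (`TI.exists_dual`), `y = k n + n ⊥ ℓ, m`,
`k' = eichler m y * k` fixes `n` (`eichler_map`) and fixes `m` modulo `ℓ`.  If `w ⊥ ℓ, m` then
`k' w = w + c m + p`, and `𝐟 (k' w) (k' n) = 𝐟 w n` gives `c = 0`.  So `Rk k' = ⊥`; `par`. -/
theorem triv3 (hd : Dm Q) (hu : TI Q ![u, e, m]) (h1 : k.1 u = u) (h2 : k.1 e = e + a • u)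
    (h3 : k.1 m + m ∈ ℓ) (h4 : ∀ w ∈ perp Q ℓ, 𝐟 m w = 0 → ∃ c : F, k.1 w + w + c • m ∈ ℓ) :
    k ∈ EG Q := by
  obtain ⟨t1, t2, t3, t4⟩ := ti3_iff.1 hu
  have hu' : TI Q ![u, e] := ti2_iff.2 ⟨t1, fun h => one_ne_zero (t4 1 0 0 (by simp [h])).1, fun b h =>
    one_ne_zero (t4 (-b) 1 0 (by simp [h])).2.1⟩
  obtain ⟨n, n0, hn⟩ := TI.exists_dual hd.nd hu ![0, 0, 1] (j := 2) one_ne_zero
  have n1 : n ∈ perp Q ℓ := mem_perp2''.2 ⟨hn 0, hn 1⟩
  have n2 : 𝐟 m n = 1 := hn 2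
  have m1 : m ∈ perp Q ℓ := mem_perp2''.2 ⟨t2.p, t3⟩
  have n3 := map_perp h1 h2 n1
  have km : ∀ y ∈ perp Q ℓ, 𝐟 (k.1 y) m = 𝐟 y m := fun y hy => by
    have := LocB.pl h3 (map_perp h1 h2 hy)
    rw [polar_add_right, OG.map_polar, CharTwo.add_eq_zero] at this
    exact this.symm
  have n4 : 𝐟 (k.1 n) m = 1 := by rw [km n n1, polar_comm, n2]
  have e1 := eichler_map (x := k.1 n) (y := n) t2.r (km n n1) (by rw [n4]; exact one_ne_zero) (OG.map_Q _ _)
  rw [n4, inv_one, one_smul] at e1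
  have y1 : k.1 n - n ∈ perp Q ℓ := sub_mem n3 n1
  have y2 : 𝐟 m (k.1 n - n) = 0 := by rw [polar_sub_right, polar_comm, n4, n2, sub_self]
  generalize k.1 n - n = y at e1 y1 y2
  have fx : ∀ x ∈ ℓ, (eichler Q m y).1 x = x := fun x hx => eichler_apply_of_perp_perp (m1 x hx) (y1 x hx)
  rw [← mul_mem_cancel_left (eichler_mem_EG m y), par (a := a) hd hu'
    (by rw [OG.mul_apply, h1, fx u (Submodule.subset_span (Or.inl rfl))])
    (by rw [OG.mul_apply, h2, fx _ (Submodule.mem_span_pair.2 ⟨a, 1, by module⟩)]),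
    show Rk u e (eichler Q m y * k) = ⊥ from ?_, finrank_bot]
  · exact ⟨0, rfl⟩
  rw [← OG.mul_apply] at e1
  have key : ∀ w ∈ perp Q ℓ, 𝐟 m w = 0 → (eichler Q m y * k).1 w + w ∈ ℓ := fun w hw h0 => by
    obtain ⟨c, hc⟩ := h4 w hw h0
    have e2 : (eichler Q m y * k).1 w + w = k.1 w + w + c • m + (𝐟 (k.1 w) y - c) • m := by
      rw [OG.mul_apply, eichler_apply_of_perp t2.r y2 (by rw [km w hw, polar_comm, h0])]; module
    have e3 : 𝐟 ((eichler Q m y * k).1 w + w) n = 0 := by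
      rw [polar_add_left, CharTwo.add_eq_zero]
      conv_lhs => rw [← e1]
      rw [OG.map_polar]
    rw [e2, polar_add_left, n1 _ hc, polar_smul_left', n2, mul_one, zero_add] at e3
    rwa [e2, e3, zero_smul, add_zero]
  refine eq_bot_iff.2 fun r hr => ?_
  obtain ⟨w, hw, rfl⟩ := mem_Rk.1 hr
  have := key (w - 𝐟 m w • n) (sub_mem hw (Submodule.smul_mem _ _ n1))
    (by rw [polar_sub_right, polar_smul_right', n2, mul_one, sub_self])
  rw [map_sub, map_smul, e1, sub_eq' F, sub_eq' F, add_add_add_comm, add_self' F, add_zero] at this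
  exact (Submodule.Quotient.mk_eq_zero _).2 this

/-- (←) `lam2`; (→) `eichler u (c e)` fixes `ℓ^⊥` -/
theorem cm_iff (hQ : ND Q) (hu : TI Q ![u, e]) (h : ∀ y ∈ perp Q ℓ, k.1 y ∈ perp Q ℓ)
    (h' : ∀ y ∈ perp Q ℓ, k'.1 y ∈ perp Q ℓ) :
    (∃ c : F, ⁅k, k'⁆ = eichler Q u (c • e)) ↔ ∀ y ∈ perp Q ℓ, k.1 (k'.1 y) = k'.1 (k.1 y) := by
  have key : ∀ y, ⁅k, k'⁆.1 (k'.1 (k.1 y)) = k.1 (k'.1 y) := fun y => by
    rw [commutatorElement_def, OG.mul_apply, OG.mul_apply, OG.mul_apply, OG.inv_apply_apply, OG.inv_apply_apply]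
  refine ⟨fun ⟨c, hc⟩ y hy => ?_, fun H => lam2 hQ hu fun y a1 a2 => ?_⟩
  · have := h' _ (h y hy)
    rw [← key, hc, eichler_apply_of_perp_perp (RtA.pu this) (by rw [polar_smul_right', RtA.pe this, mul_zero])]
  · obtain ⟨x, hx, rfl⟩ := LocB.surj h' (mem_perp2''.2 ⟨a1, a2⟩)
    obtain ⟨z, hz, rfl⟩ := LocB.surj h hx
    rw [key, H z hz]

/-- `cm_iff`, `Qq_apply`: `k h y = k y + 𝐟 y w • u + 𝐟 y w' • (e + a u)`,
`h k y = k y + 𝐟 (k y) w • u + 𝐟 (k y) w' • e`, `𝐟 y w = 𝐟 (k y) (k w)`; `k` maps `ℓ^⊥` onto itself;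
`perp_perp`. -/
theorem cmO (hQ : ND Q) (hu : TI Q ![u, e]) (h1 : k.1 u = u) (h2 : k.1 e = e + a • u)
    (hw : w ∈ perp Q ℓ) (hw' : w' ∈ perp Q ℓ) :
    (∃ c : F, ⁅k, (sg Q u w * sg Q e w').1⁆ = eichler Q u (c • e)) ↔
      k.1 w' + w' ∈ ℓ ∧ k.1 w + w + a • w' ∈ ℓ := by
  have ts := (ti2_iff.1 hu).1
  have hk : ∀ y ∈ perp Q ℓ, k.1 y ∈ perp Q ℓ := fun y hy => map_perp h1 h2 hy
  have t := two_zero F
  have mem : ∀ v, v ∈ ℓ ↔ ∀ y ∈ perp Q ℓ, 𝐟 (k.1 y) v = 0 := fun v =>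
    ⟨fun h y hy => LocB.pl h (hk y hy), fun h => perp_perp hQ ℓ ▸ fun y hy => by
      obtain ⟨x, hx, rfl⟩ := LocB.surj hk hy
      exact h x hx⟩
  rw [cm_iff hQ hu hk fun y hy => ?_, mem, mem]
  · have E : ∀ y ∈ perp Q ℓ, k.1 ((sg Q u w * sg Q e w').1.1 y) - (sg Q u w * sg Q e w').1.1 (k.1 y) =
        (𝐟 y w + 𝐟 y w' * a - 𝐟 (k.1 y) w) • u + (𝐟 y w' - 𝐟 (k.1 y) w') • e := fun y hy => by
      rw [Qq_apply ts hw hw' hy, Qq_apply ts hw hw' (hk y hy), map_add, map_add, map_smul, map_smul, h1, h2]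
      module
    simp only [polar_add_right, polar_smul_right', OG.map_polar]
    refine ⟨fun H => ⟨fun y hy => ?_, fun y hy => ?_⟩, fun H y hy => sub_eq_zero.1 ?_⟩
    · obtain ⟨p1, p2⟩ := RtA.indep hu ((E y hy).symm.trans (sub_eq_zero.2 (H y hy)))
      linear_combination p2 + 𝐟 (k.1 y) w' * t
    · obtain ⟨p1, p2⟩ := RtA.indep hu ((E y hy).symm.trans (sub_eq_zero.2 (H y hy)))
      linear_combination p1 - a * p2 + 𝐟 (k.1 y) w * t
    · rw [E y hy, show 𝐟 y w' - 𝐟 (k.1 y) w' = 0 by linear_combination H.1 y hy - 𝐟 (k.1 y) w' * t,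
        show 𝐟 y w + 𝐟 y w' * a - 𝐟 (k.1 y) w = 0 by
          linear_combination H.2 y hy + a * H.1 y hy - (𝐟 (k.1 y) w + a * 𝐟 (k.1 y) w') * t,
        zero_smul, zero_smul, add_zero]
  · rw [Qq_apply ts hw hw' hy]
    exact add_mem (add_mem hy (Submodule.smul_mem _ _ (rtg_u ts))) (Submodule.smul_mem _ _ (rtg_e ts))

end Cfsg.Agent.StdO
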