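import Cfsg.Agent.StdO.RtA

/-! Generation and perfectness of `Fx ℓ` and `𝐳[sg u e]`. -/

set_option autoImplicit false
set_option linter.unusedSectionVars false
set_option linter.unusedVariables false

namespace Cfsg.Agent.StdO

open Subgroup Module QuadraticMap Cfsg.Agent.Class.Orth Cfsg.Agent.KSG Cfsg.Agent.PLocal.Amb
  Cfsg.Agent.Lyons
open Cfsg.Agent.StdL (cjh)
open scoped commutatorElement

variable {F V : Type*} [Field F] [Finite F] [CharP F 2] [AddCommGroup V] [Module F V]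
  [FiniteDimensional F V] {Q : QuadraticForm F V} {G : Type*} [Group G] [Finite G]
  {ι : EG Q →* G} {t : G}

local notation "𝐟" => polar Q

variable {u e : V} {H : Subgroup (EG Q)}

local notation "ℓ" => Submodule.span F (insert u (Singleton.singleton e) : Set V)

/-- `Ω` has index at most two -/
theorem rtg_or (hQ : ND Q) (h3 : 3 ≤ finrank F V) {v₀ : V} (h0 : Q v₀ ≠ 0) (k : OG Q) :
    k ∈ EG Q ∨ k * refl Q v₀ ∈ EG Q := by
  obtain ⟨x, y, o⟩ := hQ.exists_isHyp_of_three_le h3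
  let π := QuotientGroup.mk' (EG Q)
  have e1 : ∀ k, k ∈ EG Q ↔ π k = 1 := fun k => (QuotientGroup.eq_one_iff k).symm
  have e2 : π (refl Q v₀) * π (refl Q v₀) = 1 := by rw [← map_mul, refl_mul_self, map_one]
  have e3 : ∀ k, k * refl Q v₀ ∈ EG Q ↔ π k = π (refl Q v₀) := fun k => by
    rw [e1, map_mul, mul_eq_one_iff_eq_inv, inv_eq_of_mul_eq_one_right e2]
  let K : Subgroup (OG Q) :=
    { carrier := {k | π k = 1 ∨ π k = π (refl Q v₀)}
      one_mem' := .inl (map_one π)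
      mul_mem' := by
        rintro a b (ha | ha) (hb | hb)
        · exact .inl (by rw [map_mul, ha, hb, one_mul])
        · exact .inr (by rw [map_mul, ha, hb, one_mul])
        · exact .inr (by rw [map_mul, ha, hb, mul_one])
        · exact .inl (by rw [map_mul, ha, hb, e2])
      inv_mem' := by
        rintro a (ha | ha)
        · exact .inl (by rw [map_inv, ha, inv_one])
        · exact .inr (by rw [map_inv, ha, inv_eq_of_mul_eq_one_right e2]) }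
  have hK : K = ⊤ := hQ.eq_top_of_refl_eichler K (fun v hv => by
    obtain ⟨r, hr⟩ := isSquare_of_charTwo' (Q v₀ / Q v)
    have r0 : r ≠ 0 := by
      rintro rfl
      exact div_ne_zero h0 hv (by simpa using hr)
    have e4 : Q (r • v) = Q v₀ := by rw [Q_smul, pow_two, ← hr]; field_simp
    refine .inr ((e3 _).1 ?_)
    rw [← refl_smul r0 v]
    exact hQ.refl_mul_refl_mem_EG o (by omega) (e4 ▸ h0) e4)
    fun u v _ _ => .inl ((e1 _).1 (eichler_mem_EG u v))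
  rw [e1, e3]
  exact (hK.ge (mem_top k) : k ∈ K)

/-- an element of `Ω` fixing `W^⊥` lies in `Ω(W)` -/
theorem Dm.rtg_fix (hd : Dm Q) {W : Submodule F V} (hW : NDon Q W) (h3 : 3 ≤ finrank F W)
    {p : V →ₗ[F] W} (hp1 : ∀ w : W, p w = w) (hp2 : ∀ (x : V) (w : W), 𝐟 (x - p x) w = 0)
    (hH : ∀ x ∈ W, ∀ y ∈ W, Ok Q x y → sg Q x y ∈ H) {g : EG Q}
    (hg : ∀ x, g.1.1 (x - p x) = x - p x) : g ∈ H := by
  obtain ⟨k, hk⟩ := (mem_range_extendHom hp1 hp2 hd.nd g.1).2 hg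
  have h1 : EG (Q.comp W.subtype) ≤ (H.map (EG Q).subtype).comap (extendHom W p hp1 hp2) :=
    EG_le fun x y hx hy => by
      rw [polar_comp_subtype] at hy
      rw [mem_comap, extendHom_eichler hp1 hp2 hx hy]
      exact ⟨_, hH _ x.2 _ y.2 ⟨hx, hy⟩, rfl⟩
  obtain ⟨x, hx, x0, -⟩ := exists_singular_mem Q W h3
  obtain ⟨v, hv, v0⟩ := hW.exists_Q_ne_zero hx x0
  rcases rtg_or hW.nd_comp h3 (v₀ := ⟨v, hv⟩) v0 k with c | c
  · obtain ⟨g', hg', e⟩ := h1 c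
    rwa [show g = g' from Subtype.ext (hk.symm.trans e.symm)]
  · obtain ⟨g', -, e⟩ := h1 c
    rw [map_mul, hk, extendHom_refl] at e
    refine absurd ?_ (hd.refl_notMem v0)
    have := (EG Q).mul_mem ((EG Q).inv_mem g.2) g'.2
    rwa [show g'.1 = _ from e, inv_mul_cancel_left] at this

theorem rtg_hproj {x f w : V} (hw : w ∈ perp2 Q x f) : hproj Q x f w = w := by
  rw [hproj, (mem_perp2'.1 hw).1, (mem_perp2'.1 hw).2, zero_smul, zero_smul, sub_zero, sub_zero]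

theorem Dm.rtg_fix4 (hd : Dm Q) {f₁ f₂ : V} (o1 : IsHyp Q u f₁) (o2 : IsHyp Q e f₂)
    (he : e ∈ perp2 Q u f₁) (hf : f₂ ∈ perp2 Q u f₁)
    (hH : ∀ x ∈ perp Q ℓ, ∀ y ∈ perp Q ℓ, Ok Q x y → sg Q x y ∈ H) {g : EG Q}
    (h1 : g.1.1 u = u) (h2 : g.1.1 e = e) (h3 : g.1.1 f₁ = f₁) (h4 : g.1.1 f₂ = f₂) : g ∈ H := by
  let p : V →ₗ[F] ↥(perp2 Q u f₁ ⊓ perp2 Q e f₂) := LinearMap.codRestrict _
    ((perp2 Q e f₂).subtype ∘ₗ o2.proj ∘ₗ (perp2 Q u f₁).subtype ∘ₗ o1.proj) fun x =>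
      ⟨by
        change (o2.proj (o1.proj x) : V) ∈ _
        rw [o2.coe_proj]
        exact hproj_mem_of_mem he hf (o1.proj x).2, (o2.proj _).2⟩
  have hp : ∀ x, (p x : V) = hproj Q e f₂ (hproj Q u f₁ x) := fun x => by
    change (o2.proj (o1.proj x) : V) = _
    rw [o2.coe_proj, o1.coe_proj]
  have d1 := o1.finrank_perp2
  have d2 := o2.finrank_inf_perp2 he hf
  have le : perp2 Q u f₁ ⊓ perp2 Q e f₂ ≤ perp Q ℓ := fun x hx =>
    mem_perp2''.2 ⟨(mem_perp2.1 hx.1).1, (mem_perp2.1 hx.2).1⟩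
  refine hd.rtg_fix ((hd.nd.ndon_perp2 o1).inf_perp2 he hf o2) (by have := hd.d8; omega) (p := p)
    (fun w => Subtype.ext ?_) (fun x w => ?_) (fun x hx y hy => hH x (le hx) y (le hy)) fun x => ?_
  · rw [hp, rtg_hproj w.2.1, rtg_hproj w.2.2]
  · rw [hp, polar_comm, polar_sub_right, polar_hproj w.2.2, polar_hproj w.2.1, sub_self]
  · have e1 : x - p x = 𝐟 x f₁ • u + 𝐟 x u • f₁ +
        (𝐟 (hproj Q u f₁ x) f₂ • e + 𝐟 (hproj Q u f₁ x) e • f₂) := by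
      rw [hp]
      conv_lhs => rw [hproj, hproj]
      conv_rhs => rw [hproj]
      abel
    rw [e1]
    simp only [map_add, map_smul, h1, h2, h3, h4]

theorem rtg_mv {x f : V} (o : IsHyp Q x f) {g : EG Q} (hg : g.1.1 x = x) :
    ∃ w, (∀ z, g.1.1 z = z → 𝐟 z w = 0) ∧ (sg Q x w * g).1.1 f = f := by
  have e1 : ∀ z, g.1.1 z = z → 𝐟 z (g.1.1 f) = 𝐟 z f := fun z hz => by
    conv_lhs => rw [← hz]
    rw [OG.map_polar]
  have e2 : 𝐟 (g.1.1 f) x = 1 := by rw [polar_comm, e1 x hg, o.pol]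
  refine ⟨g.1.1 f - f, fun z hz => by rw [polar_sub_right, e1 z hz, sub_self], ?_⟩
  have := eichler_map (x := g.1.1 f) (y := f) o.left (by rw [e2, o.pol'])
    (by rw [e2]; exact one_ne_zero) (OG.map_Q _ _)
  rwa [e2, inv_one, one_smul] at this

theorem rtg_rank : finrank F ℓ ≤ 2 := by
  classical
  refine (finrank_span_le_card (R := F) ({u, e} : Set V)).trans ?_
  rw [Set.toFinset_insert, Set.toFinset_singleton]
  exact Finset.card_le_two

theorem rtg_sup {U : Submodule F V} (hU : TS Q U) {x : V} (hx : x ∈ perp Q U) (h0 : Q x = 0) :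
    TS Q (U ⊔ Submodule.span F {x}) ∧ finrank F ↥(U ⊔ Submodule.span F {x}) ≤ finrank F U + 1 := by
  refine ⟨hU.sup (ts_span_singleton h0) ((Submodule.span_singleton_le_iff_mem _ _).2 hx),
    (Submodule.finrank_add_le_finrank_add_finrank _ _).trans (Nat.add_le_add_left ?_ _)⟩
  simpa using finrank_span_le_card (R := F) ({x} : Set V)

theorem rtg_symm (h : TI Q ![u, e]) : TI Q ![e, u] := by
  obtain ⟨o, h0, h1⟩ := ti2_iff.1 h
  refine ti2_iff.2 ⟨o.symm, fun c => h1 0 (by rw [c, zero_smul]), fun a c => ?_⟩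
  have a0 : a ≠ 0 := by rintro rfl; exact h0 (by rw [c, zero_smul])
  exact h1 a⁻¹ (by rw [c, inv_smul_smul₀ a0])

theorem rtg_u (h : TS2 Q u e) : u ∈ perp Q ℓ := mem_perp2''.2 ⟨f_self u, h.p'⟩

theorem rtg_e (h : TS2 Q u e) : e ∈ perp Q ℓ := mem_perp2''.2 ⟨h.p, f_self e⟩

/-- (G2) Let `g ∈ Fx ℓ`, frame `f₁, f₂`.  `sg e (g f₂ + f₂)` sends `g f₂` to `f₂` (`eichler_map`),
then `sg u (g f₁ + f₁)` fixes `u, e, f₂` and sends `g f₁` to `f₁`.  Now `g` fixes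
`X = ⟨u,e,f₁,f₂⟩` pointwise.  Let `W = X^⊥` (non-degenerate, `dim ≥ 4`), `N` the subgroup of `OG Q`
generated by `eichler x y`, `x, y ∈ W`, `v₀ ∈ W` non-singular.  `N` is normalized by `refl v`
(`v ∈ W`) and contains `refl v * refl v₀` (`ND.refl_mul_refl_mem_EG` for `Q.comp W.subtype` after
scaling `v`, extended to `V` by `extendHom` of `Class/Orth/Order`).  `ND.mem_of_fixer` with the
subgroup `{k | k ∈ N ∨ k * refl v₀ ∈ N}` and `Dm.refl_notMem` give `g ∈ N`. -/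
theorem Dm.Fx_le (hd : Dm Q) (h : TI Q ![u, e])
    (hH : ∀ x ∈ perp Q ℓ, ∀ y ∈ perp Q ℓ, Ok Q x y → sg Q x y ∈ H) : Fx Q ℓ ≤ H := by
  intro g hg
  obtain ⟨o, -, -⟩ := ti2_iff.1 h
  obtain ⟨f₁, f₂, o1, o2, p1, p2, p3⟩ := exists_frame hd.nd h
  obtain ⟨g1, g2⟩ := mem_Fx2.1 hg
  obtain ⟨w, hw, e1⟩ := rtg_mv o2 g2
  have w1 : w ∈ perp Q ℓ := mem_perp2''.2 ⟨hw u g1, hw e g2⟩
  obtain ⟨k1, k2⟩ := mem_Fx2.1 ((Fx Q ℓ).mul_mem (sg_mem_Fx (rtg_e o) w1) hg)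
  obtain ⟨w', hw', e2⟩ := rtg_mv o1 k1
  have w2 : w' ∈ perp Q ℓ := mem_perp2''.2 ⟨hw' u k1, hw' e k2⟩
  obtain ⟨m1, m2⟩ := mem_Fx2.1 ((Fx Q ℓ).mul_mem (sg_mem_Fx (rtg_u o) w2) (mem_Fx2.2 ⟨k1, k2⟩))
  have := hd.rtg_fix4 o1 o2 (mem_perp2.2 ⟨o.p, by rw [polar_comm, p2]⟩) (mem_perp2.2 ⟨p1, p3⟩) hH
    m1 m2 e2 (by
      change (sg Q u w').1.1 ((sg Q e w * g).1.1 f₂) = f₂
      rw [e1, sg_fix (by rw [polar_comm, p1]) (hw' _ e1)])
  exact (H.mul_mem_cancel_left (hH _ (rtg_e o) _ w1 ⟨o.r, hw e g2⟩)).1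
    ((H.mul_mem_cancel_left (hH _ (rtg_u o) _ w2 ⟨o.l, hw' u k1⟩)).1 this)

/-- (G3) `sg u (s f₂) : e ↦ e + s u`, `sg e (s f₁) : u ↦ u + s e` generate `SL(ℓ)`; `comm_root`. -/
theorem Dm.S_le (hd : Dm Q) (h : TI Q ![u, e]) (h1 : Fx Q ℓ ≤ H)
    (h2 : ∀ y, 𝐟 u y = 0 → sg Q u y ∈ H) (h3 : ∀ y, 𝐟 e y = 0 → sg Q e y ∈ H) :
    𝐳[sg Q u e] ≤ H := by
  obtain ⟨o, -, -⟩ := ti2_iff.1 h
  obtain ⟨f₁, f₂, o1, o2, p1, p2, p3⟩ := exists_frame hd.nd h
  let P : F → F → F → F → Prop := fun a b d d' =>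
    ∀ g : EG Q, g.1.1 u = a • u + b • e → g.1.1 e = d • u + d' • e → g ∈ H
  have P0 : P 1 0 0 1 := fun g e1 e2 => h1 (mem_Fx2.2 ⟨by simpa using e1, by simpa using e2⟩)
  have PA : ∀ s a b d d', P (a + b * s) b (d + d' * s) d' → P a b d d' := by
    intro s a b d d' c g e1 e2
    have q1 : 𝐟 u (s • f₂) = 0 := by rw [polar_smul_right', p1, mul_zero]
    have q2 : (sg Q u (s • f₂)).1.1 u = u := sg_fix (f_self u) q1
    have q3 : (sg Q u (s • f₂)).1.1 e = e + s • u := by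
      rw [sg_apply_perp ⟨o.l, q1⟩ o.p', polar_smul_right', o2.pol, mul_one]
    refine (H.mul_mem_cancel_left (h2 _ q1)).1 (c _ ?_ ?_)
    · change (sg Q u (s • f₂)).1.1 (g.1.1 u) = _
      rw [e1, map_add, map_smul, map_smul, q2, q3]
      module
    · change (sg Q u (s • f₂)).1.1 (g.1.1 e) = _
      rw [e2, map_add, map_smul, map_smul, q2, q3]
      module
  have PB : ∀ s a b d d', P a (b + a * s) d (d' + d * s) → P a b d d' := by
    intro s a b d d' c g e1 e2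
    have q1 : 𝐟 e (s • f₁) = 0 := by rw [polar_smul_right', p2, mul_zero]
    have q2 : (sg Q e (s • f₁)).1.1 e = e := sg_fix (f_self e) q1
    have q3 : (sg Q e (s • f₁)).1.1 u = u + s • e := by
      rw [sg_apply_perp ⟨o.r, q1⟩ o.p, polar_smul_right', o1.pol, mul_one]
    refine (H.mul_mem_cancel_left (h3 _ q1)).1 (c _ ?_ ?_)
    · change (sg Q e (s • f₁)).1.1 (g.1.1 u) = _
      rw [e1, map_add, map_smul, map_smul, q2, q3]
      module
    · change (sg Q e (s • f₁)).1.1 (g.1.1 e) = _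
      rw [e2, map_add, map_smul, map_smul, q2, q3]
      module
  have PC : ∀ a b d d', a * d' - b * d = 1 → b ≠ 0 → P a b d d' := by
    intro a b d d' c b0
    refine PA ((1 - a) / b) _ _ _ _ (PB (-b) _ _ _ _ (PA (-(d + d' * ((1 - a) / b))) _ _ _ _ ?_))
    have e1 : a + b * ((1 - a) / b) = 1 := by field_simp; ring
    have e2 : d' + (d + d' * ((1 - a) / b)) * -b = 1 := by field_simp; linear_combination c
    rw [e1, e2]
    simpa using P0
  intro g hg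
  obtain ⟨a, b, d, d', c, e1, e2⟩ := comm_root hd.nd h (mem_centralizer_singleton_iff.1 hg)
  rw [← CharTwo.sub_eq_add] at c
  by_cases b0 : b = 0
  · subst b0
    refine PB 1 _ _ _ _ (PC _ _ _ _ (by linear_combination c) ?_) g e1 e2
    rw [zero_add, mul_one]
    rintro rfl
    simp at c
  · exact PC _ _ _ _ c b0 g e1 e2

/-- `sg u (a e) = ⁅sg u x, sg e (a y)⁆` for a hyperbolic pair `x, y ∈ ℓ^⊥` -/
theorem Dm.z_mem (hd : Dm Q) (h : TI Q ![u, e]) (a : F) :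
    sg Q u (a • e) ∈ ⁅Qq Q u e, Qq Q u e⁆ := by
  obtain ⟨o, -, -⟩ := ti2_iff.1 h
  obtain ⟨x, hx, y, hy, p⟩ := exists_hyp hd.nd o.ts_span (by
    have := hd.d8; have := rtg_rank (F := F) (u := u) (e := e); omega)
  have z := (perp Q ℓ).zero_mem
  have ay := (perp Q ℓ).smul_mem a hy
  have := cm_Qq o hx z z ay
  rw [polar_smul_right', p.pol, polar_zero_left, mul_one, add_zero] at this
  rw [← this]
  exact commutator_mem_commutator ((mem_Qq o).2 ⟨_, hx, _, z, rfl⟩) ((mem_Qq o).2 ⟨_, z, _, ay, rfl⟩)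

/-- If `x, y` lie in a totally singular `M ⊇ ℓ` with `2 dim M < dim V`, choose `g, y' ∈ M^⊥` with
`𝐟 y' g = 1`; `sg x y = ⁅sg y g, sg x y'⁆` (`cm_sg`). -/
theorem cm_ts (hQ : ND Q) {M : Submodule F V} (hM : TS Q M) (h : 2 * finrank F M < finrank F V)
    {x y : V} (hx : x ∈ M) (hy : y ∈ M) : ∃ g ∈ perp Q M, ∃ y' ∈ perp Q M,
      sg Q x y = ⁅sg Q y g, sg Q x y'⁆ := by
  have h1 := hQ.finrank_perp M
  have h2 : ¬ perp Q M ≤ M := fun c => by have := Submodule.finrank_mono c; omega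
  obtain ⟨y', m1, m2⟩ := SetLike.not_le_iff_exists.1 h2
  obtain ⟨g, hg, e⟩ := exists_perp hQ m2 1
  refine ⟨g, hg, y', m1, ?_⟩
  rw [cm_sg ⟨hM x hx, m1 x hx⟩ (sg_fix (hM.polar_eq hx hy) (hg x hx)),
    sg_apply_perp ⟨hM y hy, hg y hy⟩ (by rw [polar_comm, m1 y hy]), e, one_smul, add_right_comm,
    add_self' F, zero_add]

/-- `perp_induction` for `ℓ`; for singular `w ∈ ℓ^⊥` use `cm_ts` with `M = ℓ + ⟨w⟩`. -/
theorem Dm.QP (hd : Dm Q) (h : TI Q ![u, e]) : Qq Q u e ≤ ⁅Qq Q u e, Fx Q ℓ⁆ := by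
  obtain ⟨o, -, -⟩ := ti2_iff.1 h
  have d8 := hd.d8
  have d2 := rtg_rank (F := F) (u := u) (e := e)
  have key : ∀ x ∈ ℓ, (∀ w ∈ perp Q ℓ, sg Q x w ∈ Qq Q u e) →
      VU Q x (perp Q ℓ) ≤ ⁅Qq Q u e, Fx Q ℓ⁆ := by
    intro x hx hQ
    refine (closure_le _).2 ?_
    rintro _ ⟨w, hw, rfl⟩
    refine perp_induction hd.nd o.ts_span (by omega) (fun w => sg Q x w ∈ ⁅Qq Q u e, Fx Q ℓ⁆)
      (fun y hy y0 => ?_) (fun y hy z hz i1 i2 => ?_) w hw
    · obtain ⟨t1, t2⟩ := rtg_sup o.ts_span hy y0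
      obtain ⟨g, hg, y', hy', c⟩ := cm_ts hd.nd t1 (by omega) (Submodule.mem_sup_left hx)
        (Submodule.mem_sup_right (Submodule.mem_span_singleton_self y))
      rw [c, commutator_comm]
      exact commutator_mem_commutator (sg_mem_Fx hy (perp_anti le_sup_left hg))
        (hQ _ (perp_anti le_sup_left hy'))
    · rw [sg_add ⟨o.ts_span x hx, hy x hx⟩ ⟨o.ts_span x hx, hz x hx⟩]
      exact Subgroup.mul_mem _ i1 i2
  exact sup_le (key u (Submodule.subset_span (by simp)) fun w hw =>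
      mem_sup_left (subset_closure ⟨w, hw, rfl⟩))
    (key e (Submodule.subset_span (by simp)) fun w hw => mem_sup_right (subset_closure ⟨w, hw, rfl⟩))

theorem Dm.rtg_QS (hd : Dm Q) (h : TI Q ![u, e]) : Qq Q u e ≤ ⁅𝐳[sg Q u e], 𝐳[sg Q u e]⁆ :=
  have o := (ti2_iff.1 h).1
  (hd.QP h).trans (commutator_mono ((Qq_le_Fx o).trans (Fx_le_S o)) (Fx_le_S o))

theorem Dm.rtg_su (hd : Dm Q) (h : TI Q ![u, e]) {c : F} (c0 : c ≠ 0) (c1 : c + 1 ≠ 0) {y : V}
    (hy : 𝐟 u y = 0) : sg Q u y ∈ ⁅𝐳[sg Q u e], 𝐳[sg Q u e]⁆ := by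
  obtain ⟨o, -, -⟩ := ti2_iff.1 h
  obtain ⟨k, hk, k1, k2⟩ := hd.exists_S h (a := c) (b := 0) (d := 0) (d' := c⁻¹)
    (by rw [mul_inv_cancel₀ c0, mul_zero, add_zero])
  rw [zero_smul, add_zero] at k1
  rw [zero_smul, zero_add] at k2
  have c2 : c * c + 1 ≠ 0 := fun q => c1 (by
    have : (c + 1) ^ 2 = 0 := by rw [CharTwo.add_sq, one_pow, pow_two, q]
    exact pow_eq_zero_iff two_ne_zero |>.1 this)
  obtain ⟨z, rfl⟩ : ∃ z, y = (c * c + 1) • z := ⟨(c * c + 1)⁻¹ • y, (smul_inv_smul₀ c2 y).symm⟩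
  have hz : 𝐟 u z = 0 := by
    rw [polar_smul_right'] at hy
    exact (mul_eq_zero.1 hy).resolve_left c2
  have e1 : 𝐟 u (k.1.1 z) = 0 := by
    have := OG.map_polar k.1 u z
    rw [k1, polar_smul_left', hz] at this
    exact (mul_eq_zero.1 this).resolve_left c0
  have e2 : 𝐟 e (k.1.1 z) = c * 𝐟 e z := by
    rw [← OG.map_polar k.1 e z, k2, polar_smul_left', mul_inv_cancel_left₀ c0]
  have oz : Ok Q u z := ⟨o.l, hz⟩
  have ok : Ok Q u (k.1.1 z) := ⟨o.l, e1⟩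
  have m1 : sg Q u z ∈ 𝐳[sg Q u e] := mem_centralizer_singleton_iff.2 (sg_comm u z e)
  have m2 := commutator_mem_commutator hk m1
  rw [commutatorElement_def, conj_sg, k1, sg_smul ok, sg_inv, ← sg_add (ok.smul c) oz] at m2
  have hw : c • k.1.1 z + z + (c * c + 1) • z ∈ perp Q ℓ := mem_perp2''.2 ⟨by
    simp only [polar_add_right, polar_smul_right', e1, hz]; ring, by
    simp only [polar_add_right, polar_smul_right', e2]
    linear_combination (c * c + 1) * 𝐟 e z * two_zero F⟩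
  have m3 := hd.rtg_QS h (mem_sup_left (subset_closure ⟨_, hw, rfl⟩))
  rw [sg_add ((ok.smul c).add oz) (oz.smul _)] at m3
  exact (mul_mem_cancel_left m2).1 m3

theorem Dm.rtg_fx (hd : Dm Q) (h : TI Q ![u, e]) {c : F} (c0 : c ≠ 0) (c1 : c + 1 ≠ 0) :
    Fx Q ℓ ≤ ⁅𝐳[sg Q u e], 𝐳[sg Q u e]⁆ := by
  obtain ⟨o, -, -⟩ := ti2_iff.1 h
  refine hd.Fx_le h fun x hx y hy p => ?_
  by_cases hl : x ∈ ℓ
  · refine hd.rtg_QS h ((mem_Qq' hd.nd h).2 ⟨sg_mem_Fx hx hy, fun z hz => ?_⟩)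
    rw [sg_apply_perp p (by rw [polar_comm, hz x hl]), add_right_comm, add_self' F, zero_add]
    exact Submodule.smul_mem _ _ hl
  obtain ⟨x₀, m0, q0⟩ := exists_perp hd.nd hl 1
  have o' := isHyp_of_polar_eq_one p.l q0
  have m1 := Submodule.sub_mem _ m0 (Submodule.smul_mem _ (Q x₀) hx)
  generalize x₀ - Q x₀ • x = x' at o' m1
  have e1 : sg Q x y = sg Q x (hproj Q x x' y) := Subtype.ext (eichler_hproj o' p.p)
  have m2 := hproj_mem_of_mem (Q := Q) hx m1 hy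
  have m3 := mem_perp2'.1 (o'.hproj_mem y)
  rw [e1]
  generalize hproj Q x x' y = y' at m2 m3
  let k : EG Q := ⟨hypScale Q x x' c, hd.hypScale_mem o' c0⟩
  have k0 : ∀ z, 𝐟 z x = 0 → 𝐟 z x' = 0 → k.1.1 z = z := fun z z1 z2 => by
    rw [o'.hypScale_apply c0, z1, z2, mul_zero, mul_zero, zero_smul, zero_smul, add_zero, add_zero]
  have k1 : k.1.1 x = c • x := by
    rw [o'.hypScale_apply c0, o'.pol, o'.ee]
    module
  have k2 : k ∈ Fx Q ℓ := fun z hz => k0 z (hx z hz) (m1 z hz)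
  have oy : Ok Q x ((c + 1)⁻¹ • y') := Ok.smul ⟨p.l, by rw [polar_comm, m3.1]⟩ _
  have m4 := commutator_mem_commutator (Fx_le_S o k2)
    (Fx_le_S o (sg_mem_Fx hx (Submodule.smul_mem _ (c + 1)⁻¹ m2)))
  rwa [commutatorElement_def, conj_sg, k1, map_smul, k0 _ m3.1 m3.2, sg_smul oy, sg_inv,
    ← sg_add (oy.smul c) oy, show c • (c + 1)⁻¹ • y' + (c + 1)⁻¹ • y' = y' by
      conv_rhs => rw [← smul_inv_smul₀ c1 y', add_smul, one_smul]] at m4

/-- `q = 2` (`dim ≥ 10`): `Fx_le`; `perp_induction` for `ℓ + ⟨x⟩` reduces to singular `y`; `cm_ts`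
with `M = ℓ + ⟨x, y⟩`.  `q > 2`: take `c ≠ 0, 1`.  Generators `sg x y`, `x ∈ ℓ^⊥ \ ℓ`: partner
`x' ∈ ℓ^⊥`, wlog `y ⊥ x'` (`eichler_hproj`), `⁅hypScale x x' c, sg x y'⁆ = sg x ((c+1) y')`.
Generators `sg u y`, `y ⊥ u` (the same for `e`, and for `x ∈ ℓ`, `y ∈ ℓ^⊥` by `sg_add_left`-type
product `sg (a u + b e) y ∈ Qq`): `h = hypScale u f₁ c * hypScale e f₂ c⁻¹ ∈ 𝐳[sg u e]`,
`y = α e + β f₂ + w` mod `u`, `h (sg u y) h⁻¹ = sg u (α e + c² β f₂ + c w)`; `z_mem`. -/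
theorem Dm.pf (hd : Dm Q) (h : TI Q ![u, e]) : StdZ.Pf (PP Q u e) := by
  obtain ⟨o, -, -⟩ := ti2_iff.1 h
  unfold PP StdZ.Pf
  split_ifs with hq
  · have d := hd.q2 hq
    have d2 := rtg_rank (F := F) (u := u) (e := e)
    refine hd.Fx_le h fun x hx y hy p => ?_
    obtain ⟨t1, t2⟩ := rtg_sup o.ts_span hx p.l
    have mx : x ∈ ℓ ⊔ Submodule.span F {x} :=
      Submodule.mem_sup_right (Submodule.mem_span_singleton_self x)
    refine perp_induction hd.nd t1 (by omega) (fun w => sg Q x w ∈ ⁅Fx Q ℓ, Fx Q ℓ⁆)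
      (fun y hy y0 => ?_) (fun y hy z hz i1 i2 => ?_) y fun z hz => ?_
    · obtain ⟨t3, t4⟩ := rtg_sup t1 hy y0
      obtain ⟨g, hg, y', hy', c⟩ := cm_ts hd.nd t3 (by omega) (Submodule.mem_sup_left mx)
        (Submodule.mem_sup_right (Submodule.mem_span_singleton_self y))
      rw [c]
      exact commutator_mem_commutator (sg_mem_Fx (perp_anti le_sup_left hy)
        (perp_anti (le_sup_left.trans le_sup_left) hg))
        (sg_mem_Fx hx (perp_anti (le_sup_left.trans le_sup_left) hy'))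
    · rw [sg_add ⟨p.l, hy x mx⟩ ⟨p.l, hz x mx⟩]
      exact Subgroup.mul_mem _ i1 i2
    · obtain ⟨a, ha, b, hb, rfl⟩ := Submodule.mem_sup.1 hz
      obtain ⟨r, rfl⟩ := Submodule.mem_span_singleton.1 hb
      rw [polar_add_left, hy a ha, polar_smul_left', p.p, mul_zero, add_zero]
  · obtain ⟨c, c0, c1⟩ : ∃ c : F, c ≠ 0 ∧ c ≠ 1 := by
      by_contra! q
      refine hq (Nat.card_eq_two_iff.2 ⟨0, 1, zero_ne_one, Set.eq_univ_of_forall fun c => ?_⟩)
      by_cases c0 : c = 0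
      · exact .inl c0
      · exact .inr (q c c0)
    have c2 : c + 1 ≠ 0 := by rwa [← CharTwo.sub_eq_add, sub_ne_zero]
    refine hd.S_le h (hd.rtg_fx h c0 c2) (fun y hy => hd.rtg_su h c0 c2 hy) fun y hy => ?_
    rw [sg_swap o]
    exact hd.rtg_su (rtg_symm h) c0 c2 hy

/-- `q = 2`: a perfect subgroup of `𝐳[sg u e]` acts trivially on the three non-zero vectors of `ℓ`
(`Equiv.Perm` of a set of size three is solvable). -/
theorem Dm.res (hd : Dm Q) (h : TI Q ![u, e]) (h1 : H ≤ 𝐳[sg Q u e]) (h2 : StdZ.Pf H) :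
    H ≤ PP Q u e := by
  classical
  unfold PP
  split_ifs with hq
  swap
  · exact h1
  have hm : ∀ g : H, ∀ v ∈ ℓ, g.1.1.1 v ∈ ℓ := fun g v hv => by
    obtain ⟨a, b, d, d', -, e1, e2⟩ := comm_root hd.nd h (mem_centralizer_singleton_iff.1 (h1 g.2))
    obtain ⟨r, s, rfl⟩ := Submodule.mem_span_pair.1 hv
    rw [map_add, map_smul, map_smul, e1, e2]
    exact add_mem (Submodule.smul_mem _ _ (Submodule.mem_span_pair.2 ⟨_, _, rfl⟩))
      (Submodule.smul_mem _ _ (Submodule.mem_span_pair.2 ⟨_, _, rfl⟩))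
  let X := {v : ℓ // v ≠ 0}
  let _ : MulAction H X :=
    { smul := fun g x => ⟨⟨g.1.1.1 x.1.1, hm g _ x.1.2⟩, fun c =>
        x.2 (Subtype.ext (g.1.1.1.map_eq_zero_iff.1 (congrArg Subtype.val c)))⟩
      one_smul := fun _ => rfl
      mul_smul := fun _ _ _ => rfl }
  have : Finite ℓ := Module.finite_of_finite F
  have := Fintype.ofFinite ℓ
  have c3 : Nat.card X ≤ 3 := by
    have e1 : Nat.card ℓ ≤ 4 := by
      rw [Module.natCard_eq_pow_finrank (K := F), hq]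
      exact Nat.pow_le_pow_right two_pos rtg_rank
    have := Finite.card_subtype_lt (p := fun v : ℓ => v ≠ 0) (x := 0) (by simp)
    exact Nat.le_of_lt_succ (this.trans_le e1)
  have := alternatingGroup.isMulCommutative_of_card_le_three c3
  have : Group.IsSolvable (alternatingGroup X) := Group.isSolvable_of_comm fun a b => mul_comm' a b
  have : Group.IsSolvable (Equiv.Perm X) := Group.isSolvable_of_ker_le_range
    (alternatingGroup X).subtype Equiv.Perm.sign (by rw [range_subtype]; exact le_rfl)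
  have e1 : (⊤ : Subgroup H) ≤ ⁅(⊤ : Subgroup H), (⊤ : Subgroup H)⁆ := by
    rw [← map_le_map_iff_of_injective H.subtype_injective, map_commutator,
      ← MonoidHom.range_eq_map, range_subtype]
    exact h2
  have e2 : (⊤ : Subgroup H).map (MulAction.toPermHom H X) = ⊥ := by
    by_contra c
    refine (Group.IsSolvable.commutator_lt_of_ne_bot c).not_ge ?_
    rw [← map_commutator]
    exact map_mono e1
  intro g hg v hv
  by_cases v0 : v = 0
  · rw [v0, map_zero]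
  have e3 : MulAction.toPermHom H X ⟨g, hg⟩ = 1 := mem_bot.1 (e2 ▸ mem_map_of_mem _ (mem_top _))
  exact congrArg (fun s : Equiv.Perm X => (s ⟨⟨v, hv⟩, fun c => v0 (congrArg Subtype.val c)⟩).1.1) e3

end Cfsg.Agent.StdO
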